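import Cfsg.Agent.H15.Big9
import Cfsg.Agent.H15.J4T0
import Cfsg.Agent.H15.J4T1
import Cfsg.Agent.H15.J4T2
import Cfsg.Agent.H15.J4T3
import Cfsg.Agent.H15.J4T4
import Cfsg.Agent.H15.J4T5
set_option autoImplicit false
set_option maxRecDepth 100000

namespace Cfsg.Agent.H15.J4
open Cfsg.Agent.H15 Cfsg.Agent.H14

def pT : ℕ := 4224
def pB : List (List ℕ × ℕ) := [([0], 2), ([1], 3), ([0, 1], 23), ([0, 2, 0, 1], 12), ([0, 2, 0, 2, 0, 1, 0, 1], 5), ([0, 1, 0, 1, 0, 2, 0, 1, 0, 2, 0, 1, 0, 2], 4), ([0, 1, 0, 1, 0, 2, 0, 1, 0, 1, 0, 2, 0, 1, 0, 1, 0, 2, 0, 1, 0, 2, 0, 2, 0, 1, 0, 2, 0, 2, 0, 1, 0, 2, 0, 2], 1)]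
def BA : List (List ℕ × ℕ) := [([0], 2), ([1, 0, 1, 0, 2], 3), ([0, 1, 0, 1, 0, 2, 0, 1, 0, 1, 0, 2, 0, 1, 0, 1, 0, 2, 0, 1, 0, 2, 0, 2, 0, 1, 0, 2, 0, 2, 0, 1, 0, 2, 0, 2], 1)]
def BB : List (List ℕ × ℕ) := [([1], 3), ([0, 2, 0, 1, 0, 1, 0], 3), ([1, 0, 2, 0, 2, 0, 1, 0], 5), ([1, 0, 2, 0, 1, 0, 1, 0], 8), ([1, 0, 2, 0, 1, 0, 1, 0, 1, 0, 2, 0, 2, 0, 1, 0, 1, 0, 2, 0, 1, 0, 1, 0, 2, 0, 2, 0, 2, 0, 1, 0], 2)]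
def BL : List (List ℕ × ℕ) := [([2, 0, 1, 0, 1, 0, 2, 0, 1, 0, 1, 0, 1, 1, 0, 2, 0, 1, 0, 1, 0, 1, 0, 2, 0, 1, 0, 1, 0, 1, 0, 2, 0, 1, 0, 1, 0, 1, 0, 2, 0, 1, 0, 1, 0, 1, 0, 2, 0, 1, 0, 1, 0, 1, 0, 2, 0, 1, 0, 1, 0, 1, 0, 2, 0, 1, 0, 1, 0, 1, 0, 2, 0, 1, 0, 1, 0, 2, 0, 2, 0, 2, 0, 1, 0, 2, 0, 2, 0, 1], 1), ([1, 0, 2, 0, 1, 0, 1, 0, 1, 0, 2, 0, 2, 0, 1, 0, 1, 0, 2, 0, 1, 0, 1, 0, 2, 0, 2, 0, 2, 0, 1, 0, 1, 0, 2, 0, 1, 0, 1, 0, 1, 0, 2, 0, 2, 0, 1, 0, 1, 0, 2, 0, 1, 0, 1, 0, 2, 0, 2, 0, 2, 0, 1, 0], 1)]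
def Ts : List ℕ := [1474854005286210474949635019443927, 44353176449960916052491798254293015, 5656953300880114170144349988444897]
theorem Tok : allL Ts A24.okb = true := by decide +kernel
noncomputable def AM : TabAct M24 GolayPt := m24tab Ts Tok
theorem bM : AM.Base ⊤ (List.range 24) := m24tab_base _ _
theorem sM : Sat AM.e (invT pT 3) pB := bM.sat0 (m24tab_ge _ _) (by decide +kernel)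
theorem sML : Sat AM.e (invT pT 3) BL := bM.sat0 (m24tab_ge _ _) (by decide +kernel)
def lbS1 : List (List ℕ) := [[1, 0, 1, 0, 2, 0, 1, 0, 1, 0, 2, 0, 1, 0, 2, 0, 2]]
def lbT1 : List (List ℕ) := lbS1 ++ []
theorem lbk1 : stepOk AM.ap AM.L AM.n id lbS1 [] 1 3 = true := by decide +kernel
def lbS0 : List (List ℕ) := [[0], [1, 0, 1, 0, 2]]
def lbT0 : List (List ℕ) := lbS0 ++ lbT1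
theorem lbk0 : stepOk AM.ap AM.L AM.n id lbS0 lbT1 0 16 = true := by decide +kernel
theorem lb1 : AM.Lower (gp AM.e lbT1) [1] 3 := TabAct.Lower.step (k := 3) (AM.lower_nil _) lbk1
theorem lb0 : AM.Lower (gp AM.e lbT0) [0, 1] 48 := TabAct.Lower.step (k := 16) lb1 lbk0
theorem low48 : 48 * 1 ≤ Nat.card (gp AM.e [[0], [1, 0, 1, 0, 2], [1, 0, 2, 0, 2]]) :=
  lb0.le_card.trans (Subgroup.card_le_of_le (gp_le.mpr fun w hw => by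
    obtain ⟨v, h⟩ := allP_spec (f := fun w v => okW 3 v && eqOn AM.ap AM.L (List.range 24) w (xw [[0], [1, 0, 1, 0, 2], [1, 0, 2, 0, 2]] v)) (l := lbT0) (m := [[0], [1], [1, 0, 1, 0, 2]]) (by decide +kernel) w hw
    exact cl_nth AM.e _ ▸ bM.mem_cl h))
def lmS6 : List (List ℕ) := [[0, 1, 0, 1, 0, 1, 0, 1, 0, 2, 0, 1, 0, 1, 0, 1, 0, 1, 0, 1, 0, 1, 0, 1, 0, 2, 0, 1, 0, 1, 0, 1, 0, 1, 0, 1, 0, 1, 0, 1, 0, 1]]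
def lmT6 : List (List ℕ) := lmS6 ++ []
theorem lmk6 : stepOk AM.ap AM.L AM.n id lmS6 [] 6 3 = true := by decide +kernel
def lmS5 : List (List ℕ) := [[0, 1, 0, 1, 0, 1, 0, 1, 0, 1, 0, 2, 0, 1, 0, 1, 0, 1, 0, 1, 0, 1, 0, 1, 0, 1, 0, 2, 0, 1, 0, 1, 0, 1, 0, 1, 0, 1, 0, 1, 0, 1], [0, 1, 0, 2, 0, 1, 0, 1, 0, 1, 0, 1, 0, 1, 0, 2, 0, 2, 0, 2, 0, 2, 0, 1, 0, 1, 0, 1, 0, 1, 0, 1, 0, 2, 0, 2, 0, 1, 0, 1, 0, 1, 0], [0, 1, 0, 2, 0, 2, 0, 1, 0, 2, 0, 2, 0, 2, 0, 1, 0, 2, 0, 2, 0, 2, 0, 2, 0, 1, 0, 2, 0, 1, 0, 2, 0, 1, 0, 1, 0, 1, 0, 2, 0, 1, 0, 2]]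
def lmT5 : List (List ℕ) := lmS5 ++ lmT6
theorem lmk5 : stepOk AM.ap AM.L AM.n id lmS5 lmT6 5 16 = true := by decide +kernel
def lmS4 : List (List ℕ) := [[1, 0, 2, 0, 2, 0, 1, 0, 1, 0, 1, 0, 2, 0, 2, 0, 1, 0, 1, 0, 1, 0, 1, 0, 1, 0, 2, 0, 1, 0, 2, 0, 2, 0, 2, 0, 2], [2, 0, 2, 0, 1, 0, 2, 0, 1, 0, 1, 0, 2, 0, 2, 0, 2, 0, 1, 0, 1, 0, 2, 0, 1, 0, 2, 0, 2, 0, 2, 0, 2, 0, 1, 0, 1]]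
def lmT4 : List (List ℕ) := lmS4 ++ lmT5
theorem lmk4 : stepOk AM.ap AM.L AM.n id lmS4 lmT5 4 20 = true := by decide +kernel
def lmS3 : List (List ℕ) := [[0, 2, 0, 2, 0, 1, 0, 1, 0, 1, 0, 2, 0, 2, 0, 1, 0, 1, 0, 1, 0, 1, 0], [1, 0, 1, 0, 1, 0, 2, 0, 2, 0, 2, 0, 1, 0, 1, 0, 2, 0, 1, 0, 1, 0, 2, 0]]
def lmT3 : List (List ℕ) := lmS3 ++ lmT4
theorem lmk3 : stepOk AM.ap AM.L AM.n id lmS3 lmT4 3 21 = true := by decide +kernel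
def lmS2 : List (List ℕ) := [[1, 0, 2, 0, 1, 0, 1, 0, 2, 0, 2, 0], [2, 0, 1, 0, 1, 0, 2, 0, 1, 0, 2, 0, 2, 0, 2, 0, 2]]
def lmT2 : List (List ℕ) := lmS2 ++ lmT3
theorem lmk2 : stepOk AM.ap AM.L AM.n id lmS2 lmT3 2 22 = true := by decide +kernel
def lmS1 : List (List ℕ) := [[1, 0]]
def lmT1 : List (List ℕ) := lmS1 ++ lmT2
theorem lmk1 : stepOk AM.ap AM.L AM.n id lmS1 lmT2 1 23 = true := by decide +kernel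
def lmS0 : List (List ℕ) := [[0], [2]]
def lmT0 : List (List ℕ) := lmS0 ++ lmT1
theorem lmk0 : stepOk AM.ap AM.L AM.n id lmS0 lmT1 0 24 = true := by decide +kernel
theorem lm6 : AM.Lower (gp AM.e lmT6) [6] 3 := TabAct.Lower.step (k := 3) (AM.lower_nil _) lmk6
theorem lm5 : AM.Lower (gp AM.e lmT5) [5, 6] 48 := TabAct.Lower.step (k := 16) lm6 lmk5
theorem lm4 : AM.Lower (gp AM.e lmT4) [4, 5, 6] 960 := TabAct.Lower.step (k := 20) lm5 lmk4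
theorem lm3 : AM.Lower (gp AM.e lmT3) [3, 4, 5, 6] 20160 := TabAct.Lower.step (k := 21) lm4 lmk3
theorem lm2 : AM.Lower (gp AM.e lmT2) [2, 3, 4, 5, 6] 443520 := TabAct.Lower.step (k := 22) lm3 lmk2
theorem lm1 : AM.Lower (gp AM.e lmT1) [1, 2, 3, 4, 5, 6] 10200960 := TabAct.Lower.step (k := 23) lm2 lmk1
theorem lm0 : AM.Lower (gp AM.e lmT0) [0, 1, 2, 3, 4, 5, 6] 244823040 := TabAct.Lower.step (k := 24) lm1 lmk0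
theorem topM : cl AM.e 3 = ⊤ :=
  Subgroup.eq_top_of_le_card _ (card_M24.le.trans (lm0.mono (gp_le_cl (by decide +kernel))).le_card)
theorem b48 {H : Type*} [Group H] {E : ℕ → H} (h : Sat E (invT pT 3) pB) : CardLe (gp E [[0], [1, 0, 1, 0, 2], [1, 0, 2, 0, 2]]) (48 * 1) :=
  have h1 : Sat E (invT pT 3) BA := h.vks [[], [([1, 0], 1, true)], [([0], 6, false)]] (by decide +kernel)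
  cardLe_nil.step (J4T0.idx h1.hi h1.hB [[0], [1, 0, 1, 0, 2], [1, 0, 2, 0, 2]] (by decide +kernel)) (by decide +kernel)
theorem lem {H : Type*} [Group H] {E : ℕ → H} (h : Sat E (invT pT 3) pB) : Sat E (invT pT 3) BL :=
  have h1 := h.prod sM
  Sat.of_mem (ks := [[0], [1, 0, 1, 0, 2], [1, 0, 2, 0, 2], [2, 0, 1, 0, 1, 0, 2, 0, 1, 0, 1, 0, 1, 1, 0, 2, 0, 1, 0, 1, 0, 1, 0, 2, 0, 1, 0, 1, 0, 1, 0, 2, 0, 1, 0, 1, 0, 1, 0, 2, 0, 1, 0, 1, 0, 1, 0, 2, 0, 1, 0, 1, 0, 1, 0, 2, 0, 1, 0, 1, 0, 1, 0, 2, 0, 1, 0, 1, 0, 1, 0, 2, 0, 1, 0, 1, 0, 2, 0, 2, 0, 2, 0, 1, 0, 2, 0, 2, 0, 1], [2, 0, 1, 0, 1, 0, 2, 0, 1, 0, 1, 0, 1, 0, 2, 0, 2, 0, 1, 0, 2, 0, 2, 0, 2, 0, 1, 0, 2, 0, 2, 0, 2, 0, 1, 0, 2, 0, 2, 0, 2, 0, 1, 0, 2, 0, 2, 0, 2, 0, 1, 0, 2, 0, 2, 0, 2, 0, 1, 0,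 2, 0, 2, 0, 2, 0, 1, 0, 2, 0, 2, 0, 2, 0, 1, 0, 2, 2, 0, 2, 0, 2, 0, 1, 0, 2, 0, 2, 0, 1], [1, 0, 2, 0, 1, 0, 1, 0, 1, 0, 2, 0, 2, 0, 1, 0, 1, 0, 2, 0, 1, 0, 1, 0, 2, 0, 2, 0, 2, 0, 1, 0, 1, 0, 2, 0, 1, 0, 1, 0, 1, 0, 2, 0, 2, 0, 1, 0, 1, 0, 2, 0, 1, 0, 1, 0, 2, 0, 2, 0, 2, 0, 1, 0], [0, 2, 0, 1, 0, 1, 0, 1, 0, 2, 0, 2, 0, 1, 0, 2, 0, 2, 0, 1, 0, 1, 0, 2, 0, 2, 0, 2, 0, 1, 0, 2, 0, 2, 0, 1, 0, 1, 0, 1, 0, 2, 0, 2, 0, 1, 0, 2, 0, 2, 0, 1, 0, 1, 0, 2, 0, 2, 0, 2, 0, 1, 0, 2]]) h.hi (b48 h1) low48 (J4T1.idx h1.hi h1.hB [[0], [1], [2], [1, 0, 1, 0, 2], [1, 0, 2, 0, 2], [2, 0, 1, 0, 1, 0, 2, 0, 1, 0, 1, 0, 1, 1, 0, 2, 0, 1, 0, 1, 0, 1, 0, 2, 0, 1, 0, 1, 0, 1, 0, 2, 0, 1, 0, 1, 0, 1, 0, 2, 0, 1, 0, 1, 0, 1, 0, 2, 0, 1, 0, 1, 0, 1, 0, 2, 0, 1, 0, 1, 0,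 1, 0, 2, 0, 1, 0, 1, 0, 1, 0, 2, 0, 1, 0, 1, 0, 2, 0, 2, 0, 2, 0, 1, 0, 2, 0, 2, 0, 1], [2, 0, 1, 0, 1, 0, 2, 0, 1, 0, 1, 0, 1, 0, 2, 0, 2, 0, 1, 0, 2, 0, 2, 0, 2, 0, 1, 0, 2, 0, 2, 0, 2, 0, 1, 0, 2, 0, 2, 0, 2, 0, 1, 0, 2, 0, 2, 0, 2, 0, 1, 0, 2, 0, 2, 0, 2, 0, 1, 0, 2, 0, 2, 0, 2, 0, 1, 0, 2, 0, 2, 0, 2, 0, 1, 0, 2, 2, 0, 2, 0, 2, 0, 1, 0, 2, 0, 2, 0, 1], [1, 0, 2, 0, 1, 0, 1, 0, 1, 0, 2, 0, 2, 0, 1, 0, 1, 0, 2, 0, 1, 0, 1, 0, 2, 0, 2, 0, 2, 0, 1, 0, 1, 0, 2, 0, 1, 0, 1, 0, 1, 0, 2, 0, 2, 0, 1, 0, 1, 0, 2, 0, 1, 0, 1, 0, 2, 0, 2, 0, 2, 0, 1, 0], [0, 2, 0, 1, 0, 1, 0, 1, 0, 2, 0, 2, 0, 1, 0, 2, 0, 2, 0, 1, 0, 1, 0, 2, 0, 2, 0, 2, 0, 1, 0, 2, 0, 2, 0, 1, 0, 1, 0, 1, 0, 2, 0, 2, 0, 1, 0, 2, 0, 2, 0, 1, 0, 1, 0, 2, 0, 2, 0, 2, 0, 1, 0, 2]] (by decide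 +kernel)) sML (by decide +kernel)
theorem bound {H : Type*} [Group H] {E : ℕ → H} (h : Sat E (invT pT 3) pB) : CardLe (cl E 3) 244823040 := by
  have h1 : Sat E (invT pT 3) BB := (h.app (lem h)).vks [[([], 1, true)], [([0, 2, 0], 1, true)], [([1, 0], 4, false)], [([2, 0, 2, 0, 2, 0, 1, 0, 2, 0, 2, 0, 1], 7, true)], [([], 8, true)]] (by decide +kernel)
  have c2 : CardLe (gp E [[1], [2]]) (3 * 1) := cardLe_nil.step (J4T2.idx h1.hi h1.hB [[1], [2]] (by decide +kernel)) (by decide +kernel)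
  have c3 : CardLe (gp E [[1], [2], [0, 2, 0, 1, 0, 1, 0], [0, 2, 0, 2, 0, 1, 0]]) (1920 * (3 * 1)) := c2.step (J4T3.idx h1.hi h1.hB [[1], [2], [0, 2, 0, 1, 0, 1, 0], [0, 2, 0, 2, 0, 1, 0]] (by decide +kernel)) (by decide +kernel)
  have c4 : CardLe (gp E [[1], [2], [0, 2, 0, 1, 0, 1, 0], [0, 2, 0, 2, 0, 1, 0], [0, 1, 0, 1, 0, 2, 0, 2, 0], [0, 1, 0, 1, 0, 2, 0, 2, 0]]) (154 * (1920 * (3 * 1))) :=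
    c3.step (J4T4.idx (hs := [[1], [2], [0, 2, 0, 1, 0, 1, 0], [0, 2, 0, 2, 0, 1, 0]]) h.hi h.hB [[0], [1], [2], [0, 2, 0, 1, 0, 1, 0], [0, 2, 0, 2, 0, 1, 0], [0, 1, 0, 1, 0, 2, 0, 2, 0], [0, 1, 0, 1, 0, 2, 0, 2, 0]] (by decide +kernel)) (by decide +kernel)
  rw [cl_eq_gp (ws := [[0], [1], [2]]) (by decide +kernel)]
  exact c4.step (J4T5.idx h.hi h.hB [[0], [1], [2], [0, 2, 0, 1, 0, 1, 0], [0, 2, 0, 2, 0, 1, 0], [0, 1, 0, 1, 0, 2, 0, 2, 0], [0, 1, 0, 1, 0, 2, 0, 2, 0]] (by decide +kernel)) (by decide +kernel)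

end Cfsg.Agent.H15.J4
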