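import Cfsg.Agent.H15.Big10
import Cfsg.Agent.H15.J4.N
set_option autoImplicit false
set_option maxRecDepth 100000

namespace Cfsg.Agent.H15.J4
open Cfsg.Agent.H15 Cfsg.Agent.H14

def σ1 : List (List ℕ) := [[0], [1], [2], [3], [1, 0, 1, 0, 2, 0, 2, 0, 2, 0, 2, 3, 1, 0, 1, 0, 1, 0, 1, 0, 2, 0, 1, 0, 1, 0, 2, 0, 2, 0, 2, 0, 2, 3, 1, 0, 1, 0, 1, 0, 1, 0, 2, 0, 1, 0, 1, 0, 2, 0, 2, 0, 2, 0, 2, 3, 1, 0, 1, 0, 1, 0, 1, 0, 2, 0]]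
def T1 : ℕ := 67899520
def B1 : List (List ℕ × ℕ) := [([4, 1, 4, 2], 1), ([4, 0, 1, 0, 2, 0, 2, 0, 2, 0, 2, 0, 1, 0, 1, 0, 1, 0, 1, 0, 2, 0], 2), ([4, 0, 1, 0, 2, 0, 2, 0, 2, 0, 2, 0, 2, 0, 1, 0, 1, 0, 1, 0, 1, 0, 1, 0, 2, 0], 2), ([4, 0, 1, 0, 1, 0, 1, 0, 2, 0, 2, 0, 1, 0, 2, 0, 2, 0, 2, 0, 2, 0, 2, 0, 2, 0, 2, 0, 4, 0, 1, 0, 1, 0, 1, 0, 1, 0, 1, 0, 1, 0, 1, 0, 2, 0, 1, 0, 1, 0, 2, 0, 2, 0, 2, 0], 1), ([4, 0, 1, 0, 1, 0, 2, 0, 2, 0, 4, 0, 1, 0, 1, 0, 2, 0, 2, 0, 1, 0, 1, 0, 2, 0, 1, 0, 2, 0, 1, 0, 1, 0, 1, 0, 2, 0, 1, 0, 2, 0, 4, 0, 1, 0, 2, 0, 1, 0, 2, 0, 2, 0, 2, 0, 1, 0, 2, 0, 1, 0, 2, 0, 2], 1), ([3, 2, 0, 1, 0, 1, 0, 1, 0,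 2, 0, 1, 0, 4, 0, 2, 0, 1, 0, 2, 0, 2, 0, 2, 0, 1, 3, 2, 0, 1, 0, 1, 0, 1, 0, 2, 0, 1, 0, 4, 0, 2, 0, 1, 0, 2, 0, 2, 0, 2, 0, 1, 0, 1, 0, 2, 0, 1, 0, 2, 0, 1, 0, 2, 0, 1, 0, 2, 0, 2, 0, 1, 0, 1, 0, 2, 0, 1, 0, 2, 0, 2, 0, 2, 0, 2, 0, 1, 0, 2, 0], 1), ([0, 1, 0, 2, 0, 1, 0, 1, 0, 1, 0, 1, 0, 2, 0, 1, 0, 2, 0, 2, 0, 1, 0, 1, 0, 2, 0, 1, 0, 2, 0, 1, 0, 2, 0, 1, 0, 2, 0, 2, 0, 1, 0, 1, 0, 1, 0, 2, 0, 1, 0, 4, 0, 2, 0, 1, 0, 2, 0, 2, 0, 2, 0, 1], 2), ([3, 2, 0, 2, 0, 2, 0, 1, 0, 1, 0, 1, 0, 1, 0, 1, 0, 2, 0, 2, 0, 1, 0, 2, 3, 1, 0, 2, 0, 1, 0, 1, 0, 2, 0, 2, 0, 2, 0, 2, 0, 2, 0, 1, 0, 1, 0, 1], 1)]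
def aft0 : DT := (.node 8 (.node 4 (.node 2 (.node 1 (.leaf ⟨0, [], true, 1, []⟩) (.leaf ⟨1, [], true, 0, []⟩)) (.node 3 (.leaf ⟨1, [0], false, 1, []⟩) (.leaf ⟨1, [1, 0, 1, 0, 2, 0, 2, 0, 1, 0, 1, 0, 1], false, 1, []⟩))) (.node 6 (.node 5 (.leaf ⟨1, [0, 2, 0, 1, 0, 2, 0, 1, 0, 1, 0, 1, 0, 2, 0, 2, 0, 1, 0, 2, 0, 1, 0, 1, 0, 2, 0, 1, 0, 2, 0, 1, 0, 2, 0, 1, 0, 1, 0, 1, 0, 2, 0, 1, 0, 1, 0, 2, 0, 2, 0], false, 1, []⟩) (.leaf ⟨1, [0, 1, 0, 2, 0, 2, 0, 2, 0, 2, 0, 2, 0, 1, 0, 2, 0, 2, 0, 2, 0, 1, 0, 2, 0, 2, 0, 2, 0, 2, 0, 1, 0, 1, 0, 2, 0, 2, 0, 2, 0, 1, 0, 1, 0, 2, 0, 2, 0, 2, 0, 1, 0, 2], false, 1, []⟩)) (.node 7 (.leaf ⟨1, [0, 1,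 0, 1, 0, 2, 0, 1, 0, 1, 0, 1, 0, 2, 0, 2, 0, 1, 0, 2, 0, 2, 0, 2, 0, 1, 0, 1, 0, 2, 0, 1, 0, 1, 0, 1, 0, 1, 0, 1, 0, 2, 0, 2, 0, 1, 0, 2, 0, 2, 0, 1, 0], false, 1, []⟩) (.leaf ⟨1, [0, 1, 0, 1, 0, 2, 0, 1, 0, 1, 0, 1, 0, 2, 0, 2, 0, 1, 0, 2, 0, 2, 0, 2, 0, 1, 0, 1, 0, 1, 0, 2, 0, 1, 0, 1, 0, 2, 0, 2, 0, 2, 0, 1, 0, 2, 0, 2, 0], false, 1, []⟩)))) (.node 12 (.node 10 (.node 9 (.leaf ⟨1, [1, 0, 2, 0, 1, 0, 2, 0, 1, 0, 1, 0, 2, 0, 1, 0, 2], true, 1, [1, 0, 2, 0, 1, 0, 2, 0, 2, 0, 1, 0, 2, 0, 1, 0, 2]⟩) (.leaf ⟨1, [2], true, 2, []⟩)) (.node 11 (.leaf ⟨2, [], true, 1, [2]⟩) (.leaf ⟨2, [0, 1, 0, 1, 0, 1, 0, 2, 0, 1, 0, 1, 0, 1, 0, 2, 0,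 2, 0, 1, 0, 2, 0, 2, 0, 2, 0, 1, 0, 1, 0, 1, 0, 2, 0, 1, 0, 1, 0, 2, 0, 2, 0, 2, 0, 1, 0, 2, 0, 2, 0, 2, 0], false, 2, []⟩))) (.node 14 (.node 13 (.leaf ⟨2, [0, 1, 0, 1, 0, 2, 0, 1, 0, 2, 0, 2, 0, 1, 0, 2, 0, 1, 0, 2, 0, 2, 0, 2, 0, 2, 0, 1, 0, 1, 0, 1, 0, 2, 0, 2, 0, 2, 0, 2, 0, 1, 0, 1], false, 2, []⟩) (.leaf ⟨2, [1], true, 1, [2, 0, 1, 0, 2, 0, 1, 0, 1, 0, 1, 0, 1, 0, 1, 0, 1, 0, 1, 0, 1, 0, 1, 0, 2, 0, 2, 0, 1, 0, 2, 0, 2, 0, 2, 0, 1, 0, 2, 0, 1, 0, 2, 0, 1, 0, 1, 0, 2, 0, 2, 0, 1, 0, 2]⟩)) (.node 15 (.leaf ⟨2, [0, 2, 0, 1, 0, 1, 0, 2, 0, 2, 0, 2, 0, 1, 0, 1, 0, 2, 0, 2, 0, 1, 0, 1, 0, 1, 0, 2, 0, 2, 0, 1, 0, 2, 0, 1, 0, 1,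 0, 1, 0, 1, 0, 2, 0, 1, 0, 2, 0, 1, 0], false, 2, []⟩) (.leaf ⟨2, [1, 0, 1, 0, 1, 0, 2, 0, 1, 0, 2, 0, 1, 0, 1, 0, 1, 0, 2], true, 2, [0, 2, 0, 2, 0, 1, 0, 1, 0, 1, 0, 2, 0, 1, 0, 2, 0, 2, 0, 2, 0, 2, 0, 2, 0, 2, 0, 2, 0, 1, 0, 2, 0, 1, 0, 1, 0, 2, 0, 1, 0, 2, 0, 2, 0, 2, 0, 1, 0, 1, 0, 1, 0, 1, 0, 1, 0]⟩)))))
def aft16 : DT := (.node 24 (.node 20 (.node 18 (.node 17 (.leaf ⟨1, [1, 0, 2], true, 3, []⟩) (.leaf ⟨3, [], true, 1, [1, 0, 2]⟩)) (.node 19 (.leaf ⟨3, [0, 1, 0, 1, 0, 1, 0, 2, 0, 1, 0, 1, 0, 1, 0, 2, 0, 2, 0, 1, 0, 2, 0, 1, 0, 1, 0, 2, 0, 2, 0, 1, 0, 2, 0, 2, 0, 2, 0, 1, 0, 2, 0, 1, 0, 1, 0, 2], false, 3, []⟩) (.leaf ⟨3,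 [0, 2, 0, 2, 0, 1, 0, 2, 0, 1, 0, 2, 0, 2, 0, 2, 0, 1, 0, 1, 0, 2, 0, 1, 0, 1, 0, 1, 0, 2, 0, 1, 0, 1, 0, 1, 0, 1, 0, 1, 0, 2, 0, 2, 0, 2, 0, 1, 0, 2, 0, 1, 0, 2, 0], false, 3, []⟩))) (.node 22 (.node 21 (.leaf ⟨3, [1, 0, 1, 0, 1, 0, 1, 0, 1, 0, 2, 0, 1, 0, 1, 0, 1, 0, 1, 0, 2, 0, 1, 0, 1, 0, 1, 0, 1, 0, 1, 0, 2, 0, 2, 0, 1, 0, 2, 0, 1, 0, 1, 0, 1, 0, 2, 0, 2, 0, 2, 0, 2, 0, 1], false, 3, []⟩) (.leaf ⟨3, [0, 1, 0, 2, 0, 1, 0, 2, 0, 2, 0, 1, 0, 1, 0, 2, 0, 2, 0, 2, 0, 1, 0, 1, 0, 2, 0, 1, 0, 2, 0, 1, 0, 1, 0, 1, 0, 1, 0, 1, 0, 1, 0, 1, 0, 1, 0, 2, 0, 2, 0, 1, 0, 1, 0, 2, 0, 1], false, 3, []⟩)) (.node 23 (.leaf ⟨3, [0, 2, 0, 1, 0,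 1, 0, 1, 0, 2, 0, 1, 0, 2, 0, 2, 0, 2, 0, 1], true, 1, [2, 0, 1, 0, 1, 0, 2, 0, 1, 0, 2, 0, 1, 0, 2, 0, 1, 0, 1, 0, 1, 0, 2, 0, 2, 0, 1, 0, 2, 0, 1, 0, 2, 0, 1, 0, 1, 0, 1, 0, 1, 0, 1, 0, 2, 0, 1, 0]⟩) (.leaf ⟨3, [0, 2, 0, 1, 0, 2, 0, 2, 0, 2, 0, 1, 0, 2, 0, 2, 0, 1, 0, 1, 0, 1, 0, 2, 0, 2, 0, 2, 0, 2, 0, 1, 0, 1, 0, 2, 0, 2, 0, 1, 0, 2, 0, 2, 0, 2, 0, 1, 0, 2, 0, 1, 0, 1, 0], false, 3, []⟩)))) (.node 28 (.node 26 (.node 25 (.leaf ⟨3, [2, 0, 1, 0, 2, 0, 1, 0, 2, 0, 2, 0, 2, 0, 1], true, 2, [1, 0, 1, 0, 2, 0, 1, 0, 1, 0, 2, 0, 2, 0, 2, 0, 2, 0, 2, 0, 1, 0, 1, 0, 1, 0, 1, 0, 1, 0, 1, 0, 1, 0, 2, 0, 1, 0, 1, 0, 2, 0, 2, 0, 2, 0, 1,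 0, 2]⟩) (.leaf ⟨2, [0, 1, 0, 1, 0, 1, 0, 2, 0, 1, 0, 2, 0, 1, 0, 1], true, 3, [1, 0, 2, 0, 2, 0, 1, 0, 2, 0, 1, 0, 1, 0, 1, 0, 2, 0, 2, 0, 1, 0, 2, 0, 2, 0, 2, 0, 1, 0, 2, 0, 1, 0, 2, 0, 1, 0, 2, 0, 1, 0, 2, 0, 2]⟩)) (.node 27 (.leaf ⟨3, [2, 0, 2, 0, 2, 0, 2, 0, 2, 0, 2, 0, 1, 0, 2, 0, 1, 0, 1], true, 3, [2, 0, 2, 0, 1, 0, 1, 0, 1, 0, 2, 0, 1, 0, 1, 0, 2, 0, 2, 0, 2, 0, 2, 0, 2, 0, 1, 0, 2, 0, 2, 0, 1, 0, 2, 0, 1, 0, 1, 0, 1, 0, 1, 0, 1, 0, 2, 0, 2]⟩) (.leaf ⟨2, [0, 2, 0, 2, 0, 1, 0, 2, 0, 1, 0, 2, 0, 1, 0, 2, 0, 1, 0, 1, 0, 2], true, 5, []⟩))) (.node 30 (.node 29 (.leaf ⟨5, [], true, 2, [0, 2, 0, 2, 0, 1, 0, 2, 0, 1, 0, 2, 0, 1,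 0, 2, 0, 1, 0, 1, 0, 2]⟩) (.leaf ⟨5, [0, 1, 0, 2, 0, 1, 0, 2, 0, 2, 0, 2, 0, 1, 0, 1, 0, 2, 0, 2, 0, 2, 0, 2, 0, 1, 0, 2, 0, 1, 0, 2, 0, 2, 0, 2, 0, 1, 0, 2, 0, 1, 0, 1, 0, 2, 0, 2, 0, 1, 0, 2], false, 5, []⟩)) (.node 31 (.leaf ⟨5, [0, 1, 0, 2, 0, 1, 0, 1, 0, 1, 0, 2, 0, 1, 0, 2, 0, 1, 0, 1, 0, 1, 0, 2, 0, 1, 0, 1, 0, 1, 0, 2, 0, 1, 0, 1, 0, 1, 0, 1, 0, 1, 0, 1, 0, 1, 0, 2, 0, 2, 0, 1, 0, 2], false, 5, []⟩) (.leaf ⟨5, [1, 0, 2, 0, 2, 0, 1, 0, 2, 0, 2, 0, 2, 0, 2, 0, 2, 0, 1, 0, 2, 0, 2], true, 2, [2, 0, 1, 0, 1, 0, 2, 0, 1, 0, 2, 0, 2, 0, 2, 0, 1, 0, 2, 0, 2, 0, 2, 0, 2, 0, 2, 0, 2, 0, 2, 0, 1, 0, 2, 0, 1, 0, 2, 0, 2, 0, 1, 0, 1,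 0, 1]⟩)))))
def aft32 : DT := (.node 40 (.node 36 (.node 34 (.node 33 (.leaf ⟨5, [0, 2, 0, 2, 0, 1, 0, 1, 0, 1, 0, 1, 0, 1, 0, 2, 0, 1, 0, 1, 0, 2, 0, 2, 0, 2, 0, 2, 0, 2, 0, 1, 0, 1, 0, 1, 0, 2, 0, 2, 0, 2, 0, 1, 0, 1, 0, 1], false, 5, []⟩) (.leaf ⟨5, [2, 0, 2, 0, 2, 0, 2, 0, 2, 0, 2, 0, 1, 0, 2, 0, 2], true, 3, [2, 0, 2, 0, 1, 0, 2, 0, 2, 0, 2, 0, 2, 0, 1, 0, 1, 0, 2, 0, 2, 0, 1, 0, 1, 0, 1, 0, 1, 0, 1, 0, 2, 0, 2, 0, 1, 0, 1, 0, 1, 0, 2, 0, 2, 0, 2, 0, 1, 0, 1, 0, 1, 0, 1]⟩)) (.node 35 (.leaf ⟨5, [1, 0, 2, 0, 1, 0, 2, 0, 1, 0, 2, 0, 2, 0, 2, 0, 1, 0, 1, 0, 1, 0, 2], true, 5, [1, 0, 2, 0, 1, 0, 2, 0, 2, 0, 1, 0, 2, 0, 1, 0, 2,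 0, 2, 0, 2, 0, 1, 0, 1, 0, 1, 0, 2, 0, 2, 0, 1, 0, 2, 0, 1, 0, 2, 0, 2, 0, 2, 0, 1, 0, 2, 0, 2, 0, 2]⟩) (.leaf ⟨5, [1, 0, 2, 0, 1, 0, 1, 0, 2, 0, 2, 0, 1, 0, 1, 0, 1, 0, 2], true, 5, [1, 0, 2, 0, 1, 0, 1, 0, 2, 0, 2, 0, 1, 0, 1, 0, 1, 0, 2, 0, 2, 0, 1, 0, 2, 0, 1, 0, 2, 0, 1, 0]⟩))) (.node 38 (.node 37 (.leaf ⟨3, [2, 0, 2, 0, 1, 0, 2, 0, 1, 0, 2, 0, 1, 0, 2, 0, 1, 0, 1, 0, 2], true, 7, []⟩) (.leaf ⟨7, [], true, 3, [2, 0, 2, 0, 1, 0, 2, 0, 1, 0, 2, 0, 1, 0, 2, 0, 1, 0, 1, 0, 2]⟩)) (.node 39 (.leaf ⟨7, [0, 2, 0, 2, 0, 2, 0, 1, 0, 2, 0, 2, 0, 1, 0, 2, 0, 1, 0, 1, 0, 2, 0, 1, 0, 2, 0, 1, 0, 2, 0, 1, 0, 2, 0, 2, 0, 2, 0, 2, 0, 1, 0,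 1, 0, 1], false, 7, []⟩) (.leaf ⟨7, [1, 0, 2, 0, 1, 0, 1, 0, 2, 0, 2, 0, 2, 0, 2, 0, 2, 0, 1, 0, 1, 0, 2, 0, 2, 0, 1, 0, 1, 0, 1, 0, 1, 0, 2, 0, 1, 0, 2, 0, 2, 0, 2, 0, 2, 0, 1, 0, 2, 0], false, 7, []⟩)))) (.node 44 (.node 42 (.node 41 (.leaf ⟨7, [1, 0, 2, 0, 1, 0, 1, 0, 2, 0, 2, 0, 1, 0, 2, 0, 2, 0, 2, 0, 2, 0, 1, 0, 1, 0, 1, 0, 1, 0, 2, 0, 1, 0, 2, 0, 1, 0, 2, 0, 2, 0, 2, 0, 2, 0, 1, 0, 2], false, 7, []⟩) (.leaf ⟨7, [0, 1, 0, 2, 0, 2, 0, 2, 0, 2, 0, 2, 0, 2, 0, 2, 0, 2, 0, 1, 0, 2, 0, 2, 0, 1, 0, 1, 0, 1, 0, 1, 0, 1, 0, 2, 0, 1, 0, 1, 0, 1, 0, 2, 0, 2, 0, 1, 0, 1, 0, 1, 0, 1], false, 7, []⟩)) (.node 43 (.leaf ⟨7, [0, 2, 0, 1,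 0, 1, 0, 1, 0, 2, 0, 1, 0, 2, 0, 1, 0, 2, 0, 2, 0, 2, 0, 2, 0, 1, 0, 1, 0, 1, 0, 2, 0, 1, 0, 1, 0, 2, 0, 1, 0, 2, 0, 1, 0, 2, 0, 2, 0, 1, 0, 1, 0, 1, 0, 1], false, 7, []⟩) (.leaf ⟨7, [1, 0, 1, 0, 1, 0, 2, 0, 1, 0, 1, 0, 1, 0, 1, 0, 2, 0, 1, 0, 2, 0, 2, 0, 2, 0, 2, 0, 2, 0, 1, 0, 2, 0, 2, 0, 2, 0, 2, 0, 1, 0, 2, 0, 1], false, 7, []⟩))) (.node 46 (.node 45 (.leaf ⟨7, [0, 2, 0, 2, 0, 2, 0, 1, 0, 1, 0, 1, 0, 2, 0, 2, 0, 2, 0, 2, 0, 1, 0, 1, 0, 1, 0, 1, 0, 2, 0, 1, 0, 2, 0, 2, 0, 1, 0, 2, 0, 1, 0, 2], false, 7, []⟩) (.leaf ⟨7, [0, 1, 0, 2, 0, 2, 0, 2, 0, 2, 0, 2, 0, 1, 0, 2, 0, 2, 0, 2, 0, 1, 0, 2, 0, 2, 0, 2, 0, 2, 0, 1, 0, 1, 0, 2,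 0, 2, 0, 2, 0, 1, 0, 1, 0, 2, 0, 2, 0, 2, 0, 1, 0, 2], false, 7, []⟩)) (.node 47 (.leaf ⟨7, [2, 0, 2, 0, 2, 0, 1, 0, 1, 0, 1, 0, 1, 0, 2, 0, 2, 0, 1, 0, 2, 0, 1, 0, 2], true, 3, [2, 0, 1, 0, 1, 0, 1, 0, 1, 0, 1, 0, 2, 0, 2, 0, 2, 0, 1, 0, 2, 0, 1, 0, 1, 0, 2, 0, 2, 0, 2, 0, 1, 0, 1, 0, 1, 0, 2, 0, 1, 0, 2, 0, 2, 0, 2, 0, 1, 0, 1]⟩) (.leaf ⟨7, [1, 0, 1, 0, 2, 0, 2, 0, 2, 0, 2, 0, 1, 0, 1, 0, 1, 0, 1, 0, 2, 0, 1, 0, 2, 0, 2, 0, 1, 0, 1, 0, 2, 0, 1, 0, 2, 0, 1, 0, 2, 0, 1, 0, 1, 0, 1, 0, 1, 0, 2, 0, 2], false, 7, []⟩)))))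
def aft48 : DT := (.node 53 (.node 50 (.node 49 (.leaf ⟨7, [1, 0, 2, 0, 1, 0, 1, 0, 2, 0, 2, 0, 2, 0, 2], true, 5, [2, 0, 1, 0, 1, 0, 1, 0, 1, 0, 1, 0, 1, 0, 1, 0, 2, 0, 1, 0, 1, 0, 1, 0, 1, 0, 2, 0, 1, 0, 1, 0, 1, 0, 1, 0, 1, 0, 2, 0, 1, 0, 1, 0, 1, 0, 2, 0, 2, 0, 2]⟩) (.leaf ⟨5, [1, 0, 1, 0, 1, 0, 2, 0, 1, 0, 2, 0, 1, 0, 1, 0, 1, 0, 2, 0, 2, 0, 2, 0, 2], true, 7, [1, 0, 1, 0, 2, 0, 1, 0, 2, 0, 2, 0, 2, 0, 2, 0, 2, 0, 2, 0, 1, 0, 2, 0, 2, 0, 2, 0, 1, 0, 1, 0, 1, 0, 2, 0, 2, 0, 1, 0, 1, 0, 1, 0, 1, 0, 1]⟩)) (.node 51 (.leaf ⟨3, [2, 0, 2, 0, 1], true, 8, []⟩) (.node 52 (.leaf ⟨8, [], true, 3, [2, 0, 2, 0, 1]⟩) (.leaf ⟨8, [0, 2, 0,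 1, 0, 1, 0, 1, 0, 2, 0, 1, 0, 2, 0, 2, 0, 2, 0, 1], true, 5, [1, 0, 1, 0, 1, 0, 1, 0, 2, 0, 1, 0, 2, 0, 2, 0, 1, 0, 1, 0, 1, 0, 2, 0, 1, 0, 1, 0, 1, 0, 2, 0, 2, 0, 1, 0, 2, 0, 2, 0, 1, 0, 2, 0, 1, 0, 1, 0, 1, 0, 1, 0, 2, 0, 1]⟩)))) (.node 55 (.node 54 (.leaf ⟨5, [0, 1, 0, 1, 0, 1, 0, 2, 0, 1, 0, 1, 0, 2, 0, 2, 0, 1, 0, 1, 0, 2, 0, 2, 0, 2, 0, 2], true, 8, [1, 0, 1, 0, 2, 0, 2, 0, 1, 0, 1, 0, 1, 0, 1, 0, 2, 0, 1, 0, 2, 0, 1, 0, 1, 0, 2, 0, 2, 0, 1, 0, 1, 0, 1, 0, 1, 0, 2, 0, 2, 0, 2, 0, 2, 0, 2, 0, 1, 0, 1, 0, 2, 0]⟩) (.leaf ⟨8, [0, 2, 0, 1, 0, 1, 0, 1, 0, 1, 0, 1, 0, 2, 0, 2, 0, 2, 0, 2, 0, 2, 0, 1], true, 5, [1, 0, 2, 0, 1, 0,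 2, 0, 1, 0, 1, 0, 1, 0, 1, 0, 2, 0, 1, 0, 2, 0, 2, 0, 2, 0, 1, 0, 2, 0, 1, 0, 1, 0, 1, 0, 1, 0, 1, 0, 1, 0, 2, 0, 2, 0, 2, 0, 1, 0, 1, 0, 1, 0, 1, 0, 2]⟩)) (.node 56 (.leaf ⟨5, [1, 0, 1, 0, 2, 0, 1, 0, 2, 0, 2, 0, 1, 0, 1, 0, 2, 0, 2, 0, 2, 0, 2], true, 8, [1, 0, 2, 0, 2, 0, 2, 0, 2, 0, 1, 0, 1, 0, 1, 0, 2, 0, 2, 0, 2, 0, 1, 0, 2, 0, 1, 0, 2, 0, 1, 0, 1, 0, 1, 0, 1, 0, 1, 0, 1, 0, 2, 0, 1, 0, 1, 0, 2]⟩) (.node 57 (.leaf ⟨8, [1, 0, 2, 0, 2, 0, 1, 0, 1, 0, 1, 0, 2, 0, 1, 0, 2, 0, 2, 0, 2, 0, 1], true, 7, [0, 2, 0, 1, 0, 1, 0, 1, 0, 2, 0, 1, 0, 2, 0, 1, 0, 2, 0, 1, 0, 1, 0, 1, 0, 1, 0, 2, 0, 2, 0, 2, 0, 1, 0, 1, 0, 2, 0, 2, 0, 1, 0,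 1, 0, 1, 0, 2, 0, 2, 0, 2, 0, 2, 0]⟩) (.leaf ⟨7, [1, 0, 1, 0, 2, 0, 2, 0, 2, 0, 1, 0, 2, 0, 2, 0, 2, 0, 2, 0, 2], true, 8, [0, 2, 0, 2, 0, 1, 0, 1, 0, 2, 0, 1, 0, 1, 0, 2, 0, 2, 0, 2, 0, 1, 0, 2, 0, 2, 0, 2, 0, 2, 0, 1, 0, 1, 0, 2, 0, 2, 0, 1, 0, 2]⟩)))))
def aft : DT := (.node 32 (.node 16 aft0 aft16) (.node 48 aft32 aft48))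
def aks : List (List ℕ) := [[0], [1, 0, 1, 0, 2, 0, 2, 0, 1, 0, 1, 0, 1], [2, 0, 2, 0, 2, 0, 1, 0, 1, 0, 2, 0, 2]]
def ars : List (List (List ℕ)) := [[[], []], [[], []], [[1, 0, 2, 0, 1, 0, 2, 0, 1, 0, 1, 0, 2, 0, 1, 0, 2], [1, 0, 2, 0, 1, 0, 2, 0, 1, 0, 1, 0, 2, 0, 1, 0, 2], [1, 0, 2, 0, 1, 0, 2, 0, 1, 0, 1, 0, 2, 0, 1, 0, 2]], [[2, 2, 0, 2, 0, 2, 0, 2, 0, 2, 0, 2, 0, 2, 2, 0, 2, 0, 2, 0], [0, 1, 0, 1, 0, 1, 1, 0, 1, 0, 1, 0, 1, 0, 1, 0, 1, 0, 1, 1, 1, 0, 1, 0, 1, 0, 1, 1, 0, 1, 0, 1, 0, 1, 1, 0, 1, 0, 1, 0, 1], [2, 2, 0, 2, 0, 2, 0, 2, 0, 2, 0, 2, 0, 2, 2, 0, 2, 0, 2, 0], [0, 1, 0, 1, 0, 1, 1, 0, 1, 0, 1, 0, 1, 0, 1, 0, 1, 0,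 1, 1, 1, 0, 1, 0, 1, 0, 1, 1, 0, 1, 0, 1, 0, 1, 1, 0, 1, 0, 1, 0, 1]], [[0, 1, 0, 1, 0, 1, 1, 0, 1, 0, 1, 0, 1, 0, 1, 0, 1, 0, 1, 1, 1, 0, 1, 0, 1, 0, 1, 1, 0, 1, 0, 1, 0, 1, 1, 0, 1, 0, 1, 0, 1], [2, 2, 0, 2, 0, 2, 0, 2, 0, 2, 0, 2, 0, 2, 2, 0, 2, 0, 2, 0], [0, 1, 0, 1, 0, 1, 1, 0, 1, 0, 1, 0, 1, 0, 1, 0, 1, 0, 1, 1, 1, 0, 1, 0, 1, 0, 1, 1, 0, 1, 0, 1, 0, 1, 1, 0, 1, 0, 1, 0, 1], [2, 2, 0, 2, 0, 2, 0, 2, 0, 2, 0, 2, 0, 2, 2, 0, 2, 0, 2, 0]]]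
def aWs : List (List (List ℕ)) := [[], [[]], [[2], []], [[1, 0, 2], []], [[2, 0, 1, 0, 2, 0, 2, 0, 2, 0, 2, 0, 2, 0, 2, 0, 2, 0, 2], [2], []], [[0, 2, 0, 2, 0, 1, 0, 2, 0, 1, 0, 2, 0, 1, 0, 2, 0, 1, 0, 1, 0, 2], [2], []], [[2, 0, 2, 0, 1, 0, 1, 0, 1, 0, 1, 0, 2, 0, 2, 0, 2, 0, 2, 0, 2], [2], []], [[2, 0, 2, 0, 1, 0, 2, 0, 1, 0, 2, 0, 1, 0, 2, 0, 1, 0, 1, 0, 2], [1, 0, 2], []], [[2, 0, 2, 0, 1], [1, 0, 2], []]]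
noncomputable def aP : DP := ⟨AM.ap, 3, [0, 1, 2, 3, 4, 5, 6], invT pT 3, aks, aks, nthR ars, aft.get, nthR aWs⟩
theorem ag0 : aP.Good 0 20 := DP.good_of [⟨0, [], [], []⟩,
  ⟨1, [], [], [⟨0, [], []⟩]⟩,
  ⟨2, [], [], [⟨1, [], []⟩, ⟨0, [0], [0]⟩]⟩,
  ⟨2, [], [], [⟨1, [], []⟩, ⟨0, [2, 0, 2, 0, 2, 0, 1, 0, 1, 0, 2, 0, 2], [1]⟩]⟩,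
  ⟨6, [], [6, 6, 4, 6, 4, 6, 4, 6, 4, 7, 7, 5, 7, 5, 7, 5, 7, 5, 7, 7], []⟩,
  ⟨6, [], [7, 4, 7, 4, 7, 8, 4, 9, 7, 5, 9, 5, 7, 5, 6, 5], []⟩,
  ⟨6, [], [11, 4, 11, 7, 11, 6, 9, 5, 10, 7, 9, 5], []⟩,
  ⟨6, [], [4, 12, 7, 4, 7, 13, 9, 13, 5, 11, 6, 5], []⟩,
  ⟨3, [], [], [⟨1, [], []⟩, ⟨0, [1, 0, 2, 0, 1, 0, 2, 0, 1, 0, 1, 0, 2, 0, 1, 0, 2], []⟩]⟩,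
  ⟨0, [], [], []⟩,
  ⟨1, [], [], [⟨9, [], []⟩]⟩,
  ⟨2, [], [], [⟨10, [], []⟩, ⟨9, [7, 14, 4, 10, 5, 10, 6, 11, 5], [0, 1, 1, 0, 2, 0, 1, 1, 0, 2, 0, 1, 0, 1, 1, 0, 1, 0, 1, 1, 0]⟩]⟩,
  ⟨2, [], [], [⟨10, [], []⟩, ⟨9, [6, 8, 6, 14, 11, 9, 7, 15, 5, 7], [0, 1, 0, 2, 0, 1, 0, 2, 0, 2, 0, 1, 0, 2, 0, 2, 0, 1]⟩]⟩,
  ⟨4, [0, 1, 0, 1, 0, 2, 0, 1, 1, 0, 2, 0, 1, 0, 1, 1], [], [⟨1, [], [2, 0, 2, 0, 2, 0, 1, 0, 1, 0, 1, 0, 1, 0, 1, 1, 0, 2]⟩, ⟨0, [2, 0, 2, 0, 2, 0, 2, 0, 1, 0, 1, 0, 2, 0, 2, 0, 2, 0, 2, 0, 2, 0, 2, 0, 2, 0, 2], [0, 1, 1, 0, 1, 0, 2, 0, 2, 0, 1, 1, 0, 2, 0, 2, 0, 1, 0, 1, 1]⟩, ⟨9, [5, 13, 7, 7, 5], [0, 2, 0, 2, 0, 2, 0, 2,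 0, 2, 0, 1, 0, 1, 0, 2, 0, 2]⟩]⟩,
  ⟨2, [1], [], [⟨13, [], []⟩, ⟨9, [7, 5, 11, 7], [0, 2, 0, 2, 0, 2, 0, 1, 1, 0, 2, 0, 1, 1, 0, 1, 0, 2]⟩]⟩,
  ⟨3, [1, 0, 2, 0, 2, 0, 1, 0, 1, 0, 2, 0, 2, 0, 1, 0, 1, 1, 0, 1], [], [⟨10, [], [2, 0]⟩, ⟨9, [11, 6, 9, 7], [1, 1, 0, 1, 0, 1, 0, 2, 0, 2, 0, 2, 0, 2, 0, 1, 1, 0, 2, 0]⟩]⟩,
  ⟨0, [], [], []⟩,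
  ⟨1, [], [], [⟨16, [], []⟩]⟩,
  ⟨2, [], [], [⟨17, [], []⟩, ⟨16, [8, 4, 6, 13, 5, 7, 5], [2, 0, 1, 0, 2, 0, 1, 0, 1, 0, 2, 0, 1]⟩]⟩,
  ⟨2, [], [], [⟨17, [], []⟩, ⟨16, [4, 8, 4, 10], [0, 2, 0, 1, 0, 1, 0, 1, 1, 0, 1, 1, 0, 1, 1, 0, 1, 0, 1]⟩]⟩] (by decide +kernel)
theorem ag20 : aP.Good 20 40 := DP.good_of [⟨2, [], [], [⟨17, [], []⟩, ⟨16, [4, 6, 10, 9, 11, 7, 5], [0, 1, 0, 1, 0, 1, 0, 1, 1, 0, 2, 0, 1, 0, 1, 1, 0, 1, 1, 0, 2, 0]⟩]⟩,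
  ⟨2, [], [], [⟨17, [], []⟩, ⟨16, [12, 10, 6, 11, 7, 9], [0, 1, 0, 1, 1, 0, 1, 0, 2, 0, 1, 0, 1, 0, 2, 0, 2, 0, 1, 0, 1, 0]⟩]⟩,
  ⟨3, [2, 0, 1, 1, 0, 2, 0, 1, 0, 2, 0, 1], [], [⟨8, [], [0, 2, 0, 1, 0]⟩, ⟨16, [6, 13, 6, 5], [0, 2, 0, 1, 0, 1, 0, 1, 1, 0, 1, 1, 0, 2, 0, 1, 1, 0, 1, 1, 0, 1]⟩]⟩,
  ⟨2, [0, 2, 0, 1, 0, 1, 0, 1, 0, 2, 0, 1, 0, 2, 0, 2, 0, 2, 0, 1], [], [⟨22, [], []⟩, ⟨16, [13, 9, 5], [2, 0, 1, 1, 0, 1, 1, 0, 1, 1, 0, 1, 1, 0, 1, 1]⟩]⟩,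
  ⟨3, [0, 2, 0, 1, 1, 0, 1, 1, 0, 1, 1, 0, 2, 0, 1, 0, 1, 1, 0, 1], [], [⟨10, [], [1, 0, 2, 0]⟩, ⟨16, [7, 5, 9], [0, 1, 0, 2, 0, 1, 0, 1, 0, 1, 0, 1, 1, 0, 1, 0, 1, 0, 1, 1, 0, 2]⟩]⟩,
  ⟨1, [0, 1, 1, 0, 1, 1, 0, 1, 1, 0, 1, 1, 0, 2, 0, 1, 1, 0, 2, 0, 2, 0, 2], [], [⟨24, [], []⟩]⟩,
  ⟨3, [1, 1, 0, 2, 0, 1, 1, 0, 2, 0, 1, 0, 2, 0, 2, 0, 1, 1, 0, 2, 0], [], [⟨17, [], [0, 2, 0, 1, 1]⟩, ⟨16, [9], [1, 0, 1, 0, 2, 0, 2, 0, 1, 1, 0, 1, 1, 0, 2, 0, 2, 0, 1, 0, 1]⟩]⟩,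
  ⟨0, [], [], []⟩,
  ⟨1, [], [], [⟨27, [], []⟩]⟩,
  ⟨2, [], [], [⟨28, [], []⟩, ⟨27, [28, 24, 28], [0, 1, 0, 1, 0, 1, 1, 0, 2, 0, 1, 1, 0, 2, 0, 1, 0, 1, 0]⟩]⟩,
  ⟨2, [], [], [⟨28, [], []⟩, ⟨27, [22, 25, 23], [1, 0, 2, 0, 1, 1, 0, 1, 1, 0, 1, 1, 0, 1, 0, 2]⟩]⟩,
  ⟨3, [2, 0, 1, 1, 0, 2, 0, 2, 0, 1, 1, 0, 1, 0, 2, 0, 1, 0], [], [⟨15, [], [0, 2, 0]⟩, ⟨27, [23], [1, 0, 1, 1, 0, 2, 0, 1, 1, 0, 2, 0, 2, 0, 1, 1, 0, 2]⟩]⟩,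
  ⟨2, [1, 0, 2, 0, 2, 0, 1, 0, 2, 0, 2, 0, 2, 0, 2, 0, 2, 0, 1, 0, 2, 0, 2], [], [⟨31, [], []⟩, ⟨27, [], [1, 1, 0, 2, 0, 1, 1, 0, 1, 0, 1, 0, 2, 0, 1, 0, 1, 1, 0]⟩]⟩,
  ⟨4, [0, 1, 0, 1, 0, 2, 0, 1, 0, 1, 1, 0, 2, 0, 2, 0, 1, 0, 2, 0, 2], [], [⟨17, [], [0, 2, 0, 1, 0, 1, 0, 1, 1, 0, 2, 0, 1, 1, 0, 1, 1]⟩, ⟨9, [13, 5, 7, 5], [0, 2, 0, 2, 0, 1, 1, 0, 2, 0, 1, 1, 0, 1, 0, 1, 0, 2, 0, 2]⟩, ⟨27, [29], [0, 1, 1, 0, 2, 0, 1, 0, 2, 0, 1, 1, 0, 2, 0, 1, 0]⟩]⟩,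
  ⟨3, [2, 0, 1, 0, 1, 0, 1, 0, 1, 0, 1, 0, 2, 0, 1, 0, 1, 1, 0, 1, 0], [], [⟨28, [], [1, 1]⟩, ⟨27, [29], [1, 0, 1, 1, 0, 1, 1, 0, 2, 0, 1, 0, 2, 0, 2, 0, 2, 0]⟩]⟩,
  ⟨3, [1, 0, 1, 1, 0, 1, 1, 0, 1, 1, 0, 1, 0, 1, 1, 0, 1], [], [⟨28, [], [2, 0, 2, 0, 1, 0]⟩, ⟨27, [23], [1, 0, 1, 1, 0, 1, 1, 0, 1, 1, 0, 2, 0, 1, 0, 1, 1]⟩]⟩,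
  ⟨0, [], [], []⟩,
  ⟨1, [], [], [⟨36, [], []⟩]⟩,
  ⟨2, [], [], [⟨37, [], []⟩, ⟨36, [39], [1, 1, 0, 1, 1, 0, 1, 1, 0, 1, 0, 1, 0, 1, 1, 0, 2, 0, 1]⟩]⟩,
  ⟨2, [], [], [⟨37, [], []⟩, ⟨36, [36], [2, 0, 2, 0, 2, 0, 1, 1, 0, 1, 1, 0, 1, 0, 2, 0, 2, 0, 1]⟩]⟩] (by decide +kernel)
theorem ag40 : aP.Good 40 58 := DP.good_of [⟨2, [], [], [⟨37, [], []⟩, ⟨36, [42], [0, 1, 0, 2, 0, 2, 0, 1, 0, 1, 0, 1, 0, 1, 0, 1, 0, 1, 0, 2, 0, 1]⟩]⟩,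
  ⟨6, [], [76, 78, 81, 77, 81, 79, 79, 77, 77], []⟩,
  ⟨2, [], [], [⟨37, [], []⟩, ⟨36, [40], [0, 1, 0, 1, 0, 1, 1, 0, 2, 0, 2, 0]⟩]⟩,
  ⟨2, [], [], [⟨37, [], []⟩, ⟨36, [47], [2, 0, 1, 1, 0, 2, 0, 1, 1, 0, 1, 0, 1, 1, 0, 2]⟩]⟩,
  ⟨6, [], [78, 80, 86, 81, 87, 83, 86, 80], []⟩,
  ⟨6, [], [86, 79, 80, 89, 78, 85, 76], []⟩,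
  ⟨3, [1, 0, 1, 0, 2, 0, 1, 0, 2, 0, 2, 0, 2, 0, 1, 1, 0, 2, 0, 2, 0], [], [⟨26, [], [1, 0]⟩, ⟨36, [], [1, 0, 2, 0, 2, 0, 2, 0, 1, 0, 1, 1, 0, 1, 0]⟩]⟩,
  ⟨2, [2, 0, 2, 0, 2, 0, 1, 0, 1, 0, 1, 0, 1, 0, 2, 0, 2, 0, 1, 0, 2, 0, 1, 0, 2], [], [⟨46, [], []⟩, ⟨36, [], [0, 2, 0, 1, 0, 2, 0, 2, 0, 1, 1, 0, 1, 0, 1, 0, 2, 0, 1, 1]⟩]⟩,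
  ⟨4, [0, 2, 0, 1, 0, 1, 1, 0, 2, 0, 2, 0, 2, 0, 1, 0, 1, 0, 2], [], [⟨28, [], [1, 1, 0, 2, 0, 2, 0, 1, 0, 1, 1, 0, 1, 0, 2, 0, 1, 0, 1, 0]⟩, ⟨25, [29], [2, 0, 2, 0, 2, 0, 1, 0, 1, 0, 1, 0, 1, 0, 1, 0, 1, 0, 1, 1, 0, 2]⟩, ⟨36, [], [0, 1, 0, 2, 0, 1, 0, 2, 0, 2, 0, 1, 1, 0, 1, 0, 2, 0, 1]⟩]⟩,
  ⟨1, [2, 0, 2, 0, 2, 0, 1, 1, 0, 1, 0, 1, 1, 0, 2, 0], [], [⟨48, [], []⟩]⟩,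
  ⟨0, [], [], []⟩,
  ⟨1, [], [], [⟨50, [], []⟩]⟩,
  ⟨3, [0, 1, 0, 2, 0, 2, 0, 1, 1, 0, 2, 0, 2, 0, 1, 0, 2, 0, 1, 1, 0, 2], [], [⟨33, [], []⟩, ⟨50, [42, 38], [1, 0, 1, 0, 1, 0, 2, 0, 2, 0, 2, 0, 2, 0, 1, 1]⟩]⟩,
  ⟨1, [2, 0, 2, 0, 1, 0, 2, 0, 1, 0, 1, 0, 1, 0, 1, 0, 2, 0, 1, 1], [], [⟨52, [], []⟩]⟩,
  ⟨3, [0, 1, 1, 0, 2, 0, 2, 0, 1, 0, 1, 0, 2, 0, 2, 0, 1, 1], [], [⟨34, [], [1, 0, 1, 1]⟩, ⟨53, [65, 61], [0, 2, 0, 1, 0, 1, 0, 2, 0, 2, 0, 1, 0, 1, 1, 0, 1, 1, 0, 1]⟩]⟩,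
  ⟨1, [0, 1, 0, 1, 0, 1, 1, 0, 1, 0, 2, 0, 1, 1, 0, 2], [], [⟨54, [], []⟩]⟩,
  ⟨3, [0, 1, 0, 2, 0, 1, 1, 0, 1, 1, 0, 2, 0, 2, 0, 2, 0, 1, 0, 1], [], [⟨48, [], [0, 1, 0]⟩, ⟨55, [59], [2, 0, 2, 0, 1, 0, 1, 0, 1, 1, 0, 1, 1, 0, 2, 0, 1, 0, 1, 0]⟩]⟩,
  ⟨1, [0, 1, 0, 1, 0, 2, 0, 2, 0, 1, 0, 2, 0, 2, 0, 1, 0, 1, 1, 0, 1], [], [⟨56, [], []⟩]⟩] (by decide +kernel)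
theorem agood : aP.Good 0 58 := (DP.Good.append ag0 (DP.Good.append ag20 ag40))
def ac1 : List (List ℕ × List (List ℕ) × List DO) := [([0, 0], [], []),
  ([1, 2], [], []),
  ([2, 1], [], []),
  ([], [[], []], [⟨0, [], []⟩, ⟨1, [], []⟩]),
  ([1, 0, 1, 0, 2, 0, 2, 0, 2, 0, 2], [[1, 0, 1, 0, 1, 0, 1, 0, 2, 0, 1, 0, 1, 0, 2, 0, 2, 0, 2, 0, 2], [1, 0, 1, 0, 1, 0, 1, 0, 2, 0, 1, 0, 1, 0, 2, 0, 2, 0, 2, 0, 2], [1, 0, 1, 0, 1, 0, 1, 0, 2, 0, 1, 0, 1, 0, 2, 0, 2, 0, 2, 0, 2], [1, 0, 1, 0, 1, 0, 1, 0, 2, 0, 1, 0, 1, 0, 2, 0, 2, 0, 2, 0, 2], [1, 0, 1, 0, 1, 0, 1, 0, 2, 0, 1, 0, 1, 0, 2, 0, 2, 0, 2, 0, 2], [1, 0, 1, 0, 1, 0, 1, 0, 2, 0]], [⟨0,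 [], []⟩, ⟨16, [11, 7, 5], [0, 2, 0, 1, 0, 1, 0, 2, 0, 1, 0, 1, 0, 2, 0, 1, 1]⟩, ⟨36, [], [0, 1, 0, 2, 0, 1, 0, 1, 1, 0, 2, 0, 1, 0, 1, 0, 2, 0, 1, 1]⟩, ⟨37, [91, 95, 79, 95], [1, 0, 1, 0, 1, 0, 2, 0, 2, 0, 2, 0, 2, 0, 1, 1, 0, 2, 0, 1, 0]⟩, ⟨17, [42, 47, 39, 47], [0, 2, 0, 2, 0, 2, 0, 2, 0, 1, 1, 0, 2, 0, 1, 1, 0, 2, 0]⟩, ⟨1, [], [0, 1, 1, 0, 1, 1, 0, 1, 1, 0, 1, 0, 1, 0, 2]⟩])]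
theorem ac1k : allP (fun l c => aP.path 58 3 (subst (nthW σ1) [l, invT T1 σ1.length l]) c) (List.range σ1.length) ac1 = true := by decide +kernel
def ac2 : List (List ℕ × List (List ℕ) × List DO) := [([1, 0, 1, 0, 2, 0, 2, 0, 2, 0, 2], [[1, 0, 1, 0, 1, 0, 1, 0, 2, 0, 1, 0, 1, 0, 2, 0, 2, 0, 2, 0, 2], [1, 0, 1, 0, 1, 0, 1, 0, 2, 0, 1, 0, 1, 0, 2, 0, 2, 0, 2, 0, 2], [1, 0, 1, 0, 1, 0, 1, 0, 2, 0, 1, 1, 0, 1, 0, 2, 0, 2, 0, 2, 0, 2], [1, 0, 1, 0, 1, 0, 1, 0, 2, 0, 1, 0, 1, 0, 2, 0, 2, 0, 2, 0, 2], [1, 0, 1, 0, 1, 0, 1, 0, 2, 0, 1, 0, 1, 0, 2, 0, 2, 0, 2, 0, 2], [1, 0, 1, 0, 1, 0, 1, 0, 2, 0, 2]], [⟨0, [], []⟩, ⟨16, [11, 7, 5], [0,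 2, 0, 1, 0, 1, 0, 2, 0, 1, 0, 1, 0, 2, 0, 1, 1]⟩, ⟨36, [], [0, 1, 0, 2, 0, 1, 0, 1, 1, 0, 2, 0, 1, 0, 1, 0, 2, 0, 1, 1]⟩, ⟨37, [87, 95, 79, 95], [2, 0, 2, 0, 2, 0, 2, 0, 1, 0, 2, 0, 1, 0, 1, 0, 1, 1]⟩, ⟨17, [47], [1, 0, 1, 0, 2, 0, 2, 0, 1, 1, 0, 2, 0, 2, 0, 1, 1, 0, 1]⟩, ⟨1, [], [0, 1, 0, 2, 0, 1, 1, 0, 1, 1, 0, 1, 0, 1, 0, 1, 0, 1, 1]⟩]),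
  ([1, 0, 1, 0, 2, 0, 2, 0, 2, 0, 2], [[1, 0, 1, 0, 1, 0, 1, 0, 2, 0, 1, 0, 1, 0, 2, 0, 2, 0, 2, 0, 2], [1, 0, 1, 0, 1, 0, 1, 0, 2, 0, 1, 0, 1, 0, 2, 0, 2, 0, 2, 0, 2], [1, 0, 1, 0, 1, 0, 1, 0, 2, 0, 0, 1, 0, 2, 0, 2, 0, 2, 0, 2, 0, 1, 0, 1, 0, 1, 0, 1, 0, 2, 0, 1, 0, 1, 0, 2, 0, 2, 0, 2, 0, 2], [1, 0, 1, 0, 1, 0, 1, 0, 2, 0, 1, 0, 1, 0, 2, 0, 2, 0, 2, 0, 2], [1, 0, 1, 0, 1, 0, 1, 0, 2, 0, 1, 0, 1, 0, 2, 0, 2, 0, 2, 0, 2], [1, 0, 1, 0, 1, 0, 1, 0, 2, 0, 0, 1, 0, 2, 0, 2, 0, 2, 0, 2, 0, 1, 0, 1, 0, 1, 0, 1, 0, 2, 0]], [⟨0, [], []⟩, ⟨16, [11, 7, 5], [0, 2, 0, 1, 0, 1, 0, 2, 0, 1, 0, 1, 0, 2, 0, 1, 1]⟩, ⟨36, [], [0, 1, 0, 2, 0, 1,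 0, 1, 1, 0, 2, 0, 1, 0, 1, 0, 2, 0, 1, 1]⟩, ⟨37, [95, 81, 95], [1, 1, 0, 1, 0, 1, 0, 1, 1, 0, 2, 0, 2, 0, 2, 0, 1, 1]⟩, ⟨17, [42, 47, 39, 47], [0, 1, 0, 1, 1, 0, 1, 0, 2, 0, 1, 1, 0, 1, 0, 2]⟩, ⟨1, [], [0, 2, 0, 1, 0, 1, 0, 1, 0, 1, 1, 0, 1, 1, 0, 2]⟩]),
  ([1, 0, 1, 0, 2, 0, 2, 0, 2, 0, 2], [[1, 0, 1, 0, 1, 0, 1, 0, 2, 0, 1, 0, 1, 0, 2, 0, 2, 0, 2, 0, 2], [1, 0, 1, 0, 1, 0, 1, 0, 2, 0, 1, 0, 1, 0, 2, 0, 2, 0, 2, 0, 2], [1, 0, 1, 0, 1, 0, 1, 0, 2, 0, 0, 1, 0, 2, 0, 2, 0, 2, 0, 2, 0, 2, 0, 1, 0, 1, 0, 1, 0, 1, 0, 1, 0, 2, 0, 1, 0, 1, 0, 2, 0, 2, 0, 2, 0, 2], [1, 0, 1, 0, 1, 0, 1, 0, 2, 0, 1, 0, 1, 0, 2, 0, 2, 0, 2, 0, 2], [1, 0,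 1, 0, 1, 0, 1, 0, 2, 0, 1, 0, 1, 0, 2, 0, 2, 0, 2, 0, 2], [1, 0, 1, 0, 1, 0, 1, 0, 2, 0, 0, 1, 0, 2, 0, 2, 0, 2, 0, 2, 0, 2, 0, 1, 0, 1, 0, 1, 0, 1, 0, 1, 0, 2, 0]], [⟨0, [], []⟩, ⟨16, [11, 7, 5], [0, 2, 0, 1, 0, 1, 0, 2, 0, 1, 0, 1, 0, 2, 0, 1, 1]⟩, ⟨36, [], [0, 1, 0, 2, 0, 1, 0, 1, 1, 0, 2, 0, 1, 0, 1, 0, 2, 0, 1, 1]⟩, ⟨37, [79, 95], [1, 0, 1, 0, 2, 0, 1, 1, 0, 2, 0, 2, 0, 1, 0, 1]⟩, ⟨17, [43, 47], [0, 2, 0, 1, 1, 0, 1, 0, 1, 0, 2, 0, 2, 0, 1, 0, 1, 0, 2, 0, 1]⟩, ⟨1, [], [2, 0, 1, 1, 0, 1, 0, 1, 0, 2, 0, 1, 0, 1, 1, 0, 1, 1, 0, 2, 0]⟩]),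
  ([1, 0, 1, 0, 2, 0, 2, 0, 2, 0, 2], [[1, 0, 1, 0, 1, 0, 1, 0, 2, 0, 1, 0, 1, 0, 2, 0, 2, 0, 2, 0, 2], [1, 0, 1, 0, 1, 0, 1, 0, 2, 0, 1, 0, 1, 0, 2, 0, 2, 0, 2, 0, 2], [1, 0, 1, 0, 1, 0, 1, 0, 2, 0, 0, 1, 0, 1, 0, 1, 0, 2, 0, 2, 0, 1, 0, 2, 0, 2, 0, 2, 0, 2, 0, 2, 0, 2, 0, 2, 0, 1, 0, 1, 0, 2, 0, 2, 0, 2, 0, 2], [1, 0, 1, 0, 1, 0, 1, 0, 2, 0, 1, 0, 1, 0, 2, 0, 2, 0, 2, 0, 2], [1, 0, 1, 0, 1, 0, 1, 0, 2, 0, 1, 0, 1, 0, 2, 0, 2, 0, 2, 0, 2], [1, 0, 1, 0, 1, 0, 1, 0, 2, 0, 0, 1, 0, 1, 0, 1, 0, 1, 0, 1, 0, 1, 0, 1, 0, 2, 0, 1, 0, 1, 0, 2, 0, 2, 0, 2, 0]], [⟨0, [], []⟩, ⟨16, [11, 7, 5], [0, 2, 0, 1, 0, 1, 0, 2, 0, 1, 0, 1, 0, 2, 0,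 1, 1]⟩, ⟨36, [], [0, 1, 0, 2, 0, 1, 0, 1, 1, 0, 2, 0, 1, 0, 1, 0, 2, 0, 1, 1]⟩, ⟨37, [95], [0, 1, 0, 2, 0, 1, 0, 1, 0, 1, 1, 0, 1, 0, 2, 0, 2, 0]⟩, ⟨17, [47, 43, 47], [0, 2, 0, 1, 0, 2, 0, 1, 0, 2, 0, 1, 0, 1, 0, 2, 0]⟩, ⟨1, [], [2, 0, 1, 0, 2, 0, 1, 0, 2, 0, 1, 0, 1, 0, 1, 1, 0, 1, 0, 2, 0]⟩]),
  ([1, 0, 1, 0, 2, 0, 2, 0, 2, 0, 2], [[1, 0, 1, 0, 1, 0, 1, 0, 2, 0, 1, 0, 1, 0, 2, 0, 2, 0, 2, 0, 2], [1, 0, 1, 0, 1, 0, 1, 0, 2, 0, 1, 0, 1, 0, 2, 0, 2, 0, 2, 0, 2], [1, 0, 1, 0, 1, 0, 1, 0, 2, 0, 0, 1, 0, 1, 0, 2, 0, 2, 0, 1, 0, 1, 0, 2, 0, 2, 0, 2, 0, 2], [1, 0, 1, 0, 1, 0, 1, 0, 2, 0, 1, 0, 1, 0, 2, 0, 2, 0, 2, 0, 2], [1, 0, 1, 0,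 1, 0, 1, 0, 2, 0, 1, 0, 1, 0, 2, 0, 2, 0, 2, 0, 2], [1, 0, 1, 0, 1, 0, 1, 0, 2, 0, 0, 1, 0, 1, 0, 2, 0, 2, 0, 1, 0, 1, 0, 2, 0, 1, 0, 2, 0, 1, 0, 1, 0, 1, 0, 2, 0, 1, 0, 2, 0, 1, 0, 1, 0, 2, 0, 2, 0, 2, 0, 2], [1, 0, 1, 0, 1, 0, 1, 0, 2, 0, 1, 0, 1, 0, 2, 0, 2, 0, 2, 0, 2], [1, 0, 1, 0, 1, 0, 1, 0, 2, 0, 1, 0, 1, 0, 2, 0, 2, 0, 2, 0, 2], [1, 0, 1, 0, 1, 0, 1, 0, 2, 0, 0, 1, 0, 2, 0, 1, 0, 2, 0, 2, 0, 2, 0, 1, 0, 2, 0, 1, 0, 2, 0, 2]], [⟨0, [], []⟩, ⟨16, [11, 7, 5], [0, 2, 0, 1, 0, 1, 0, 2, 0, 1, 0, 1, 0, 2, 0, 1, 1]⟩, ⟨36, [], [0, 1, 0, 2, 0, 1, 0, 1, 1, 0, 2, 0, 1, 0, 1, 0, 2, 0, 1, 1]⟩, ⟨57, [85, 95, 90, 77], [2, 0, 1, 0, 2, 0,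 1, 0, 1, 0, 1, 1, 0, 1, 1, 0, 1, 0]⟩, ⟨51, [], [0, 2, 0, 1, 0, 1, 1, 0, 1, 0, 2, 0, 1, 0, 1, 0, 2, 0, 1, 1]⟩, ⟨36, [], [1, 0, 2, 0, 1, 0, 1, 1, 0, 1, 1, 0, 1, 1, 0, 1, 0, 1, 0, 1, 0, 1]⟩, ⟨37, [87, 95, 79, 95], [2, 0, 2, 0, 2, 0, 1, 0, 1, 0, 2, 0, 2, 0, 2, 0, 2]⟩, ⟨17, [43, 47], [0, 1, 1, 0, 2, 0, 1, 0, 2, 0, 1, 1, 0, 1, 0, 1, 0, 1, 0, 1, 0, 1]⟩, ⟨1, [], [2, 0, 1, 0, 1, 0, 1, 1, 0, 1, 0, 1, 1, 0, 2, 0]⟩]),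
  ([], [[2, 0, 1, 0, 1, 0, 1, 0, 2, 0, 1, 0, 1, 0, 1, 0, 2, 0, 2, 0, 2, 0, 2], [1, 0, 1, 0, 1, 0, 1, 0, 2, 0, 1, 0, 1, 0, 2, 0, 2, 0, 2, 0, 2], [1, 0, 1, 0, 1, 0, 1, 0, 2, 0, 1, 0, 1, 0, 2, 0, 2, 0, 2, 0, 2], [1, 0, 1, 0, 1, 0, 1, 0, 2, 0, 0, 2, 0, 1, 0, 2, 0, 2, 0, 2, 0, 1], [2, 0, 1, 0, 1, 0, 1, 0, 2, 0, 1, 0, 1, 0, 1, 0, 2, 0, 2, 0, 2, 0, 2], [1, 0, 1, 0, 1, 0, 1, 0, 2, 0, 1, 0, 1, 0, 2, 0, 2, 0, 2, 0, 2], [1, 0, 1, 0, 1, 0, 1, 0, 2, 0, 1, 0, 1, 0, 2, 0, 2, 0, 2, 0, 2], [1, 0, 1, 0, 1, 0, 1, 0, 2, 0, 0, 2, 0, 1, 0, 2, 0, 2, 0, 2, 0, 1, 0, 1, 0, 2, 0, 1, 0, 2, 0, 1, 0, 2, 0, 1, 0, 2, 0, 2, 0, 1, 0, 1, 0, 2, 0, 1, 0, 2, 0, 2, 0,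 2, 0, 2, 0, 1, 0, 2, 0]], [⟨0, [], []⟩, ⟨9, [7, 15, 10, 7], [1, 0, 2, 0, 2, 0, 2, 0, 2, 0, 2, 0, 2, 0, 2, 0, 1, 0, 2, 0]⟩, ⟨27, [23], [1, 0, 1, 0, 2, 0, 2, 0, 1, 1, 0, 1, 0, 2, 0, 1, 0]⟩, ⟨35, [59, 65], [0, 1, 0, 1, 0, 1, 1, 0, 2, 0, 1, 0, 1, 0, 2, 0, 1, 1, 0, 1, 1]⟩, ⟨49, [], [0, 1, 0, 1, 1, 0, 1, 0, 1, 1, 0, 1, 1, 0, 1]⟩, ⟨37, [87, 95], [1, 1, 0, 1, 1, 0, 2, 0, 1, 1, 0, 1, 1, 0, 2, 0, 2, 0, 1, 1, 0]⟩, ⟨17, [42, 47, 39, 47], [0, 1, 0, 1, 0, 1, 1, 0, 1, 0, 1, 0, 2, 0, 2, 0, 1]⟩, ⟨1, [], [0, 1, 1, 0, 2, 0, 1, 0, 1, 1, 0, 2, 0, 1, 1, 0, 2, 0, 1, 0, 2]⟩]),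
  ([0, 1, 0, 2, 0, 1, 0, 1, 0, 1, 0, 1, 0, 2, 0, 1, 0, 2, 0, 2, 0, 1, 0, 1, 0, 2, 0, 1, 0, 2, 0, 1, 0, 2, 0, 1, 0, 2, 0, 2, 0, 1, 0, 1, 0, 1, 0, 2, 0, 1, 0, 1, 0, 1, 0, 2, 0, 2, 0, 2, 0, 2], [[1, 0, 1, 0, 1, 0, 1, 0, 2, 0, 1, 0, 1, 0, 2, 0, 2, 0, 2, 0, 2], [1, 0, 1, 0, 1, 0, 1, 0, 2, 0, 1, 0, 1, 0, 2, 0, 2, 0, 2, 0, 2], [1, 0, 1, 0, 1, 0, 1, 0, 2, 0, 0, 2, 0, 1, 0, 2, 0, 2, 0, 2, 0, 1, 0, 1, 0, 2, 0, 1, 0, 1, 0, 1, 0, 1, 0, 2, 0, 1, 0, 2, 0, 2, 0, 1, 0, 1, 0, 2, 0, 1, 0, 2, 0, 1, 0, 2, 0, 1, 0, 2, 0, 2, 0, 1, 0, 1, 0, 1, 0, 2, 0, 1, 0, 1, 0, 1, 0, 2, 0, 2, 0, 2, 0, 2], [1, 0, 1, 0, 1, 0, 1, 0, 2, 0, 1, 0, 1, 0, 2, 0, 2, 0, 2, 0,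 2], [1, 0, 1, 0, 1, 0, 1, 0, 2, 0, 1, 0, 1, 0, 2, 0, 2, 0, 2, 0, 2], [1, 0, 1, 0, 1, 0, 1, 0, 2, 0, 0, 2, 0, 1, 0, 2, 0, 2, 0, 2, 0, 1]], [⟨0, [], []⟩, ⟨16, [11, 7, 5], [0, 2, 0, 1, 0, 1, 0, 2, 0, 1, 0, 1, 0, 2, 0, 1, 1]⟩, ⟨36, [], [0, 1, 0, 2, 0, 1, 0, 1, 1, 0, 2, 0, 1, 0, 1, 0, 2, 0, 1, 1]⟩, ⟨37, [91, 95, 79, 95], [1, 1, 0, 1, 0, 1, 0, 1, 1, 0, 2, 0, 1, 1, 0, 1, 1]⟩, ⟨17, [42, 47, 39, 47], [0, 1, 0, 1, 0, 1, 1, 0, 1, 1, 0, 1, 1, 0, 1, 0, 1, 0, 1, 1, 0, 2, 0, 1, 1]⟩, ⟨1, [], [0, 1, 1, 0, 2, 0, 1, 0, 2, 0, 2, 0, 1, 1, 0, 1, 0]⟩]),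
  ([], [[2, 0, 2, 0, 2, 0, 1, 0, 1, 0, 1, 0, 1, 0, 1, 0, 2, 0, 2, 0, 1, 0, 2], [1, 0, 2, 0, 1, 0, 1, 0, 2, 0, 2, 0, 2, 0, 2, 0, 2, 0, 1, 0, 1, 0, 1]], [⟨0, [], []⟩, ⟨1, [], [1, 1, 0, 1]⟩])]
theorem ac2k : allP (fun p c => aP.path 58 3 (subst (nthW σ1) (repL p.1 p.2)) c) B1 ac2 = true := by decide +kernel

end Cfsg.Agent.H15.J4
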