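import Cfsg.Agent.H15.Big10
import Cfsg.Agent.H15.J4.N
set_option autoImplicit false
set_option maxRecDepth 100000

namespace Cfsg.Agent.H15.J4
open Cfsg.Agent.H15 Cfsg.Agent.H14

def B2 : List (List ℕ × ℕ) := [([4, 0, 4, 0, 1, 0, 2, 0, 1, 0, 1, 0, 1, 0, 1, 0, 2, 0, 2, 0, 2, 0, 4, 0, 1, 0, 1, 0, 1, 0, 2, 0, 2, 0, 2, 0, 2, 0, 1, 0, 2], 1)]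
def bft0 : DT := (.node 8 (.node 4 (.node 2 (.node 1 (.leaf ⟨0, [], true, 1, []⟩) (.leaf ⟨1, [], true, 0, []⟩)) (.node 3 (.leaf ⟨1, [1], false, 1, []⟩) (.leaf ⟨1, [0, 1, 0, 2, 0, 2, 0, 2, 0, 2, 0, 1, 0, 1, 0, 1, 0, 1, 0, 2, 0], false, 1, []⟩))) (.node 6 (.node 5 (.leaf ⟨1, [1, 0, 1, 0, 1, 0, 2, 0, 1, 0, 1, 0, 1, 0, 2, 0, 1, 0, 1, 0, 2, 0, 2, 0, 1, 0, 1, 0, 1, 0, 2, 0, 2, 0, 1, 0, 2, 0, 2, 0, 2, 0, 1, 0, 2, 0, 2, 0], false, 1, []⟩) (.leaf ⟨1, [0, 1, 0, 1, 0, 1, 0, 2, 0, 1, 0, 2, 0, 1, 0, 2, 0, 2, 0, 1, 0, 2, 0, 1, 0, 1, 0, 2, 0, 1, 0, 1, 0, 1, 0, 1, 0, 2, 0, 1, 0, 2, 0, 2, 0, 1, 0, 2, 0, 1, 0, 1], false, 1, []⟩)) (.node 7 (.leaf ⟨1, [0, 1, 0, 2,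 0, 2, 0, 2, 0, 2, 0, 2, 0, 1, 0, 1, 0, 1, 0, 1, 0, 1, 0, 2, 0], false, 1, []⟩) (.leaf ⟨1, [2, 0, 2, 0, 2, 0, 2, 0, 2, 0, 2, 0, 1, 0, 2, 0, 1, 0, 2, 0, 2, 0, 2, 0, 1, 0, 2, 0, 2, 0, 1, 0, 2, 0, 1, 0, 2, 0, 1, 0, 1, 0, 2, 0, 2], false, 1, []⟩)))) (.node 12 (.node 10 (.node 9 (.leaf ⟨1, [1, 0, 1, 0, 2, 0, 2, 0, 1, 0, 2, 0, 1, 0, 1, 0, 2, 0, 1, 0, 1, 0, 1, 0, 1, 0, 2, 0, 1, 0, 1, 0, 1, 0, 2, 0, 1, 0, 2, 0, 1, 0, 1, 0, 1, 0, 1, 0, 1, 0, 1], false, 1, []⟩) (.leaf ⟨1, [0, 2, 0, 2, 0, 2, 0, 2, 0, 2, 0, 1, 0, 1, 0, 1, 0, 2, 0, 1, 0], true, 1, [1, 0, 1, 0, 2, 0, 1, 0, 2, 0, 1, 0, 1, 0, 1, 0, 2, 0, 1, 0, 1, 0, 2, 0, 2, 0, 2, 0, 2, 0, 1, 0, 1, 0, 1, 0, 2, 0,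 1, 0]⟩)) (.node 11 (.leaf ⟨1, [0], true, 2, []⟩) (.leaf ⟨2, [], true, 1, [0]⟩))) (.node 14 (.node 13 (.leaf ⟨2, [2, 0, 1, 0, 2, 0, 2, 0, 2, 0, 2, 0, 2, 0, 1, 0, 2, 0, 1, 0, 2, 0, 1, 0, 2, 0, 1, 0, 2, 0, 1, 0, 1, 0, 1, 0, 1, 0, 1, 0, 2, 0, 1], false, 2, []⟩) (.leaf ⟨2, [0, 1, 0, 1, 0, 1, 0, 2, 0, 1, 0, 1, 0, 1, 0, 2, 0, 1, 0, 1, 0, 2, 0, 2, 0, 1, 0, 1, 0, 1, 0, 2, 0, 2, 0, 1, 0, 2, 0, 2, 0, 2, 0, 1, 0, 2, 0, 2], false, 2, []⟩)) (.node 15 (.leaf ⟨2, [0, 1, 0, 1, 0, 2, 0, 1, 0, 2, 0, 1, 0, 2, 0, 1, 0, 2, 0, 2, 0, 2, 0, 1, 0, 1, 0, 1, 0, 1, 0, 2, 0, 2, 0, 2, 0, 1, 0, 2, 0, 2, 0, 2, 0, 2, 0, 2, 0, 2, 0, 2, 0, 1], false, 2, []⟩) (.leaf ⟨2, [0, 2, 0, 2,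 0, 2, 0, 1, 0, 1, 0, 1, 0, 1, 0, 1, 0, 1, 0, 2, 0, 2, 0, 1, 0, 2, 0, 2, 0, 1, 0, 2, 0, 1, 0, 2, 0, 2, 0, 1, 0, 2, 0, 1, 0, 1, 0, 2, 0, 1, 0, 1, 0, 1], false, 2, []⟩)))))
def bft16 : DT := (.node 22 (.node 19 (.node 17 (.leaf ⟨2, [0, 2, 0, 2, 0, 2, 0, 2, 0, 2, 0, 1, 0, 1, 0, 1, 0, 2, 0, 1, 0], true, 1, [1, 0, 1, 0, 2, 0, 1, 0, 2, 0, 1, 0, 2, 0, 2, 0, 2, 0, 2, 0, 1, 0, 1, 0, 2, 0, 1, 0, 1, 0, 1, 0, 1, 0, 2, 0, 1, 0, 1, 0, 1, 0, 1, 0, 1, 0, 2]⟩) (.node 18 (.leaf ⟨2, [0, 2, 0, 1, 0, 2, 0, 2, 0, 1, 0, 2, 0, 1, 0, 1, 0, 2, 0, 1, 0, 2, 0, 1, 0, 2, 0, 2, 0, 1, 0, 2, 0, 1, 0, 1, 0, 2, 0, 1], false, 2, []⟩) (.leaf ⟨2, [1, 0, 2, 0, 1, 0, 2, 0, 1, 0, 2, 0,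 1, 0, 2, 0, 1, 0], true, 2, [1, 0, 2, 0, 2, 0, 2, 0, 2, 0, 2, 0, 2, 0, 1, 0, 2, 0, 1, 0, 1, 0, 1, 0, 1, 0, 2, 0, 1, 0, 1, 0, 1, 0, 2, 0, 2, 0, 2, 0, 2, 0, 1, 0, 2, 0, 1, 0, 2, 0, 2, 0, 2, 0]⟩))) (.node 20 (.leaf ⟨2, [0, 1, 0, 1, 0, 2, 0, 2, 0], true, 2, [0, 1, 0, 2, 0, 1, 0, 1, 0, 2, 0, 2, 0, 1, 0, 2, 0, 1, 0, 2, 0, 1, 0, 1, 0, 1, 0, 2, 0, 1, 0, 1, 0, 2, 0, 2, 0, 1, 0, 2, 0, 2, 0, 2, 0, 2, 0, 2, 0]⟩) (.node 21 (.leaf ⟨2, [0, 2, 0, 1, 0, 1, 0, 1, 0, 1, 0, 1, 0, 1, 0, 1, 0, 1, 0, 1, 0], true, 2, [1, 0, 1, 0, 2, 0, 2, 0, 1, 0, 2, 0, 1, 0, 2, 0, 1, 0, 1, 0, 1, 0, 2, 0, 1, 0, 1, 0, 2, 0, 2, 0, 2, 0, 1, 0, 1, 0, 2, 0, 2, 0, 1, 0, 2, 0, 2, 0, 2, 0, 1]⟩)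 (.leaf ⟨2, [1, 0, 1, 0, 2, 0, 1, 0, 1, 0, 1, 0, 2, 0, 2, 0, 2, 0, 2, 0, 2, 0], true, 2, [0, 1, 0, 1, 0, 1, 0, 2, 0, 2, 0, 1, 0, 1, 0, 2, 0, 2, 0, 1, 0, 2, 0, 2, 0, 2, 0, 1, 0, 2, 0, 1, 0, 2, 0, 1, 0, 1, 0, 2, 0, 2, 0, 2, 0, 2, 0, 1, 0, 2, 0, 1, 0, 2]⟩)))) (.node 25 (.node 23 (.leaf ⟨2, [2, 0, 1, 0, 2, 0, 1, 0], true, 2, [0, 2, 0, 2, 0, 2, 0, 2, 0, 2, 0, 1, 0, 2, 0, 1, 0, 2, 0, 2, 0, 1, 0, 1, 0, 1, 0, 1, 0, 1, 0, 1, 0, 2, 0, 1, 0, 1, 0, 2, 0, 2, 0, 2, 0, 1, 0, 1, 0, 1, 0, 2, 0, 1]⟩) (.node 24 (.leaf ⟨2, [0, 2, 0, 1, 0, 1, 0, 1, 0, 2, 0, 1, 0, 1, 0, 2, 0, 2, 0], true, 2, [1, 0, 1, 0, 1, 0, 1, 0, 1, 0, 2, 0, 1, 0, 2, 0, 1, 0, 1, 0, 2, 0, 2, 0, 1, 0,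 1, 0, 1, 0, 2, 0, 2, 0, 2, 0, 2, 0, 2, 0, 2, 0]⟩) (.leaf ⟨2, [0, 2, 0, 2, 0, 2, 0, 1, 0, 1, 0, 2, 0, 1, 0, 1, 0, 1, 0, 1, 0, 2, 0, 2, 0, 2, 0, 2, 0, 1, 0, 2, 0, 1, 0, 2, 0, 2, 0, 1, 0, 2, 0, 1, 0, 2, 0, 1, 0, 2, 0, 2, 0], false, 2, []⟩))) (.node 26 (.leaf ⟨2, [0, 1, 0, 1, 0, 2, 0, 1, 0, 1, 0, 1, 0, 2, 0, 2, 0, 1, 0, 1, 0, 1, 0, 1, 0, 1, 0, 2, 0, 1, 0, 1, 0, 1, 0, 1, 0, 2, 0, 1, 0, 2, 0, 2, 0, 2, 0, 2, 0, 2, 0], false, 2, []⟩) (.node 27 (.leaf ⟨1, [], false, 2, [0, 2, 0, 2, 0, 2, 0, 2, 0, 2, 0, 1, 0, 1, 0, 2, 0, 2, 0, 2, 0, 1, 0, 2, 0, 2, 0, 2, 0, 1, 0, 2, 0, 2, 0, 1, 0, 2, 0, 1, 0, 1, 0, 1, 0, 1, 0, 1, 0, 2, 0, 2, 0, 2, 0, 1, 0, 2]⟩) (.leaf ⟨2,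 [], false, 1, [1, 0, 2, 0, 1, 0, 1, 0, 1, 0, 2, 0, 2, 0, 2, 0, 2, 0, 2, 0, 1, 0, 2, 0, 1, 0, 1, 0, 2, 0, 1, 0, 1, 0, 1, 0, 2, 0, 1, 0, 1, 0, 1, 0, 2, 0, 2, 0, 1, 0, 1, 0, 1, 0, 1, 0, 1, 0]⟩)))))
def bft : DT := (.node 16 bft0 bft16)
def bks : List (List ℕ) := [[1], [2], [0, 1, 0, 2, 0, 2, 0, 2, 0, 2, 0, 1, 0, 1, 0, 1, 0, 1, 0, 2, 0], [0, 1, 0, 2, 0, 2, 0, 2, 0, 2, 0, 2, 0, 1, 0, 1, 0, 1, 0, 1, 0, 1, 0, 2, 0], [0, 1, 0, 1, 0, 1, 0, 2, 0, 2, 0, 1, 0, 2, 0, 2, 0, 2, 0, 2, 0, 2, 0, 2, 0, 2, 0], [0, 1, 0, 2, 0, 2, 0, 2, 0, 2, 0, 1, 0, 1, 0, 1, 0, 1, 0, 2, 0], [0, 1, 0, 2, 0, 2, 0, 2, 0, 2, 0, 2, 0, 1, 0, 1, 0, 1, 0, 1, 0, 1, 0, 2, 0], [0, 1, 0, 1, 0,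 1, 0, 1, 0, 1, 0, 1, 0, 1, 0, 2, 0, 1, 0, 1, 0, 2, 0, 2, 0, 2, 0]]
def brs : List (List (List ℕ)) := [[[], []], [[], []], [[0, 1, 0, 1, 0, 2, 0, 2, 0], [0, 1, 0, 1, 0, 2, 0, 2, 0, 1, 0, 1, 0, 2, 0, 1, 0, 2, 0, 1, 0, 1, 0, 1, 0, 2, 0, 1, 0, 2, 0], [0, 1, 0, 2, 0, 1, 0, 2, 0, 2, 0, 2, 0, 1, 0, 2, 0, 1, 0, 2, 0, 2]], [[0, 1, 0, 1, 0, 2, 0, 2, 0, 1, 0, 1, 0, 2, 0, 1, 0, 2, 0, 1, 0, 1, 0, 1, 0, 2, 0, 1, 0, 2, 0], [0, 1, 0, 2, 0, 1, 0, 2, 0, 2, 0, 2, 0, 1, 0, 2, 0, 1, 0, 2, 0, 2], [0, 1, 0, 1, 0, 2, 0, 2, 0]], [[0, 1, 0, 2, 0, 1, 0, 2, 0, 2, 0, 2, 0, 1, 0, 2, 0, 1, 0, 2, 0, 2], [0, 1, 0, 1, 0, 2, 0, 2, 0], [0, 1, 0, 1, 0, 2, 0, 2, 0, 1, 0, 1, 0, 2, 0,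 1, 0, 2, 0, 1, 0, 1, 0, 1, 0, 2, 0, 1, 0, 2, 0]]]
def bWs : List (List (List ℕ)) := [[], [[]], [[0], []]]
noncomputable def bP : DP := ⟨AM.ap, 3, [0, 1, 2, 3, 4, 5, 6], invT pT 3, bks, bks, nthR brs, bft.get, nthR bWs⟩
theorem bg0 : bP.Good 0 20 := DP.good_of [⟨0, [], [], []⟩,
  ⟨1, [], [], [⟨0, [], []⟩]⟩,
  ⟨2, [], [], [⟨1, [], []⟩, ⟨0, [2], [0]⟩]⟩,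
  ⟨2, [], [], [⟨1, [], []⟩, ⟨0, [0, 1, 0, 2, 0, 2, 0, 2, 0, 2, 0, 1, 0, 1, 0, 1, 0, 1, 0, 2, 0], [2]⟩]⟩,
  ⟨6, [], [6, 5, 6, 4, 6, 5, 7, 4, 7, 5, 7, 4], []⟩,
  ⟨6, [], [6, 5, 6, 9, 4, 7], []⟩,
  ⟨2, [], [], [⟨1, [], []⟩, ⟨0, [0, 1, 0, 2, 0, 2, 0, 2, 0, 2, 0, 2, 0, 1, 0, 1, 0, 1, 0, 1, 0, 1, 0, 2, 0], [3]⟩]⟩,
  ⟨6, [], [4, 12, 4, 12, 5, 8, 5, 7, 4, 9, 7, 13, 11, 7, 5], []⟩,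
  ⟨6, [], [4, 12, 8, 14, 5, 11, 4, 13, 7, 15, 4], []⟩,
  ⟨3, [0, 2, 4, 2, 7, 0, 2], [], [⟨1, [], []⟩, ⟨0, [1, 0, 1, 0, 2, 0, 1, 0, 2, 0, 1, 0, 1, 0, 1, 0, 2, 0, 1, 0, 2, 0], [0, 2, 7, 3, 7, 3, 1, 2]⟩]⟩,
  ⟨0, [], [], []⟩,
  ⟨1, [], [], [⟨10, [], []⟩]⟩,
  ⟨2, [], [], [⟨11, [], []⟩, ⟨10, [4, 12, 14, 5, 14, 7, 15, 11, 5], [3, 4, 1, 3, 0, 7, 3]⟩]⟩,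
  ⟨2, [], [], [⟨11, [], []⟩, ⟨10, [6, 15, 5, 8, 5, 9, 5, 15, 7], [4, 1, 3, 2, 1, 7, 0, 7]⟩]⟩,
  ⟨2, [], [], [⟨11, [], []⟩, ⟨10, [5, 12, 4, 16, 9, 7, 5, 15, 5], [1, 2, 3, 1, 2, 4, 0, 7, 0]⟩]⟩,
  ⟨2, [], [], [⟨11, [], []⟩, ⟨10, [6, 10, 12, 10, 5, 11, 5, 13, 14, 5], [0, 3, 7, 3, 7, 1, 3, 1, 3]⟩]⟩,
  ⟨3, [2, 1, 3, 0, 3, 7, 0], [], [⟨9, [], [0]⟩, ⟨10, [13, 4, 7, 13, 5], [3, 4, 0, 3, 1, 2, 3, 2]⟩]⟩,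
  ⟨2, [0, 2, 0, 2, 0, 2, 0, 2, 0, 2, 0, 1, 0, 1, 0, 1, 0, 2, 0, 1, 0], [], [⟨16, [], []⟩, ⟨10, [11, 7, 13, 5], [2, 3, 2, 1, 2, 7, 1]⟩]⟩,
  ⟨3, [1, 3, 7, 7, 1, 7, 0, 7], [], [⟨11, [], []⟩, ⟨10, [7, 15, 7, 4], [7, 1, 3, 2, 7, 0, 4, 0]⟩]⟩,
  ⟨1, [4, 0, 4, 2, 1, 2, 1, 3], [], [⟨18, [], []⟩]⟩] (by decide +kernel)
theorem bg20 : bP.Good 20 28 := DP.good_of [⟨3, [0, 3, 0, 4, 3, 7, 3, 4], [], [⟨11, [], [2]⟩, ⟨10, [5, 14, 9, 4], [7, 2, 3, 2, 4]⟩]⟩,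
  ⟨3, [3, 4, 4, 4, 1, 7, 0], [], [⟨18, [], [1, 2]⟩, ⟨18, [35, 27, 25, 27], [4, 2, 7, 0, 2, 4, 3, 1]⟩]⟩,
  ⟨3, [2, 7, 2, 4, 3, 4, 0, 3], [], [⟨18, [], [7, 7, 2]⟩, ⟨18, [35, 27, 31, 25, 27], [1, 2, 3, 2, 7, 1, 3, 1]⟩]⟩,
  ⟨1, [0, 2, 7, 0, 4, 1, 3, 0], [], [⟨22, [], []⟩]⟩,
  ⟨4, [0, 1, 0, 2, 0, 2, 0, 1, 0, 1, 0, 2, 0, 1, 0, 1, 0, 1, 0, 2, 0, 2, 0, 2, 0, 1, 0, 1, 0, 2, 0, 2, 0, 1, 0, 2, 0, 1, 0, 1, 0, 2, 0, 1, 0, 2, 0, 1, 0, 1, 0, 1, 0, 1], [], [⟨20, [], [7, 2, 1]⟩, ⟨21, [31, 35, 27], [1, 3, 0, 4, 4, 2, 7]⟩, ⟨20, [27, 35, 25, 31], [3, 7, 7, 0, 3, 2, 7]⟩]⟩,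
  ⟨2, [0, 2, 0, 1, 0, 1, 0, 1, 0, 2, 0, 1, 0, 1, 0, 2, 0, 2, 0], [], [⟨23, [], []⟩, ⟨22, [30, 48, 29, 27], [0, 2, 1, 3, 2, 1, 3, 7]⟩]⟩,
  ⟨2, [2, 0, 1, 0, 1, 0, 2, 0, 1, 0, 1, 0, 1, 0, 1, 0, 1, 0, 1, 0, 1, 0, 2, 0, 2, 0, 2, 0, 2, 0, 1, 0, 2, 0, 2, 0, 1, 0, 2, 0, 1, 0, 1, 0, 2, 0, 1, 0, 2, 0, 2, 0, 2], [], [⟨19, [], []⟩, ⟨11, [35, 25, 50, 31, 51, 35], [7, 0, 7, 1, 4, 4, 0, 7]⟩]⟩,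
  ⟨6, [], [], [⟨26, [], [1, 0, 2, 0, 1, 0, 1, 0, 1, 0, 2, 0, 2, 0, 2, 0, 2, 0, 2, 0, 1, 0, 2, 0, 1, 0, 1, 0, 2, 0, 1, 0, 1, 0, 1, 0, 2, 0, 1, 0, 1, 0, 1, 0, 2, 0, 2, 0, 1, 0, 1, 0, 1, 0, 1, 0, 1, 0]⟩]⟩] (by decide +kernel)
theorem bgood : bP.Good 0 28 := (DP.Good.append bg0 bg20)
def bc2 : List (List ℕ × List (List ℕ) × List DO) := [([], [[0], [0, 1, 0, 2, 0, 1, 0, 1, 0, 1, 0, 1, 0, 2, 0, 2, 0, 2, 0], [0, 1, 0, 1, 0, 1, 0, 2, 0, 2, 0, 2, 0, 2, 0, 1, 0, 2]], [⟨0, [], []⟩, ⟨10, [], []⟩, ⟨27, [], [0, 1, 0, 2, 0, 1, 0, 1, 0, 1, 0, 1, 0, 2, 0, 2, 0, 2, 0]⟩, ⟨1, [], [0, 3, 0, 3, 0, 4, 0]⟩])]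
theorem bc2k : allP (fun p c => bP.path 28 4 (repL p.1 p.2) c) B2 bc2 = true := by decide +kernel

end Cfsg.Agent.H15.J4
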