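import Cfsg.Agent.H15.J4.CD
set_option autoImplicit false
set_option maxRecDepth 100000

namespace Cfsg.Agent.H15.J4
open Cfsg.Agent.H15 Cfsg.Agent.H14

set_option Elab.async false

theorem sM15 : allL ((B1.drop 6).take 1) (fun p => okW 5 p.1 && eqOn MM.ap MM.L MM.bs (repL p.1 p.2) []) = true := by decide +kernel
theorem MMk9 : RAll MM.okL 9 15 := RAll.of (by decide +kernel)
theorem sM03 : allL ((BF.drop 5).take 1) (fun p => okW 4 p.1 && eqOn MM.ap MM.L MM.bs (repL p.1 p.2) []) = true := by decide +kernel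
theorem sM00 : allL ((BF.drop 0).take 3) (fun p => okW 4 p.1 && eqOn MM.ap MM.L MM.bs (repL p.1 p.2) []) = true := by decide +kernel
theorem sM20 : allL B2 (fun p => okW 5 p.1 && eqOn MM.ap MM.L MM.bs (repL p.1 p.2) []) = true := by decide +kernel
theorem d121x : exOk MM.ap MM.L (Nat.shiftLeft 1 (Nat.mul MM.w MM.m)) [[29]] [[16]] d121b 121 d121o = true := by decide +kernel
theorem d31x : exOk MM.ap MM.L (Nat.shiftLeft 1 (Nat.mul MM.w MM.m)) [[12]] [] d31b 31 d31o = true := by decide +kernel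
theorem d29x : exOk MM.ap MM.L (Nat.shiftLeft 1 (Nat.mul MM.w MM.m)) [[14]] [] d29b 29 d29o = true := by decide +kernel

end Cfsg.Agent.H15.J4
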