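import Cfsg.Agent.H15.J4.CD
set_option autoImplicit false
set_option maxRecDepth 100000

namespace Cfsg.Agent.H15.J4
open Cfsg.Agent.H15 Cfsg.Agent.H14

set_option Elab.async false

theorem sM06 : allL ((BF.drop 11).take 1) (fun p => okW 4 p.1 && eqOn MM.ap MM.L MM.bs (repL p.1 p.2) []) = true := by decide +kernel
theorem MMk15 : RAll MM.okL 15 20 := RAll.of (by decide +kernel)
theorem sM05 : allL ((BF.drop 9).take 2) (fun p => okW 4 p.1 && eqOn MM.ap MM.L MM.bs (repL p.1 p.2) []) = true := by decide +kernel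
theorem sM01 : allL ((BF.drop 3).take 1) (fun p => okW 4 p.1 && eqOn MM.ap MM.L MM.bs (repL p.1 p.2) []) = true := by decide +kernel
theorem sM02 : allL ((BF.drop 4).take 1) (fun p => okW 4 p.1 && eqOn MM.ap MM.L MM.bs (repL p.1 p.2) []) = true := by decide +kernel
theorem MMkc : MM.okC = true := by decide +kernel
theorem d43x : exOk MM.ap MM.L (Nat.shiftLeft 1 (Nat.mul MM.w MM.m)) [[11]] [] d43b 43 d43o = true := by decide +kernel
theorem d37x : exOk MM.ap MM.L (Nat.shiftLeft 1 (Nat.mul MM.w MM.m)) [[13]] [] d37b 37 d37o = true := by decide +kernel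
theorem d11x : exOk MM.ap MM.L (Nat.shiftLeft 1 (Nat.mul MM.w MM.m)) [[16]] [] d11b 11 d11o = true := by decide +kernel

end Cfsg.Agent.H15.J4
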