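import Cfsg.Agent.H15.J4.CD
set_option autoImplicit false
set_option maxRecDepth 100000

namespace Cfsg.Agent.H15.J4
open Cfsg.Agent.H15 Cfsg.Agent.H14

set_option Elab.async false

theorem sM14 : allL ((B1.drop 5).take 1) (fun p => okW 5 p.1 && eqOn MM.ap MM.L MM.bs (repL p.1 p.2) []) = true := by decide +kernel
theorem sM04 : allL ((BF.drop 6).take 3) (fun p => okW 4 p.1 && eqOn MM.ap MM.L MM.bs (repL p.1 p.2) []) = true := by decide +kernel
theorem MMk20 : RAll MM.okL 20 28 := RAll.of (by decide +kernel)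
theorem sM11 : allL ((B1.drop 2).take 1) (fun p => okW 5 p.1 && eqOn MM.ap MM.L MM.bs (repL p.1 p.2) []) = true := by decide +kernel
theorem sM16 : allL ((B1.drop 7).take 1) (fun p => okW 5 p.1 && eqOn MM.ap MM.L MM.bs (repL p.1 p.2) []) = true := by decide +kernel
theorem g37b : eqOn MM.ap MM.L MM.bs (repL [13, 0] 15) [] = true := by decide +kernel

end Cfsg.Agent.H15.J4
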