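import Cfsg.Agent.H15.J4.CD
set_option autoImplicit false
set_option maxRecDepth 100000

namespace Cfsg.Agent.H15.J4
open Cfsg.Agent.H15 Cfsg.Agent.H14

set_option Elab.async false

theorem s1k : RAll (fun l => okW 4 (nthW σ1 l) && eqOn MM.ap MM.L MM.bs (nthW σ1 l) (nthW (idW 5) l)) 0 5 := RAll.of (by decide +kernel)
theorem sM13 : allL ((B1.drop 4).take 1) (fun p => okW 5 p.1 && eqOn MM.ap MM.L MM.bs (repL p.1 p.2) []) = true := by decide +kernel
theorem MMk0 : RAll MM.okL 0 9 := RAll.of (by decide +kernel)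
theorem sM12 : allL ((B1.drop 3).take 1) (fun p => okW 5 p.1 && eqOn MM.ap MM.L MM.bs (repL p.1 p.2) []) = true := by decide +kernel
theorem sM10 : allL ((B1.drop 0).take 2) (fun p => okW 5 p.1 && eqOn MM.ap MM.L MM.bs (repL p.1 p.2) []) = true := by decide +kernel
theorem g37a : eqOn MM.ap MM.L MM.bs (repL [13] 37) [] = true := by decide +kernel
theorem MMk28 : RAll MM.okL 28 30 := RAll.of (by decide +kernel)
theorem xne : neAt MM.ap MM.L (Nat.shiftLeft 1 (Nat.mul MM.w MM.m)) (2 ^ 0) [0] [] = true := by decide +kernel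

end Cfsg.Agent.H15.J4
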