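import Cfsg.Agent.H15.J4.T
set_option autoImplicit false
set_option maxRecDepth 100000

namespace Cfsg.Agent.H15.J4
open Cfsg.Agent.H15 Cfsg.Agent.H14

def ft0 : DT := (.node 8 (.node 4 (.node 2 (.node 1 (.leaf ⟨0, [], true, 1, []⟩) (.leaf ⟨1, [], true, 0, []⟩)) (.node 3 (.leaf ⟨1, [0], false, 1, []⟩) (.leaf ⟨1, [4], false, 1, []⟩))) (.node 6 (.node 5 (.leaf ⟨1, [0, 7, 0, 5, 6, 8, 9, 5], false, 1, []⟩) (.leaf ⟨1, [2, 6, 5, 7, 0, 7, 7, 0, 5, 1], false, 1, []⟩)) (.node 7 (.leaf ⟨1, [0, 7, 7, 4, 0, 6, 0, 7, 5, 0], false, 1, []⟩) (.leaf ⟨1, [3, 4, 6, 9, 5, 9, 6, 3], false, 1, []⟩)))) (.node 12 (.node 10 (.node 9 (.leaf ⟨1, [9], false, 1, []⟩) (.leaf ⟨1, [6, 6, 6, 5, 9, 6, 0, 6, 0, 9, 4, 8], false,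 1, []⟩)) (.node 11 (.leaf ⟨1, [7, 8, 0, 7, 4, 7, 7, 9, 0, 5, 6, 6, 6], false, 1, []⟩) (.leaf ⟨1, [0, 5, 8, 4, 8, 0], false, 1, []⟩))) (.node 14 (.node 13 (.leaf ⟨1, [3, 5, 1, 8, 2, 4, 8], false, 1, []⟩) (.leaf ⟨1, [0, 5, 8, 4, 0], false, 1, []⟩)) (.node 15 (.leaf ⟨1, [6, 6, 0, 9, 4, 0, 9, 7, 0, 6, 0, 4], false, 1, []⟩) (.leaf ⟨1, [6, 1, 8, 2, 7, 9, 3, 9], false, 1, []⟩)))))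
def ft16 : DT := (.node 24 (.node 20 (.node 18 (.node 17 (.leaf ⟨1, [9, 2, 5, 5, 3, 1], true, 1, [9, 5, 3, 7, 8, 2, 6, 5, 1, 7, 9, 6, 3, 9]⟩) (.leaf ⟨1, [5, 3], true, 1, [7, 0, 9, 6, 6, 0, 3, 6, 6, 9, 6]⟩)) (.node 19 (.leaf ⟨1, [3, 2, 0, 1, 0, 2], true, 2, []⟩) (.leaf ⟨2, [], true, 1, [2, 3, 0, 1, 0, 2]⟩))) (.node 22 (.node 21 (.leaf ⟨2, [0, 7, 9, 6, 0, 5, 0, 9, 0, 4], false, 2, []⟩) (.leaf ⟨2, [0, 6, 6, 0, 9, 4, 6, 8, 7, 9], false, 2, []⟩)) (.node 23 (.leaf ⟨2, [2, 9, 0, 3, 0, 3, 9, 1], false, 2, []⟩) (.leaf ⟨2, [0, 3, 0, 3, 7, 8, 6], false, 2, []⟩)))) (.node 28 (.node 26 (.node 25 (.leaf ⟨2, [9, 5, 7, 7, 9, 0, 7, 7, 0, 7, 9], false, 2, []⟩) (.leaf ⟨2, [6, 0, 8, 7, 0, 6, 8, 6, 9, 7], false,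 2, []⟩)) (.node 27 (.leaf ⟨2, [2, 5, 7, 8, 0, 9, 4, 9, 8, 4, 0, 1], false, 2, []⟩) (.leaf ⟨2, [5, 6, 0, 3, 9, 3, 0, 7, 4], false, 2, []⟩))) (.node 30 (.node 29 (.leaf ⟨2, [7, 8, 9, 7, 7, 0, 7, 3, 0, 3, 7, 9], false, 2, []⟩) (.leaf ⟨2, [6, 0, 5, 8, 4, 0, 7], false, 2, []⟩)) (.node 31 (.leaf ⟨2, [4, 3, 9, 7, 9, 4, 0, 7, 3, 7, 8], false, 2, []⟩) (.leaf ⟨2, [3, 4, 3, 5, 6, 3, 7], false, 2, []⟩)))))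
def ft32 : DT := (.node 40 (.node 36 (.node 34 (.node 33 (.leaf ⟨2, [1, 7, 0, 4, 2], true, 1, [6, 6, 1, 0, 3, 6, 9, 1, 0, 2, 7, 2, 3, 9, 1]⟩) (.leaf ⟨2, [7, 1, 9, 0, 2, 7, 3, 8, 1, 5, 0, 1, 9, 4], false, 2, []⟩)) (.node 35 (.leaf ⟨2, [1, 9, 5, 9, 4, 2], true, 2, [5, 3, 8, 2, 5, 0, 1, 9, 1, 9, 6, 6, 1]⟩) (.leaf ⟨2, [1, 0, 2, 0, 1], true, 2, [2, 7, 8, 5, 9, 0, 6, 9, 1, 4, 1, 7, 9, 3]⟩))) (.node 38 (.node 37 (.leaf ⟨2, [6, 6, 9, 0, 9, 2], true, 2, [5, 9, 2, 6, 5, 8, 6, 6, 0, 2, 4, 9, 2]⟩) (.leaf ⟨2, [8, 6, 6, 5, 9, 2, 8, 6, 6, 2, 7, 9, 1, 5], false, 2, []⟩)) (.node 39 (.leaf ⟨1, [4, 0, 2, 0, 1], true, 1, [5, 0, 7, 8, 7, 3, 9, 2, 0, 3, 5, 7, 1]⟩) (.leaf ⟨2, [2, 0, 1, 0, 2], true, 3, []⟩)))) (.node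 44 (.node 42 (.node 41 (.leaf ⟨3, [], true, 2, [2, 0, 1, 0, 2]⟩) (.leaf ⟨3, [9, 4, 3, 6, 5, 3, 8, 6, 0], false, 3, []⟩)) (.node 43 (.leaf ⟨3, [4, 6, 9, 6, 3, 5, 6, 8, 0, 4, 3], false, 3, []⟩) (.leaf ⟨3, [0, 7, 8, 4, 8, 7, 4, 6, 9, 5], false, 3, []⟩))) (.node 46 (.node 45 (.leaf ⟨3, [2, 7, 9, 0, 8, 4, 7, 8, 0, 4, 1], false, 3, []⟩) (.leaf ⟨3, [6, 6, 9, 6, 0, 5, 8, 7, 8, 9], false, 3, []⟩)) (.node 47 (.leaf ⟨3, [9, 7, 8, 4, 4, 8, 9, 6, 0, 9, 0], false, 3, []⟩) (.leaf ⟨3, [4, 4, 8, 9, 3, 6, 9, 5, 3, 0], false, 3, []⟩)))))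
def ft48 : DT := (.node 56 (.node 52 (.node 50 (.node 49 (.leaf ⟨3, [0, 5, 9, 7, 4, 9, 7, 0, 3, 9, 3], false, 3, []⟩) (.leaf ⟨3, [3, 4, 4, 8, 9, 6, 9, 5, 0, 3], false, 3, []⟩)) (.node 51 (.leaf ⟨3, [6, 0, 5, 8, 4, 0, 7], false, 3, []⟩) (.leaf ⟨3, [1, 7, 0, 4, 2], true, 1, [3, 6, 5, 1, 6, 5, 9, 4, 0, 1, 4, 1, 4, 3]⟩))) (.node 54 (.node 53 (.leaf ⟨1, [2, 7, 9, 6, 4, 0, 2], true, 3, [0, 4, 1, 6, 2, 7, 9, 3, 7, 0, 1, 4, 8]⟩) (.leaf ⟨3, [0, 2, 6, 3, 5, 1], true, 1, [8, 6, 8, 9, 5, 1, 4, 2, 0, 2, 8, 0, 9, 3]⟩)) (.node 55 (.leaf ⟨3, [9, 0, 6, 5, 6, 9, 0, 7, 3, 4, 6], false, 3, []⟩) (.leaf ⟨3, [2, 9, 7, 4, 7, 3, 2], true, 2, [1, 6, 1, 0, 7, 7, 0, 8, 0, 1, 4, 2, 5, 6]⟩)))) (.node 60 (.node 58 (.node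 57 (.leaf ⟨2, [6, 2, 4, 0, 2], true, 3, [3, 7, 7, 7, 9, 7, 1, 4, 0, 5, 2, 5, 6, 8]⟩) (.leaf ⟨3, [1, 6, 5, 6, 4, 2], true, 3, [9, 4, 3, 9, 2, 6, 9, 7, 1, 5, 9, 4, 3, 4]⟩)) (.node 59 (.leaf ⟨3, [7, 7, 1, 4, 9, 5, 2], true, 3, [3, 8, 0, 7, 7, 0, 2, 5, 0, 9, 6, 1, 6, 3]⟩) (.leaf ⟨3, [4, 2, 4, 7, 0, 1], true, 3, [0, 1, 7, 4, 9, 4, 8, 0, 1, 4, 4, 9]⟩))) (.node 62 (.node 61 (.leaf ⟨3, [6, 6, 6, 9, 4, 2], true, 3, [5, 1, 4, 0, 8, 5, 2, 6, 5, 8, 5, 0, 2]⟩) (.leaf ⟨3, [1, 6, 1, 7, 9, 2], true, 3, [0, 4, 9, 5, 7, 7, 1, 6, 0, 5, 3, 6, 2, 5]⟩)) (.node 63 (.leaf ⟨3, [3], true, 3, [0, 6, 6, 9, 7, 7, 0, 3]⟩) (.leaf ⟨1, [2, 0, 2], true, 4, []⟩)))))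
def ft64 : DT := (.node 72 (.node 68 (.node 66 (.node 65 (.leaf ⟨4, [], true, 1, [2, 0, 2]⟩) (.leaf ⟨4, [4, 9, 6, 6, 9, 5, 0, 9, 5, 6], false, 4, []⟩)) (.node 67 (.leaf ⟨4, [7, 3, 0, 5, 9, 5, 7, 0, 8, 7, 9, 3], false, 4, []⟩) (.leaf ⟨4, [9, 7, 4, 9, 5, 9, 0, 9, 0, 6], false, 4, []⟩))) (.node 70 (.node 69 (.leaf ⟨4, [0, 5, 9, 4, 9, 0], false, 4, []⟩) (.leaf ⟨4, [6, 6, 0, 8, 5, 8, 7, 7, 0, 8, 9], false, 4, []⟩)) (.node 71 (.leaf ⟨4, [0, 7, 7, 8, 0, 8, 6, 6, 0], false, 4, []⟩) (.leaf ⟨4, [5, 2, 6, 5, 1], true, 3, [4, 0, 2, 5, 8, 2, 5, 8, 3, 9, 1, 5, 9, 2]⟩)))) (.node 76 (.node 74 (.node 73 (.leaf ⟨3, [1, 7, 9, 2, 5, 2], true, 4, [1, 6, 1, 4, 4, 9, 3, 5, 3, 6, 1, 7, 0]⟩) (.leaf ⟨4, [6, 1, 4, 9,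 5, 2], true, 3, [3, 5, 0, 7, 3, 0, 9, 4, 0, 2, 4, 9, 4, 3]⟩)) (.node 75 (.leaf ⟨3, [9, 0, 5, 2], true, 4, [9, 2, 0, 7, 8, 1, 0, 7, 2, 4, 2]⟩) (.leaf ⟨4, [4, 9, 7, 2, 0, 1], true, 3, [0, 7, 3, 9, 4, 0, 9, 5, 1, 9, 2, 0, 1, 8]⟩))) (.node 78 (.node 77 (.leaf ⟨3, [6, 6, 6, 5, 9, 2], true, 4, [0, 7, 9, 7, 4, 7, 7, 3, 9, 1, 0, 2, 0]⟩) (.leaf ⟨4, [5, 9, 3, 6, 6, 2], true, 3, [3, 5, 1, 0, 6, 6, 2, 4, 0, 3, 7, 1, 7, 4]⟩)) (.node 79 (.leaf ⟨4, [9, 2, 4, 2, 7, 4, 1, 6, 3, 0, 6, 6, 5, 1], false, 4, []⟩) (.leaf ⟨4, [6, 2, 4, 7, 0, 1], true, 4, [0, 1, 0, 6, 2, 7, 2, 4, 7, 0, 2, 4, 0]⟩)))))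
def ft80 : DT := (.node 88 (.node 84 (.node 82 (.node 81 (.leaf ⟨4, [6, 2, 6, 5, 1], true, 4, [5, 1, 5, 7, 4, 2, 0, 2, 7, 2]⟩) (.leaf ⟨4, [2, 0, 7, 5, 0, 2], true, 4, [0, 7, 2, 7, 0, 1, 5, 7, 0, 1, 6, 2]⟩)) (.node 83 (.leaf ⟨4, [9, 0, 4, 1], true, 4, [9, 3, 4, 9, 2, 7, 9, 0, 7, 1, 4, 8, 1]⟩) (.leaf ⟨4, [6, 6, 9, 4, 1], true, 4, [3, 0, 7, 2, 9, 3, 5, 8, 0, 2, 7, 8, 2]⟩))) (.node 86 (.node 85 (.leaf ⟨4, [3, 6, 9, 0, 1, 0, 2], true, 4, [0, 6, 3, 6, 3, 6, 1, 9, 0, 1, 6, 2, 6, 0, 2]⟩) (.leaf ⟨4, [6, 3], true, 4, [5, 6, 3, 8, 6, 5, 8, 6, 0, 6, 6, 5]⟩)) (.node 87 (.leaf ⟨4, [0, 1, 9, 7, 4, 2], true, 4, [2, 0, 7, 1, 4, 4, 1, 3, 0, 6, 9, 3, 4, 4]⟩) (.leaf ⟨3, [2, 0, 1, 0, 2], true, 5, []⟩)))) (.node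 92 (.node 90 (.node 89 (.leaf ⟨5, [], true, 3, [2, 0, 1, 0, 2]⟩) (.leaf ⟨5, [0, 7, 0, 6, 9, 6, 8, 7, 0, 7, 9], false, 5, []⟩)) (.node 91 (.leaf ⟨5, [0, 5, 8, 9, 0, 8, 5, 7, 0, 6, 0], false, 5, []⟩) (.leaf ⟨5, [1, 8, 0, 3, 8, 6, 0, 7, 0, 2, 8], false, 5, []⟩))) (.node 94 (.node 93 (.leaf ⟨5, [5, 6, 0, 3, 8, 6, 6, 9, 0, 5, 3, 7], false, 5, []⟩) (.leaf ⟨5, [0, 7, 7, 7, 7, 9, 5, 9, 0, 5, 8], false, 5, []⟩)) (.node 95 (.leaf ⟨5, [8, 9, 6, 6, 0, 8, 4, 9, 0], false, 5, []⟩) (.leaf ⟨5, [5, 7, 0, 7, 7, 8, 0, 9, 5, 0, 9, 5], false, 5, []⟩)))))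
def ft96 : DT := (.node 104 (.node 100 (.node 98 (.node 97 (.leaf ⟨5, [1, 7, 0, 4, 2], true, 2, [8, 5, 3, 8, 7, 0, 9, 6, 0, 6, 1, 7, 2, 5]⟩) (.leaf ⟨2, [2, 5, 9, 6, 5, 2], true, 5, [1, 0, 1, 9, 1, 9, 0, 4, 3, 8, 2, 5, 7, 9]⟩)) (.node 99 (.leaf ⟨5, [3, 2, 0, 1, 0, 2], true, 3, [5, 3, 7, 9, 5, 8, 6, 6, 8, 1, 9, 4, 9]⟩) (.leaf ⟨3, [0, 6, 0, 1, 7, 3, 2], true, 5, [4, 2, 4, 4, 1, 4, 9, 3, 7, 9, 5, 0, 7]⟩))) (.node 102 (.node 101 (.leaf ⟨5, [0, 5, 3, 7, 3, 0, 8, 7, 0, 4, 6, 6], false, 5, []⟩) (.leaf ⟨5, [6, 9, 1, 0, 2], true, 3, [3, 9, 7, 2, 9, 0, 8, 6, 1, 0, 7, 9, 2]⟩)) (.node 103 (.leaf ⟨3, [3, 7, 7, 2, 0, 1], true, 5, [9, 3, 6, 6, 8, 0, 8, 6, 0, 8, 7, 2, 0, 1]⟩) (.leaf ⟨5, [9, 0, 4, 0, 2], true,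 3, [2, 5, 3, 5, 8, 1, 9, 6, 4, 0, 7, 8, 2, 9]⟩)))) (.node 108 (.node 106 (.node 105 (.leaf ⟨3, [9, 6, 4, 9, 2, 5, 2], true, 5, [1, 6, 0, 2, 8, 0, 2, 8, 7, 7, 4, 2, 9, 3]⟩) (.leaf ⟨5, [3, 0, 6, 6, 2], true, 4, [6, 6, 3, 4, 1, 9, 2, 0, 1, 0, 2, 3, 8]⟩)) (.node 107 (.leaf ⟨4, [0, 9, 1, 6, 2], true, 5, [0, 3, 7, 4, 1, 7, 0, 7, 9, 3, 4, 9, 3]⟩) (.leaf ⟨5, [2, 0, 1, 9, 6, 2], true, 4, [9, 1, 9, 0, 5, 2, 3, 5, 1, 5, 7, 9]⟩))) (.node 110 (.node 109 (.leaf ⟨4, [5, 6, 6, 6, 6, 1], true, 5, [1, 4, 3, 0, 8, 7, 0, 8, 1, 4, 1, 5]⟩) (.leaf ⟨5, [2, 9, 3, 1, 0, 1], true, 4, [9, 2, 7, 1, 6, 3, 0, 3, 0, 1, 0, 4, 1, 6]⟩)) (.node 111 (.leaf ⟨4, [6, 6, 9, 0, 4, 0, 2], true, 5, [8, 4, 4, 2, 9, 1, 0, 1, 8, 5, 6, 9]⟩)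 (.leaf ⟨5, [7, 1, 4, 9, 5, 2], true, 4, [0, 3, 7, 8, 0, 4, 9, 5, 2, 7, 1, 5, 0]⟩)))))
def ft112 : DT := (.node 120 (.node 116 (.node 114 (.node 113 (.leaf ⟨4, [6, 5, 9, 5, 1], true, 5, [4, 4, 8, 2, 0, 8, 9, 6, 2, 3, 4, 4, 3, 9]⟩) (.leaf ⟨5, [6, 9, 2, 0, 1, 0, 2], true, 5, [7, 7, 0, 8, 6, 6, 5, 2, 4, 7, 1, 0, 4, 9]⟩)) (.node 115 (.leaf ⟨5, [2, 8, 0, 1, 5, 1], true, 5, [8, 9, 5, 7, 2, 5, 0, 9, 8, 6, 1, 9, 4]⟩) (.leaf ⟨5, [1, 0, 2, 0, 1], true, 5, [6, 3, 0, 3, 4, 8, 2, 7, 2, 6, 1, 0, 5, 6]⟩))) (.node 118 (.node 117 (.leaf ⟨5, [3, 7, 0, 5, 9, 0, 2], true, 5, [7, 7, 7, 0, 1, 7, 7, 3, 4, 3, 9, 6]⟩) (.leaf ⟨5, [5, 2, 7, 1, 4, 0, 2], true, 5, [4, 2, 4, 2, 0, 5, 2, 9, 6, 3, 5, 9, 3]⟩)) (.node 119 (.leaf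 ⟨5, [0, 9, 1, 6, 3, 2], true, 5, [7, 0, 7, 0, 1, 5, 9, 1, 5, 9, 5, 0, 7]⟩) (.leaf ⟨5, [6, 9, 8, 0, 7, 2], true, 5, [7, 7, 7, 0, 6, 5, 8, 7, 8, 4, 0, 2]⟩)))) (.node 124 (.node 122 (.node 121 (.leaf ⟨5, [6, 9, 1, 0, 3, 2], true, 5, [3, 8, 5, 9, 2, 0, 1, 4, 9, 4, 0, 6, 0]⟩) (.leaf ⟨5, [3], true, 5, [0, 9, 0, 9, 3]⟩)) (.node 123 (.leaf ⟨5, [8, 5, 1, 6, 5, 2], true, 5, [2, 3, 7, 2, 5, 7, 2, 4, 0, 6, 6, 6, 8, 4]⟩) (.leaf ⟨5, [2, 8, 6, 4, 0, 1], true, 5, [7, 0, 5, 9, 3, 7, 4, 2, 0, 1, 9, 5, 0, 6]⟩))) (.node 126 (.node 125 (.leaf ⟨3, [2, 0, 2], true, 6, []⟩) (.leaf ⟨6, [], true, 3, [2, 0, 2]⟩)) (.node 127 (.leaf ⟨6, [4, 9, 6, 0, 6, 9, 7, 0, 4, 6], false, 6, []⟩) (.leaf ⟨6, [8, 4, 7, 9, 7, 8, 9, 7,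 4, 0, 7, 8], false, 6, []⟩)))))
def ft128 : DT := (.node 136 (.node 132 (.node 130 (.node 129 (.leaf ⟨6, [4, 0, 8, 7, 8, 5, 6, 0, 9, 5, 0], false, 6, []⟩) (.leaf ⟨6, [0, 8, 1, 6, 2], true, 3, [8, 2, 7, 1, 6, 6, 0, 5, 6, 9, 2, 0, 2]⟩)) (.node 131 (.leaf ⟨6, [7, 0, 9, 5, 1, 7, 9, 6, 3, 4, 8, 4, 0], false, 6, []⟩) (.leaf ⟨6, [9, 1, 5, 5, 1], true, 4, [1, 9, 5, 8, 6, 9, 0, 1, 9, 1, 4, 8, 6]⟩))) (.node 134 (.node 133 (.leaf ⟨4, [6, 0, 6, 3, 2], true, 6, [7, 0, 9, 4, 2, 7, 4, 7, 7, 9, 2, 4, 4, 1]⟩) (.leaf ⟨6, [5, 1, 0, 2, 0, 1], true, 4, [0, 7, 4, 8, 1, 4, 4, 3, 7, 9, 0, 9, 6]⟩)) (.node 135 (.leaf ⟨4, [0, 6, 6, 3, 2], true, 6, [7, 0, 7, 2, 7, 2, 4, 9, 0, 2, 9, 2, 4]⟩) (.leaf ⟨6, [3, 0, 7, 7, 5, 2],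 true, 4, [7, 9, 1, 7, 4, 1, 9, 3, 1, 7, 1, 4, 3]⟩)))) (.node 140 (.node 138 (.node 137 (.leaf ⟨4, [0, 2, 6, 6, 0, 2], true, 6, [0, 7, 4, 6, 2, 8, 5, 9, 8, 0, 3, 7, 4, 0]⟩) (.leaf ⟨6, [4, 0, 2, 8, 2], true, 5, [8, 4, 1, 5, 3, 7, 1, 7, 7]⟩)) (.node 139 (.leaf ⟨5, [4, 2], true, 6, [5, 9, 3, 9, 7, 9, 2, 6, 1, 0, 9, 6, 0, 4]⟩) (.leaf ⟨6, [7, 3, 5, 6, 0, 2], true, 5, [7, 3, 4, 6, 2, 4, 7, 2, 5, 9, 0, 6, 3, 5]⟩))) (.node 142 (.node 141 (.leaf ⟨5, [4, 7, 2, 7, 4, 2], true, 6, [9, 4, 7, 2, 3, 6, 3, 5, 2, 0, 5, 9, 5, 7]⟩) (.leaf ⟨6, [0, 7, 9, 5, 0, 1], true, 5, [0, 1, 5, 8, 7, 8, 9, 1, 6, 1, 5]⟩)) (.node 143 (.leaf ⟨5, [2, 0, 2, 9, 0, 2], true, 6, [6, 0, 6, 6, 9, 1, 9, 0, 3, 7, 3, 0, 5, 0]⟩) (.leaf ⟨6,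 [5, 2, 7, 1, 6, 1], true, 6, [2, 9, 4, 1, 0, 8, 7, 0, 2, 6, 1, 0, 4]⟩)))))
def ft144 : DT := (.node 146 (.node 145 (.leaf ⟨6, [1, 7, 3, 2, 4, 1], true, 6, [6, 1, 8, 0, 5, 3, 0, 9, 5, 6, 2, 7, 0]⟩) (.leaf ⟨6, [4, 0, 2, 6, 5, 1], true, 6, [6, 0, 4, 0, 2, 6, 5, 1, 5, 9, 4, 8, 0]⟩)) (.node 147 (.leaf ⟨6, [2, 6, 9, 3, 4, 1], true, 6, [5, 0, 8, 9, 7, 9, 2, 6, 5, 1, 7, 9, 0, 9]⟩) (.node 148 (.leaf ⟨6, [0, 5, 1, 4, 9, 5, 2], true, 6, [0, 1, 6, 8, 0, 7, 4, 6, 1, 0, 6, 1, 4, 2]⟩) (.leaf ⟨6, [4, 7, 3, 0, 9, 2], true, 6, [6, 2, 7, 1, 6, 8, 4, 1, 0, 1, 4, 9, 5, 8]⟩))))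
def ft : DT := (.node 80 (.node 32 (.node 16 ft0 ft16) (.node 48 ft32 (.node 64 ft48 ft64))) (.node 112 (.node 96 ft80 ft96) (.node 128 ft112 (.node 144 ft128 ft144))))
def ks : List (List ℕ) := [[0], [4], [5], [6], [7], [8], [9]]
def kt : List (List ℕ) := [[0], [4], [5], [6], [7], [9], [8]]
def rs : List (List (List ℕ)) := [[[], []], [[], []], [[1, 0, 2, 0, 1, 0, 2, 0, 1, 0, 1, 0, 2, 0, 1, 0, 2], [1, 0, 2, 0, 1, 0, 2, 0, 1, 0, 1, 0, 2, 0, 1, 0, 2], [1, 0, 2, 0, 1, 0, 2, 0, 1, 0, 1, 0, 2, 0, 1, 0, 2]], [[2, 2, 0, 2, 0, 2, 0, 2, 0, 2, 0, 2, 0, 2, 2, 0, 2, 0, 2, 0], [0, 1, 0, 1, 0, 1, 1, 0, 1, 0, 1, 0, 1, 0, 1, 0, 1, 0, 1, 1, 1, 0, 1, 0, 1, 0, 1, 1, 0, 1, 0, 1, 0, 1, 1, 0, 1, 0, 1, 0, 1], [2,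 2, 0, 2, 0, 2, 0, 2, 0, 2, 0, 2, 0, 2, 2, 0, 2, 0, 2, 0], [0, 1, 0, 1, 0, 1, 1, 0, 1, 0, 1, 0, 1, 0, 1, 0, 1, 0, 1, 1, 1, 0, 1, 0, 1, 0, 1, 1, 0, 1, 0, 1, 0, 1, 1, 0, 1, 0, 1, 0, 1]], [[0, 1, 0, 1, 0, 1, 1, 0, 1, 0, 1, 0, 1, 0, 1, 0, 1, 0, 1, 1, 1, 0, 1, 0, 1, 0, 1, 1, 0, 1, 0, 1, 0, 1, 1, 0, 1, 0, 1, 0, 1], [2, 2, 0, 2, 0, 2, 0, 2, 0, 2, 0, 2, 0, 2, 2, 0, 2, 0, 2, 0], [0, 1, 0, 1, 0, 1, 1, 0, 1, 0, 1, 0, 1, 0, 1, 0, 1, 0, 1, 1, 1, 0, 1, 0, 1, 0, 1, 1, 0, 1, 0, 1, 0, 1, 1, 0, 1, 0, 1, 0, 1], [2, 2, 0, 2, 0, 2, 0, 2, 0, 2, 0, 2, 0, 2, 2, 0, 2, 0, 2, 0]]]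
def Ws : List (List (List ℕ)) := [[], [[]], [[3, 2, 0, 1, 0, 2], []], [[2, 0, 1, 0, 2], [3, 2, 0, 1, 0, 2], []], [[2, 0, 2], []], [[2, 0, 1, 0, 2], [2, 0, 1, 0, 2], [3, 2, 0, 1, 0, 2], []], [[2, 0, 2], [2, 0, 1, 0, 2], [3, 2, 0, 1, 0, 2], []]]
def bs : List ℕ := [0, 1, 2, 4, 5, 10, 15]
noncomputable def dP : DP := ⟨ap, 10, bs, invT 164408260094070912 10, ks, kt, nthR rs, ft.get, nthR Ws⟩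
def d0 : DL := ⟨0, [[0], [1], [3]], [[0], [1], [3]], [0], idW 10, idW 10, 501397585920, 1⟩

end Cfsg.Agent.H15.J4
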