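import Cfsg.Agent.H15.J4.D0
set_option autoImplicit false
set_option maxRecDepth 100000

namespace Cfsg.Agent.H15.J4
open Cfsg.Agent.H15 Cfsg.Agent.H14

def lo1_S6 : List (List ℕ) := [[6, 1, 8, 2, 7, 9, 3, 9]]
def lo1_T6 : List (List ℕ) := lo1_S6 ++ []
theorem lo1_k6 : stepOk ap 10 15180 id lo1_S6 [] 15 2 = true := by decide +kernel
def lo1_S5 : List (List ℕ) := [[3, 5, 1, 8, 2, 4, 8]]
def lo1_T5 : List (List ℕ) := lo1_S5 ++ lo1_T6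
theorem lo1_k5 : stepOk ap 10 15180 id lo1_S5 lo1_T6 10 2 = true := by decide +kernel
def lo1_S4 : List (List ℕ) := [[0, 5, 8, 4, 8, 0]]
def lo1_T4 : List (List ℕ) := lo1_S4 ++ lo1_T5
theorem lo1_k4 : stepOk ap 10 15180 id lo1_S4 lo1_T5 5 2 = true := by decide +kernel
def lo1_S3 : List (List ℕ) := [[6, 1, 8, 2, 7, 9, 3, 9], [0, 7, 7, 4, 0, 6, 0, 7, 5, 0], [6, 6, 0, 9, 4, 0, 9, 7, 0, 6, 0, 4]]
def lo1_T3 : List (List ℕ) := lo1_S3 ++ lo1_T4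
theorem lo1_k3 : stepOk ap 10 15180 id lo1_S3 lo1_T4 4 8 = true := by decide +kernel
def lo1_S2 : List (List ℕ) := [[0, 5, 8, 4, 0], [0, 7, 0, 5, 6, 8, 9, 5], [3, 4, 6, 9, 5, 9, 6, 3], [2, 6, 5, 7, 0, 7, 7, 0, 5, 1], [0, 7, 7, 4, 0, 6, 0, 7, 5, 0]]
def lo1_T2 : List (List ℕ) := lo1_S2 ++ lo1_T3
theorem lo1_k2 : stepOk ap 10 15180 id lo1_S2 lo1_T3 2 128 = true := by decide +kernel
def lo1_S1 : List (List ℕ) := [[0], [4], [9]]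
def lo1_T1 : List (List ℕ) := lo1_S1 ++ lo1_T2
theorem lo1_k1 : stepOk ap 10 15180 id lo1_S1 lo1_T2 1 4032 = true := by decide +kernel
def d1 : DL := ⟨1, [[0], [4], [9]], [[4], [6], [16]], [1, 16, 17, 18, 38, 52, 63], lo1_T1, [[4], [6], [16], [26], [8], [14], [10], [12], [30], [12], [28], [22], [24], [30]], 33030144, 15180⟩
def lo2_S5 : List (List ℕ) := [[6, 0, 5, 8, 4, 0, 7]]
def lo2_T5 : List (List ℕ) := lo2_S5 ++ []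
theorem lo2_k5 : stepOk ap 10 15180 id lo2_S5 [] 10 2 = true := by decide +kernel
def lo2_S3 : List (List ℕ) := [[0, 3, 0, 3, 7, 8, 6], [3, 4, 3, 5, 6, 3, 7]]
def lo2_T3 : List (List ℕ) := lo2_S3 ++ lo2_T5
theorem lo2_k3 : stepOk ap 10 15180 id lo2_S3 lo2_T5 4 4 = true := by decide +kernel
def lo2_S2 : List (List ℕ) := [[3, 4, 3, 5, 6, 3, 7], [5, 6, 0, 3, 9, 3, 0, 7, 4], [2, 5, 7, 8, 0, 9, 4, 9, 8, 4, 0, 1], [7, 8, 9, 7, 7, 0, 7, 3, 0, 3, 7, 9]]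
def lo2_T2 : List (List ℕ) := lo2_S2 ++ lo2_T3
theorem lo2_k2 : stepOk ap 10 15180 id lo2_S2 lo2_T3 2 32 = true := by decide +kernel
def lo2_S1 : List (List ℕ) := [[5, 6, 0, 3, 9, 3, 0, 7, 4], [0, 6, 6, 0, 9, 4, 6, 8, 7, 9], [6, 0, 8, 7, 0, 6, 8, 6, 9, 7]]
def lo2_T1 : List (List ℕ) := lo2_S1 ++ lo2_T2
theorem lo2_k1 : stepOk ap 10 15180 id lo2_S1 lo2_T2 1 1536 = true := by decide +kernel
def lo2_S0 : List (List ℕ) := [[0, 6, 6, 0, 9, 4, 6, 8, 7, 9], [8, 6, 6, 5, 9, 2, 8, 6, 6, 2, 7, 9, 1, 5]]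
def lo2_T0 : List (List ℕ) := lo2_S0 ++ lo2_T1
theorem lo2_k0 : stepOk ap 10 15180 id lo2_S0 lo2_T1 0 45 = true := by decide +kernel
def d2 : DL := ⟨2, [[0, 6, 6, 0, 9, 4, 6, 8, 7, 9], [8, 6, 6, 5, 9, 2, 8, 6, 6, 2, 7, 9, 1, 5]], [[42], [74]], [19, 34, 35, 39, 56, 97], lo2_T0, [[42], [74], [54], [42], [50], [62], [54], [52], [56], [46], [62], [58]], 17694720, 28336⟩
def lo3_S5 : List (List ℕ) := [[6, 0, 5, 8, 4, 0, 7]]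
def lo3_T5 : List (List ℕ) := lo3_S5 ++ []
theorem lo3_k5 : stepOk ap 10 15180 id lo3_S5 [] 10 2 = true := by decide +kernel
def lo3_S2 : List (List ℕ) := [[0, 7, 8, 4, 8, 7, 4, 6, 9, 5], [4, 4, 8, 9, 3, 6, 9, 5, 3, 0], [3, 4, 4, 8, 9, 6, 9, 5, 0, 3], [2, 7, 9, 0, 8, 4, 7, 8, 0, 4, 1], [9, 7, 8, 4, 4, 8, 9, 6, 0, 9, 0]]
def lo3_T2 : List (List ℕ) := lo3_S2 ++ lo3_T5
theorem lo3_k2 : stepOk ap 10 15180 id lo3_S2 lo3_T5 2 64 = true := by decide +kernel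
def lo3_S1 : List (List ℕ) := [[9, 4, 3, 6, 5, 3, 8, 6, 0], [6, 6, 9, 6, 0, 5, 8, 7, 8, 9]]
def lo3_T1 : List (List ℕ) := lo3_S1 ++ lo3_T2
theorem lo3_k1 : stepOk ap 10 15180 id lo3_S1 lo3_T2 1 384 = true := by decide +kernel
def lo3_S0 : List (List ℕ) := [[9, 0, 6, 5, 6, 9, 0, 7, 3, 4, 6]]
def lo3_T0 : List (List ℕ) := lo3_S0 ++ lo3_T1
theorem lo3_k0 : stepOk ap 10 15180 id lo3_S0 lo3_T1 0 3 = true := by decide +kernel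
def d3 : DL := ⟨3, [[9, 4, 3, 6, 5, 3, 8, 6, 0], [9, 0, 6, 5, 6, 9, 0, 7, 3, 4, 6]], [[82], [108]], [40, 51, 55, 57, 58, 59, 60, 61, 62, 72, 74, 76, 87, 99, 102, 104, 124], lo3_T0, [[108], [82], [90], [86], [94], [98], [88], [92], [100]], 147456, 3400320⟩
def lo4_S2 : List (List ℕ) := [[0, 7, 7, 8, 0, 8, 6, 6, 0], [9, 7, 4, 9, 5, 9, 0, 9, 0, 6]]
def lo4_T2 : List (List ℕ) := lo4_S2 ++ []
theorem lo4_k2 : stepOk ap 10 15180 id lo4_S2 [] 2 8 = true := by decide +kernel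
def lo4_S1 : List (List ℕ) := [[6, 6, 0, 8, 5, 8, 7, 7, 0, 8, 9], [7, 3, 0, 5, 9, 5, 7, 0, 8, 7, 9, 3]]
def lo4_T1 : List (List ℕ) := lo4_S1 ++ lo4_T2
theorem lo4_k1 : stepOk ap 10 15180 id lo4_S1 lo4_T2 1 384 = true := by decide +kernel
def lo4_S0 : List (List ℕ) := [[9, 7, 4, 9, 5, 9, 0, 9, 0, 6], [9, 2, 4, 2, 7, 4, 1, 6, 3, 0, 6, 6, 5, 1]]
def lo4_T0 : List (List ℕ) := lo4_S0 ++ lo4_T1
theorem lo4_k0 : stepOk ap 10 15180 id lo4_S0 lo4_T1 0 5 = true := by decide +kernel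
def d4 : DL := ⟨4, [[9, 7, 4, 9, 5, 9, 0, 9, 0, 6], [9, 2, 4, 2, 7, 4, 1, 6, 3, 0, 6, 6, 5, 1]], [[134], [156]], [64, 71, 73, 75, 79, 80, 81, 82, 83, 84, 85, 86, 106, 108, 110, 112, 132, 134, 136], lo4_T0, [[134], [156], [138], [132], [140], [134]], 15360, 32643072⟩
def lo5_S2 : List (List ℕ) := [[5, 6, 0, 3, 8, 6, 6, 9, 0, 5, 3, 7], [5, 7, 0, 7, 7, 8, 0, 9, 5, 0, 9, 5]]
def lo5_T2 : List (List ℕ) := lo5_S2 ++ []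
theorem lo5_k2 : stepOk ap 10 15180 id lo5_S2 [] 2 4 = true := by decide +kernel
def lo5_S1 : List (List ℕ) := [[8, 9, 6, 6, 0, 8, 4, 9, 0], [0, 7, 7, 7, 7, 9, 5, 9, 0, 5, 8]]
def lo5_T1 : List (List ℕ) := lo5_S1 ++ lo5_T2
theorem lo5_k1 : stepOk ap 10 15180 id lo5_S1 lo5_T2 1 768 = true := by decide +kernel
def lo5_S0 : List (List ℕ) := [[8, 9, 6, 6, 0, 8, 4, 9, 0], [0, 5, 3, 7, 3, 0, 8, 7, 0, 4, 6, 6]]
def lo5_T0 : List (List ℕ) := lo5_S0 ++ lo5_T1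
theorem lo5_k0 : stepOk ap 10 15180 id lo5_S0 lo5_T1 0 3 = true := by decide +kernel
def d5 : DL := ⟨5, [[8, 9, 6, 6, 0, 8, 4, 9, 0], [0, 5, 3, 7, 3, 0, 8, 7, 0, 4, 6, 6]], [[188], [200]], [88, 96, 98, 101, 103, 105, 107, 109, 111, 113, 114, 115, 116, 117, 118, 119, 120, 121, 122, 123, 138, 140, 142], lo5_T0, [[188], [200], [188], [186], [184], [190]], 9216, 54405120⟩
def lo6_S1 : List (List ℕ) := [[4, 9, 6, 0, 6, 9, 7, 0, 4, 6], [4, 0, 8, 7, 8, 5, 6, 0, 9, 5, 0], [8, 4, 7, 9, 7, 8, 9, 7, 4, 0, 7, 8]]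
def lo6_T1 : List (List ℕ) := lo6_S1 ++ []
theorem lo6_k1 : stepOk ap 10 15180 id lo6_S1 [] 1 24 = true := by decide +kernel
def lo6_S0 : List (List ℕ) := [[4, 9, 6, 0, 6, 9, 7, 0, 4, 6], [7, 0, 9, 5, 1, 7, 9, 6, 3, 4, 8, 4, 0]]
def lo6_T0 : List (List ℕ) := lo6_S0 ++ lo6_T1
theorem lo6_k0 : stepOk ap 10 15180 id lo6_S0 lo6_T1 0 253 = true := by decide +kernel
def d6 : DL := ⟨6, [[4, 9, 6, 0, 6, 9, 7, 0, 4, 6], [7, 0, 9, 5, 1, 7, 9, 6, 3, 4, 8, 4, 0]], [[252], [260]], [125, 131, 133, 135, 137, 139, 141, 143, 144, 145, 146, 147, 148], lo6_T0, [[252], [260], [252], [256], [254]], 6072, 82575360⟩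

end Cfsg.Agent.H15.J4
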