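import Cfsg.Agent.H15.J4.D0
set_option autoImplicit false
set_option maxRecDepth 100000

namespace Cfsg.Agent.H15.J4
open Cfsg.Agent.H15 Cfsg.Agent.H14

theorem g0 : dP.Good 0 20 := DP.good_of [⟨0, [], [], []⟩,
  ⟨1, [], [], [⟨0, [], []⟩]⟩,
  ⟨2, [], [], [⟨1, [], []⟩, ⟨0, [0], [0]⟩]⟩,
  ⟨2, [], [], [⟨1, [], []⟩, ⟨0, [5], [1]⟩]⟩,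
  ⟨6, [], [6, 6, 4, 6, 4, 6, 4, 6, 4, 7, 7, 5, 7, 5, 7, 5, 7, 5, 7, 7], []⟩,
  ⟨6, [], [7, 4, 7, 4, 7, 8, 4, 9, 7, 5, 9, 5, 7, 5, 6, 5], []⟩,
  ⟨6, [], [11, 4, 11, 7, 11, 6, 9, 5, 10, 7, 9, 5], []⟩,
  ⟨6, [], [4, 12, 7, 4, 7, 13, 9, 13, 5, 11, 6, 5], []⟩,
  ⟨2, [], [], [⟨1, [], []⟩, ⟨0, [8], [5]⟩]⟩,
  ⟨6, [], [7, 12, 14, 6, 16, 6, 17, 7, 7, 15, 17, 6], []⟩,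
  ⟨6, [], [11, 12, 19, 11, 9], []⟩,
  ⟨6, [], [20, 14, 18, 15, 13, 9], []⟩,
  ⟨6, [], [12, 20, 8, 10, 6, 8, 18, 4, 11, 5, 19, 5, 15, 10, 7], []⟩,
  ⟨6, [], [4, 16, 6, 14, 20, 19, 21, 15, 17, 9, 7, 5], []⟩,
  ⟨6, [], [10, 26, 10, 15, 21, 15], []⟩,
  ⟨6, [], [24, 26, 4, 6, 10, 24, 9, 27, 11, 9, 7, 5], []⟩,
  ⟨3, [2, 0, 6, 4, 5, 6, 1, 4, 4, 6, 2, 3], [], [⟨1, [], []⟩, ⟨0, [4, 7, 2, 6, 5, 1], [0, 4, 4, 0, 3, 3, 0, 2, 4]⟩]⟩,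
  ⟨3, [0, 1, 6, 3, 0, 2, 3, 5, 1, 0, 4, 0], [], [⟨16, [], [5, 2, 3, 0]⟩, ⟨16, [9, 17, 6], [3, 0, 2, 3, 5, 3, 3, 2, 4, 0, 4, 5]⟩]⟩,
  ⟨0, [], [], []⟩,
  ⟨1, [], [], [⟨18, [], []⟩]⟩] (by decide +kernel)
theorem g20 : dP.Good 20 40 := DP.good_of [⟨2, [], [], [⟨19, [], []⟩, ⟨18, [8, 6, 24, 7, 9], [0, 4, 5, 3, 0, 2, 0, 5, 0, 1]⟩]⟩,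
  ⟨2, [], [], [⟨19, [], []⟩, ⟨18, [8, 6, 20, 6, 17], [0, 3, 3, 0, 5, 1, 3, 6, 4, 5]⟩]⟩,
  ⟨6, [], [40, 42, 41, 43], []⟩,
  ⟨6, [], [44, 42, 45, 43], []⟩,
  ⟨2, [], [], [⟨19, [], []⟩, ⟨18, [4, 12, 10, 10, 21, 9, 5], [0, 5, 0, 2, 5, 0, 3, 5, 3, 0, 3]⟩]⟩,
  ⟨2, [], [], [⟨19, [], []⟩, ⟨18, [4, 8, 6, 9, 17, 5], [3, 0, 6, 4, 0, 3, 6, 3, 5, 4]⟩]⟩,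
  ⟨6, [], [50, 40, 48, 51, 42, 41, 49, 43, 50, 42, 42], []⟩,
  ⟨6, [], [43, 43, 51, 48, 43, 51, 45, 49, 51, 49, 51, 51], []⟩,
  ⟨6, [], [43, 52, 50, 42, 51, 55, 42, 41, 51, 51, 43], []⟩,
  ⟨6, [], [46, 44, 40, 50, 42, 51, 43, 43, 51, 43, 50, 42, 42, 41], []⟩,
  ⟨2, [], [], [⟨19, [], []⟩, ⟨18, [6, 10, 7, 30, 7, 5, 11], [1, 5, 6, 4, 5, 2, 6, 3, 3, 6, 1, 4]⟩]⟩,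
  ⟨6, [], [52, 56, 42, 51, 40, 43, 43, 57, 60, 60, 43, 41], []⟩,
  ⟨3, [3, 6, 2, 5, 4, 1, 5, 1, 5, 4], [], [⟨17, [], []⟩, ⟨18, [5, 15, 5], [1, 0, 3, 6, 0, 1, 6, 0, 4, 6, 1, 3]⟩]⟩,
  ⟨2, [1, 5, 0, 6, 2], [], [⟨32, [], []⟩, ⟨18, [13, 6], [0, 5, 3, 0, 3, 0, 6, 3, 3, 3]⟩]⟩,
  ⟨3, [3, 2, 4, 6, 4, 1, 5, 0, 4, 5, 4], [], [⟨19, [], [1]⟩, ⟨18, [6, 11, 5], [1, 0, 4, 5, 3, 5, 2, 6, 0, 4, 1]⟩]⟩,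
  ⟨3, [0, 6, 2, 3, 6, 0, 2, 6, 3, 0, 6], [], [⟨19, [], [4, 0]⟩, ⟨18, [17, 15], [0, 1, 0, 3, 6, 0, 2, 3, 3, 6, 2]⟩]⟩,
  ⟨4, [3, 6, 3, 5, 0, 1, 5, 1, 0], [], [⟨19, [], [0, 3, 2, 4, 4, 0, 5, 3, 5, 1, 6, 1]⟩, ⟨16, [29, 5, 7, 7], [6, 0, 3, 5, 1, 0, 6, 1, 5, 0, 5]⟩, ⟨18, [15, 5], [3, 0, 4, 1, 5, 3, 3, 0, 4, 0, 5]⟩]⟩,
  ⟨2, [6, 6, 9, 0, 9, 2], [], [⟨36, [], []⟩, ⟨36, [55, 61], [0, 3, 5, 1, 6, 0, 5, 2, 4, 0, 5]⟩]⟩,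
  ⟨3, [3, 3, 5, 3, 6, 1, 1, 4, 6, 0], [], [⟨18, [], [1, 0]⟩, ⟨19, [43, 74, 74], [3, 3, 3, 6, 4, 5, 1, 0, 2, 3, 3]⟩]⟩,
  ⟨0, [], [], []⟩] (by decide +kernel)
theorem g40 : dP.Good 40 60 := DP.good_of [⟨1, [], [], [⟨39, [], []⟩]⟩,
  ⟨2, [], [], [⟨40, [], []⟩, ⟨39, [75, 56, 60, 75, 53, 43], [2, 3, 6, 4, 1, 5, 2, 0, 3, 0]⟩]⟩,
  ⟨2, [], [], [⟨40, [], []⟩, ⟨39, [61, 50, 50, 57, 51, 43], [0, 5, 1, 6, 4, 1, 0, 4, 0, 2, 3, 5]⟩]⟩,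
  ⟨6, [], [84, 83, 85, 82, 85], []⟩,
  ⟨6, [], [84, 83, 83, 87, 83, 83, 83, 84, 83], []⟩,
  ⟨2, [], [], [⟨40, [], []⟩, ⟨39, [75, 42, 44, 56, 75, 49], [3, 3, 5, 3, 0, 2, 6, 4, 5, 6]⟩]⟩,
  ⟨6, [], [83, 86, 91, 83, 89, 90, 87, 83, 83], []⟩,
  ⟨6, [], [82, 85, 82, 93, 87, 85, 91], []⟩,
  ⟨2, [], [], [⟨40, [], []⟩, ⟨39, [51, 40, 66, 51, 53, 66, 43], [1, 5, 4, 1, 5, 4, 5, 1, 4, 6, 0]⟩]⟩,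
  ⟨6, [], [83, 84, 88, 97, 91, 95, 83], []⟩,
  ⟨6, [], [86, 88, 98, 84, 97, 90, 93, 85, 83, 83, 85], []⟩,
  ⟨3, [5, 1, 0, 4, 4, 4, 4, 6, 0, 5, 1, 0], [], [⟨18, [], []⟩, ⟨39, [57], [1, 5, 4, 1, 5, 6, 1, 3, 3, 3, 3, 5]⟩]⟩,
  ⟨1, [5, 4, 0, 3, 6, 0, 1, 5, 2, 4], [], [⟨51, [], []⟩]⟩,
  ⟨4, [0, 2, 5, 1, 4, 4, 5, 4, 5, 6, 1, 0], [], [⟨38, [], [1, 5, 6, 3, 0, 2, 6, 2, 5]⟩, ⟨16, [7, 9, 7], [0, 4, 1, 4, 6, 0, 5, 6, 4, 6, 0, 5]⟩, ⟨52, [21, 6, 9, 6], [0, 1, 0, 2, 6, 0, 5, 6, 3, 0, 5, 2]⟩]⟩,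
  ⟨2, [0, 2, 6, 3, 5, 1], [], [⟨53, [], []⟩, ⟨52, [19, 6, 13, 19, 5], [0, 1, 0, 6, 1, 5, 3, 3, 6, 0, 1, 3]⟩]⟩,
  ⟨4, [1, 0, 2, 4, 4, 0, 6, 1, 3, 0], [], [⟨19, [], [6, 0, 5, 2, 5, 6, 4, 4, 0, 4]⟩, ⟨38, [23, 7, 9], [1, 4, 4, 5, 2, 3, 3, 6, 1, 5]⟩, ⟨52, [31, 13, 17], [3, 0, 6, 4, 0, 5, 2, 0, 5, 6, 4, 6]⟩]⟩,
  ⟨1, [5, 1, 6, 4, 1, 3, 3, 3, 5], [], [⟨55, [], []⟩]⟩,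
  ⟨3, [0, 5, 2, 3, 0, 3, 3, 2, 4, 6, 3, 5], [], [⟨40, [], [2]⟩, ⟨39, [51, 51], [3, 0, 3, 3, 3, 5, 0, 1, 6, 4, 0, 6]⟩]⟩,
  ⟨3, [6, 3, 2, 3, 3, 3, 5, 2, 6, 0, 3], [], [⟨40, [], [1, 0]⟩, ⟨56, [66, 55], [1, 3, 6, 1, 4, 5, 1, 3, 6, 3, 5]⟩]⟩,
  ⟨3, [0, 2, 5, 0, 4, 5, 6, 3, 3, 5, 3, 3], [], [⟨40, [], [4, 4]⟩, ⟨39, [41, 50], [3, 0, 2, 3, 6, 0, 5, 3, 0, 1, 6, 0]⟩]⟩] (by decide +kernel)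
theorem g60 : dP.Good 60 80 := DP.good_of [⟨4, [5, 4, 6, 4, 5, 4, 4, 0, 5, 6, 0], [], [⟨40, [], [1, 4, 6, 0, 2, 5, 4, 0, 2, 3, 5, 3]⟩, ⟨19, [53, 75], [0, 5, 4, 0, 2, 0, 6, 3, 0, 3, 3, 5]⟩, ⟨52, [7, 5, 19, 13], [5, 0, 3, 0, 1, 0, 5, 2, 4, 6, 1, 3]⟩]⟩,
  ⟨3, [3, 3, 0, 4, 0, 3, 2, 6, 2, 4, 5], [], [⟨51, [], [1, 0]⟩, ⟨52, [17, 7, 5, 6], [0, 4, 6, 4, 1, 0, 5, 3, 3, 5, 4, 0, 2]⟩]⟩,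
  ⟨3, [3, 5, 0, 5, 3, 3, 0, 2, 5, 3, 2, 6], [], [⟨51, [], [3, 6, 0, 4]⟩, ⟨52, [13], [3, 0, 2, 5, 0, 6, 1, 5, 0, 5, 3]⟩]⟩,
  ⟨0, [], [], []⟩,
  ⟨1, [], [], [⟨63, [], []⟩]⟩,
  ⟨2, [], [], [⟨64, [], []⟩, ⟨63, [4, 8, 10, 16, 30, 28, 13, 17, 11, 9, 5], [0, 3, 5, 4, 1, 5, 1, 3, 5, 2]⟩]⟩,
  ⟨2, [], [], [⟨64, [], []⟩, ⟨63, [6, 10, 14, 7, 20, 15, 7, 21, 7, 13, 7], [4, 0, 4, 4, 6, 2, 0, 4, 5, 0, 3, 3]⟩]⟩,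
  ⟨6, [], [132, 131, 133], []⟩,
  ⟨6, [], [130, 133, 133, 133], []⟩,
  ⟨2, [], [], [⟨64, [], []⟩, ⟨63, [6, 11, 4, 10, 16, 15, 13, 5, 19, 17], [3, 3, 0, 6, 2, 6, 4, 4, 0, 5, 6]⟩]⟩,
  ⟨6, [], [132, 139, 133, 139, 132, 139, 131, 132, 138, 138, 133], []⟩,
  ⟨3, [0, 2, 0, 4, 5, 4, 6, 4, 5, 2, 0, 5], [], [⟨51, [], []⟩, ⟨63, [17, 7, 19, 9, 7], [1, 5, 4, 6, 3, 0, 2, 5, 0, 2]⟩]⟩,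
  ⟨1, [3, 3, 0, 6, 4, 5, 6, 4, 5, 3, 3], [], [⟨71, [], []⟩]⟩,
  ⟨3, [1, 6, 4, 5, 0, 5, 1, 5, 3, 3, 2], [], [⟨51, [], [3, 1]⟩, ⟨63, [21, 17, 19], [0, 3, 0, 6, 1, 0, 2, 3, 5, 1, 0]⟩]⟩,
  ⟨1, [0, 6, 4, 5, 0, 4, 5, 0, 4, 6, 4, 1], [], [⟨73, [], []⟩]⟩,
  ⟨4, [5, 1, 1, 4, 4, 6, 1, 4, 4], [], [⟨51, [], [3, 5, 6, 0, 3, 3, 6, 4, 5, 6, 2, 4]⟩, ⟨52, [5, 27, 11, 5, 7], [4, 0, 4, 4, 5, 6, 0, 6, 4, 1]⟩, ⟨74, [101, 108, 90], [2, 3, 3, 0, 6, 3, 3, 0, 5, 4, 0, 5]⟩]⟩,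
  ⟨1, [3, 0, 2, 5, 4, 6, 2, 0, 3, 5, 0], [], [⟨75, [], []⟩]⟩,
  ⟨4, [5, 3, 2, 6, 4, 6, 4, 0, 2, 5, 2], [], [⟨51, [], [0, 5, 0, 6, 1, 0, 5, 4, 4, 4, 4, 6]⟩, ⟨52, [5, 15, 25, 13, 5], [5, 3, 6, 3, 5, 1, 0, 2, 3, 0]⟩, ⟨74, [83, 90, 83], [0, 2, 5, 6, 4, 5, 0, 3, 3, 0, 1]⟩]⟩,
  ⟨2, [5, 9, 3, 6, 6, 2], [], [⟨77, [], []⟩, ⟨72, [109, 95, 85, 83], [4, 5, 6, 1, 1, 6, 3, 5, 3, 3, 0]⟩]⟩,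
  ⟨3, [0, 2, 0, 5, 6, 4, 4, 5, 6, 0], [], [⟨64, [], []⟩, ⟨63, [11, 7, 5, 15, 5], [0, 3, 0, 2, 0, 3, 0, 2, 4, 0]⟩]⟩] (by decide +kernel)
theorem g80 : dP.Good 80 100 := DP.good_of [⟨3, [0, 2, 3, 0, 5, 6, 1, 3], [], [⟨64, [], [1]⟩, ⟨63, [7, 7, 10, 9], [2, 3, 0, 2, 4]⟩]⟩,
  ⟨3, [0, 3, 5, 6, 2, 3, 3, 0, 3, 0], [], [⟨64, [], [1, 4]⟩, ⟨63, [13, 10, 7, 5], [0, 1, 5, 6, 0, 1, 5, 6, 0, 4, 4]⟩]⟩,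
  ⟨4, [1, 3, 6, 1, 4, 5, 0, 2, 6, 4, 6, 2], [], [⟨64, [], [1, 6, 4, 4, 4, 0, 5, 6, 0, 2]⟩, ⟨52, [17, 7, 19, 21, 5], [5, 6, 0, 5, 3, 3, 0, 4, 6, 4]⟩, ⟨76, [97, 97, 93], [2, 0, 3, 6, 0, 5, 2, 5, 6, 4, 5]⟩]⟩,
  ⟨4, [3, 6, 3, 0, 2, 3, 6, 4, 5, 3], [], [⟨64, [], [0, 3, 2, 4, 6, 1, 5, 6, 1, 4]⟩, ⟨52, [31, 5, 13, 15, 5], [4, 5, 0, 3, 0, 1, 0, 5, 1, 6, 3, 6]⟩, ⟨76, [85, 96], [0, 5, 2, 5, 0, 6, 4, 6, 0, 3, 0, 5]⟩]⟩,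
  ⟨3, [1, 0, 4, 1, 5, 4, 6, 1, 0, 4, 6, 0], [], [⟨71, [], [3, 1]⟩, ⟨76, [98, 96], [0, 1, 5, 6, 4, 6, 0, 3, 3, 0, 3, 5, 3]⟩]⟩,
  ⟨3, [0, 4, 0, 3, 3, 2, 5, 3, 3, 3], [], [⟨71, [], [5, 2, 3, 0]⟩, ⟨72, [85], [5, 4, 6, 0, 3, 3, 6, 0, 1, 3]⟩]⟩,
  ⟨4, [5, 6, 1, 0, 5, 4, 0, 5, 3, 5, 0, 3], [], [⟨71, [], [4, 6, 3, 0, 4, 1, 0, 4, 5, 2]⟩, ⟨60, [108, 87, 91], [1, 1, 5, 2, 3, 0, 2, 4, 6, 1, 4]⟩, ⟨72, [109, 87, 85], [6, 2, 3, 0, 4, 6, 4, 0, 4, 1, 3, 3]⟩]⟩,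
  ⟨0, [], [], []⟩,
  ⟨1, [], [], [⟨87, [], []⟩]⟩,
  ⟨2, [], [], [⟨88, [], []⟩, ⟨87, [109, 86, 108, 96], [0, 4, 0, 3, 5, 3, 6, 4, 0, 4, 5]⟩]⟩,
  ⟨2, [], [], [⟨88, [], []⟩, ⟨87, [92, 96, 85, 96, 93], [0, 2, 5, 6, 0, 6, 2, 4, 0, 3, 0]⟩]⟩,
  ⟨2, [], [], [⟨88, [], []⟩, ⟨87, [82, 100, 93, 89, 83], [1, 0, 3, 3, 5, 0, 6, 2, 5, 4, 1]⟩]⟩,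
  ⟨6, [], [180, 178, 180, 178, 180, 179, 179, 183, 181, 178, 181, 178, 181, 179], []⟩,
  ⟨2, [], [], [⟨88, [], []⟩, ⟨87, [84, 92, 83, 93, 83], [0, 4, 4, 4, 4, 5, 2, 5, 0, 2, 6]⟩]⟩,
  ⟨2, [], [], [⟨88, [], []⟩, ⟨87, [82, 109, 94, 83, 83], [5, 6, 3, 3, 0, 6, 1, 5, 0]⟩]⟩,
  ⟨6, [], [180, 187, 180, 179, 183, 188, 187, 181, 179], []⟩,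
  ⟨3, [6, 0, 5, 4, 6, 1, 3, 5, 4, 5, 4], [], [⟨39, [], []⟩, ⟨87, [93, 87], [0, 3, 2, 5, 1, 6, 3, 6, 3, 3]⟩]⟩,
  ⟨1, [3, 0, 5, 6, 2, 0, 5, 3, 2, 3, 5], [], [⟨96, [], []⟩]⟩,
  ⟨4, [4, 4, 5, 4, 4, 5, 2, 4, 4, 6, 4], [], [⟨40, [], [0, 1, 0, 3, 6, 0, 5, 6, 3, 2, 5]⟩, ⟨34, [74, 66, 74, 43], [0, 6, 1, 6, 0, 6, 2, 0, 4, 5, 4]⟩, ⟨97, [74, 60, 67], [5, 1, 6, 4, 4, 1, 5, 4, 4, 5, 1, 4]⟩]⟩,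
  ⟨1, [0, 6, 1, 6, 3, 5, 3, 3, 3, 0, 6], [], [⟨98, [], []⟩]⟩] (by decide +kernel)
theorem g100 : dP.Good 100 120 := DP.good_of [⟨2, [2, 3, 0, 1, 0, 2], [], [⟨98, [], []⟩, ⟨99, [82, 90, 108, 96, 84, 109, 90], [0, 2, 5, 6, 3, 5, 4, 1, 5, 0, 6, 2]⟩]⟩,
  ⟨4, [0, 1, 6, 3, 3, 5, 6, 2, 3, 6, 3, 0], [], [⟨51, [], [5, 4, 4, 6, 1, 6, 3, 6, 3, 2, 3]⟩, ⟨52, [5, 27, 11, 5, 7], [0, 5, 2, 5, 3, 0, 3, 0, 2, 3, 6, 1]⟩, ⟨99, [109, 83, 87], [2, 4, 6, 2, 0, 6, 4, 6, 0, 5]⟩]⟩,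
  ⟨1, [0, 5, 2, 5, 0, 1, 5, 0, 4, 0, 4, 0], [], [⟨101, [], []⟩]⟩,
  ⟨4, [1, 5, 1, 4, 5, 4, 0], [], [⟨55, [], [0, 2, 3, 5, 2, 4, 6, 4, 0, 6, 1, 0]⟩, ⟨56, [66, 41, 75], [3, 0, 4, 0, 5, 3, 0, 6, 2, 4, 5]⟩, ⟨99, [97], [2, 6, 4, 5, 4, 1, 5, 1, 4, 5, 6]⟩]⟩,
  ⟨1, [3, 3, 2, 3, 3, 5, 1, 1, 6, 0], [], [⟨103, [], []⟩]⟩,
  ⟨4, [4, 1, 0, 4, 4, 4, 4, 5, 2, 5, 3], [], [⟨64, [], [1, 4, 6, 0, 4, 5, 1, 1, 4, 6]⟩, ⟨52, [19, 17, 15, 7, 7], [0, 5, 2, 4, 5, 6, 0, 5, 4, 5, 6]⟩, ⟨102, [96, 82], [3, 5, 2, 4, 6, 0, 3, 0, 6, 3, 5]⟩]⟩,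
  ⟨1, [6, 0, 2, 3, 3, 6, 2, 5, 4, 4], [], [⟨105, [], []⟩]⟩,
  ⟨4, [0, 4, 1, 0, 3, 5, 0, 2, 6, 0, 4, 0], [], [⟨64, [], [0, 6, 4, 5, 4, 4, 5, 1, 0, 6]⟩, ⟨52, [15, 29, 19, 6], [3, 6, 1, 5, 0, 4, 4, 4, 5, 2, 4]⟩, ⟨104, [91, 87, 83, 83], [6, 2, 3, 5, 4, 4, 5, 4, 1, 6, 0]⟩]⟩,
  ⟨1, [0, 3, 0, 5, 3, 0, 3, 5, 1, 1, 4, 6], [], [⟨107, [], []⟩]⟩,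
  ⟨4, [1, 4, 4, 5, 4, 6, 4, 1, 0, 3, 6, 0], [], [⟨64, [], [2, 0, 4, 4, 6, 4, 6, 0, 3, 3, 5, 4]⟩, ⟨63, [31, 11, 9, 17, 7], [6, 4, 5, 0, 4, 0, 2, 3, 5, 0, 4, 5]⟩, ⟨108, [133, 141, 137], [0, 2, 6, 4, 0, 4, 4, 5, 4, 5, 4, 1]⟩]⟩,
  ⟨1, [0, 1, 5, 3, 0, 3, 0, 6, 2, 4, 6], [], [⟨109, [], []⟩]⟩,
  ⟨4, [5, 3, 3, 2, 4, 4, 5, 1, 1], [], [⟨64, [], [4, 1, 6, 3, 0, 4, 4, 1, 4, 5, 0]⟩, ⟨63, [13, 17, 7, 10], [2, 4, 4, 0, 5, 1, 3, 5, 1]⟩, ⟨108, [139, 133, 141, 139, 133], [3, 3, 2, 3, 6, 0, 2, 6, 0]⟩]⟩,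
  ⟨1, [0, 1, 5, 3, 2, 6, 4, 1, 6, 1, 1], [], [⟨111, [], []⟩]⟩,
  ⟨3, [4, 1, 5, 4, 5, 0, 6, 1, 4, 6], [], [⟨88, [], [2]⟩, ⟨87, [97, 93], [0, 6, 1, 5, 0, 4, 4, 4, 5, 2, 0]⟩]⟩,
  ⟨3, [5, 0, 2, 3, 5, 6, 3, 6, 1, 5], [], [⟨88, [], [1, 0]⟩, ⟨102, [101, 87], [0, 2, 5, 3, 0, 2, 4, 4, 0, 6, 3, 0]⟩]⟩,
  ⟨3, [0, 2, 6, 4, 6, 0, 2, 5, 6, 3, 3, 5], [], [⟨88, [], [4, 0]⟩, ⟨87, [93, 85], [0, 4, 6, 0, 5, 2, 5, 0, 5, 2, 5]⟩]⟩,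
  ⟨4, [6, 2, 3, 0, 6, 2, 0, 5, 0, 3, 5, 0], [], [⟨88, [], [0, 3, 2, 6, 0, 2, 5, 3, 5, 6, 3]⟩, ⟨60, [96, 91, 109], [1, 5, 3, 3, 6, 0, 1, 5, 6, 0, 2, 5]⟩, ⟨104, [91, 93, 85], [6, 1, 0, 5, 6, 2, 3, 6, 0, 5, 2]⟩]⟩,
  ⟨4, [1, 0, 6, 3, 0, 1, 3, 5, 2, 3, 0, 3], [], [⟨88, [], [3, 5, 3, 3, 2, 3, 0, 4, 1, 3, 5]⟩, ⟨76, [108, 97, 95, 91], [4, 5, 2, 5, 0, 6, 1, 1, 5, 0, 6]⟩, ⟨112, [139, 157, 131], [0, 4, 1, 0, 4, 5, 0, 3, 3, 6, 2, 3]⟩]⟩,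
  ⟨4, [3, 6, 1, 5, 0, 4, 5, 4, 1, 3, 5, 4], [], [⟨88, [], [0, 2, 4, 5, 6, 4, 5, 4, 6, 3, 0, 1]⟩, ⟨102, [109, 93], [0, 5, 6, 2, 5, 4, 4, 6, 4, 5, 4]⟩, ⟨117, [178, 201], [1, 4, 6, 4, 1, 6, 0, 5, 4, 0, 2]⟩]⟩,
  ⟨4, [1, 0, 2, 6, 3, 3, 5, 4, 5, 6, 2, 3, 6], [], [⟨88, [], [0, 2, 3, 5, 6, 1, 4, 5, 4, 4, 4, 4]⟩, ⟨55, [109, 82], [0, 5, 2, 0, 4, 0, 6, 3, 3, 6]⟩, ⟨97, [43, 55, 61, 66], [0, 5, 1, 0, 5, 2, 3, 0, 2, 3, 0, 4]⟩]⟩] (by decide +kernel)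
theorem g120 : dP.Good 120 140 := DP.good_of [⟨3, [1, 5, 2, 4, 5, 0, 3, 6, 4, 4, 1, 4], [], [⟨96, [], [1, 0]⟩, ⟨97, [42, 53, 51, 42], [2, 6, 2, 3, 5, 0, 4, 5, 0, 5, 2]⟩]⟩,
  ⟨3, [2, 6, 2, 0, 3, 0, 5, 3, 0, 2, 6], [], [⟨96, [], [3, 6, 0, 4]⟩, ⟨97, [55], [0, 2, 5, 4, 4, 1, 0, 6, 1, 0, 3]⟩]⟩,
  ⟨4, [0, 5, 4, 1, 6, 0, 4, 6, 3, 5], [], [⟨96, [], [0, 1, 0, 4, 5, 6, 4, 1, 3, 5, 2]⟩, ⟨97, [66, 50, 53, 43], [6, 1, 0, 5, 4, 0, 2, 3, 6, 0]⟩, ⟨117, [188, 187, 183], [0, 1, 0, 2, 5, 0, 5, 6, 2, 5, 2]⟩]⟩,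
  ⟨4, [4, 4, 6, 4, 0, 4, 4, 5, 0, 4], [], [⟨96, [], [6, 4, 1, 6, 4, 1, 5, 1, 3, 3, 0]⟩, ⟨34, [61, 67, 75, 43], [3, 6, 4, 4, 4, 5, 4, 4, 4, 0, 5, 4]⟩, ⟨97, [61, 57, 67], [0, 2, 6, 0, 4, 1, 4, 5, 1, 4, 4]⟩]⟩,
  ⟨0, [], [], []⟩,
  ⟨1, [], [], [⟨124, [], []⟩]⟩,
  ⟨2, [], [], [⟨125, [], []⟩, ⟨124, [108, 92, 96, 96, 99, 85, 109, 91], [1, 3, 0, 3, 5, 4, 0, 4, 5, 2]⟩]⟩,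
  ⟨2, [], [], [⟨125, [], []⟩, ⟨124, [83, 97, 90, 86, 92, 91, 97, 95], [6, 1, 4, 5, 4, 5, 6, 4, 1, 0, 4, 6]⟩]⟩,
  ⟨2, [], [], [⟨125, [], []⟩, ⟨124, [88, 108, 91, 98, 108, 93, 86, 85], [1, 0, 6, 4, 6, 2, 3, 0, 5, 2, 0]⟩]⟩,
  ⟨4, [5, 0, 1, 0, 5, 2, 5, 3, 5], [], [⟨51, [], [0, 3, 2, 4, 6, 0, 1, 6, 1, 5, 0, 2]⟩, ⟨52, [15, 21, 5, 6], [6, 3, 3, 0, 2, 5, 3, 3, 5, 0]⟩, ⟨124, [99, 108, 90, 87], [4, 5, 0, 2, 3, 6, 3, 2]⟩]⟩,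
  ⟨2, [0, 8, 1, 6, 2], [], [⟨129, [], []⟩, ⟨124, [82, 84, 109, 84], [0, 3, 3, 6, 2, 6, 3, 0, 2, 5, 6, 3]⟩]⟩,
  ⟨4, [5, 1, 6, 0, 1, 5, 3, 6, 1, 3], [], [⟨64, [], [0, 6, 4, 0, 2, 5, 3, 3, 5, 2, 0, 3]⟩, ⟨52, [7, 5, 11, 17], [0, 3, 3, 2, 4, 0, 2, 0, 6, 4, 6, 1]⟩, ⟨124, [87, 83, 83, 84], [6, 0, 3, 0, 4, 5, 2, 6, 2, 3, 5, 0]⟩]⟩,
  ⟨1, [4, 6, 0, 2, 5, 3, 6, 3, 6, 2, 3], [], [⟨131, [], []⟩]⟩,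
  ⟨4, [2, 0, 3, 3, 3, 3, 5, 2, 5, 3, 3], [], [⟨64, [], [0, 1, 0, 2, 3, 6, 3, 2, 3, 5, 0]⟩, ⟨63, [31, 6, 13, 7, 9], [2, 5, 0, 5, 4, 0, 4, 5, 4, 1, 0, 6]⟩, ⟨132, [137, 131, 138, 131], [0, 6, 2, 0, 6, 2, 3, 0, 5, 0]⟩]⟩,
  ⟨1, [0, 3, 6, 1, 0, 5, 4, 5, 2, 3, 6, 3], [], [⟨133, [], []⟩]⟩,
  ⟨4, [1, 3, 5, 6, 1, 4, 6, 4, 6, 2, 6, 0], [], [⟨64, [], [3, 3, 6, 2, 0, 6, 0, 5, 4, 5, 1, 6]⟩, ⟨52, [27, 5, 10, 5, 6], [0, 2, 5, 0, 6, 4, 0, 5, 6, 1, 0]⟩, ⟨124, [95, 97, 91, 83], [0, 3, 2, 6, 2, 0, 6, 3, 3, 2, 3]⟩]⟩,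
  ⟨1, [0, 1, 6, 1, 5, 4, 6, 2, 5, 0, 1], [], [⟨135, [], []⟩]⟩,
  ⟨4, [4, 0, 4, 6, 0, 1, 5, 6, 0, 6, 1], [], [⟨88, [], [6, 4, 4, 1, 5, 3, 6, 3, 3, 5, 6]⟩, ⟨76, [90, 109, 98], [4, 0, 6, 2, 4, 5, 6, 4, 5, 0, 5]⟩, ⟨136, [138, 138, 133, 133], [3, 2, 3, 0, 4, 4, 5, 2, 6, 0, 3]⟩]⟩,
  ⟨1, [1, 5, 3, 2, 4, 4, 6, 1, 5, 3, 3], [], [⟨137, [], []⟩]⟩,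
  ⟨4, [0, 4, 5, 6, 0, 4, 6, 0, 4, 5], [], [⟨96, [], [3, 0, 3, 5, 1, 6, 4, 0, 4, 5]⟩, ⟨97, [74, 59, 50, 53], [0, 1, 5, 4, 6, 0, 4, 1, 6, 1]⟩, ⟨138, [181, 189, 185], [0, 1, 3, 0, 3, 5, 0, 3, 0, 5, 2]⟩]⟩] (by decide +kernel)
theorem g140 : dP.Good 140 149 := DP.good_of [⟨1, [0, 2, 6, 0, 4, 5, 2, 3, 5, 3, 2, 4], [], [⟨139, [], []⟩]⟩,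
  ⟨4, [3, 5, 0, 4, 6, 4, 0, 5, 4, 4, 6], [], [⟨96, [], [1, 5, 0, 1, 5, 1, 5, 6, 3, 2, 6]⟩, ⟨97, [53, 66, 49], [0, 4, 1, 4, 4, 5, 0, 1, 5, 0, 6, 1]⟩, ⟨138, [188, 186, 181], [0, 4, 4, 6, 2, 5, 3, 0, 6, 2, 3]⟩]⟩,
  ⟨1, [1, 6, 4, 1, 5, 2, 0, 4, 6, 3, 5], [], [⟨141, [], []⟩]⟩,
  ⟨3, [6, 0, 4, 4, 0, 6, 0, 5, 1, 0, 5], [], [⟨125, [], [1]⟩, ⟨124, [108, 108, 101, 89], [3, 5, 0, 1, 6, 0, 4, 1, 3]⟩]⟩,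
  ⟨3, [5, 6, 1, 3, 3, 3, 5, 3, 3, 3, 2], [], [⟨125, [], [4]⟩, ⟨124, [89, 84, 89], [0, 3, 5, 2, 4, 4, 6, 0, 1, 6, 2, 3]⟩]⟩,
  ⟨3, [5, 3, 3, 5, 3, 6, 0, 2, 0, 4], [], [⟨125, [], [1, 0]⟩, ⟨124, [90, 95, 84, 82], [0, 4, 4, 6, 4, 5, 6, 0, 1, 0, 4, 6]⟩]⟩,
  ⟨3, [5, 0, 5, 4, 0, 2, 5, 2, 5, 6, 4], [], [⟨125, [], [1, 1]⟩, ⟨124, [84, 93, 96, 91], [0, 2, 5, 6, 1, 0, 6, 2, 6, 3, 6]⟩]⟩,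
  ⟨3, [1, 0, 4, 6, 4, 0, 2, 3, 5, 1, 4], [], [⟨125, [], [6, 1]⟩, ⟨124, [108, 108, 89], [5, 3, 0, 1, 0, 4, 5, 2, 0, 6, 1]⟩]⟩,
  ⟨4, [0, 4, 5, 6, 1, 6, 4, 6, 0, 2, 5, 2], [], [⟨125, [], [0, 4, 6, 0, 6, 1, 0, 6, 3, 3, 5, 1]⟩, ⟨76, [99, 87, 90], [1, 0, 6, 0, 3, 2, 4, 1, 5, 1, 4]⟩, ⟨134, [157, 139, 141, 133, 131], [3, 6, 3, 5, 2, 5, 6, 4, 1]⟩]⟩] (by decide +kernel)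
theorem dgood : dP.Good 0 149 := (DP.Good.append (DP.Good.append (DP.Good.append g0 g20) (DP.Good.append g40 g60)) (DP.Good.append (DP.Good.append g80 g100) (DP.Good.append g120 g140)))

end Cfsg.Agent.H15.J4
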