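import Cfsg.Agent.H15.J4.H
import Cfsg.Prelude.Def_Sporadic
set_option autoImplicit false
set_option maxRecDepth 100000

namespace Cfsg.Agent.H15.J4
open Cfsg.Agent.H15 Cfsg.Agent.H14

theorem d43 : 43 * 1 ∣ Nat.card (gp MMA.e ([[11]] ++ [])) := TabAct.dvd_step (A := MMA) dvd_one_gp d43x
theorem d43G : 43 * 1 ∣ Nat.card G := dvd_of_le_range ψ (gp_le.mpr fun _ _ => lprod_mem fun a _ => rψ a) d43
theorem d31 : 31 * 1 ∣ Nat.card (gp MMA.e ([[12]] ++ [])) := TabAct.dvd_step (A := MMA) dvd_one_gp d31x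
theorem d31G : 31 * 1 ∣ Nat.card G := dvd_of_le_range ψ (gp_le.mpr fun _ _ => lprod_mem fun a _ => rψ a) d31
theorem d37 : 37 * 1 ∣ Nat.card (gp MMA.e ([[13]] ++ [])) := TabAct.dvd_step (A := MMA) dvd_one_gp d37x
theorem d37G : 37 * 1 ∣ Nat.card G := dvd_of_le_range ψ (gp_le.mpr fun _ _ => lprod_mem fun a _ => rψ a) d37
theorem d29 : 29 * 1 ∣ Nat.card (gp MMA.e ([[14]] ++ [])) := TabAct.dvd_step (A := MMA) dvd_one_gp d29x
theorem d29G : 29 * 1 ∣ Nat.card G := dvd_of_le_range ψ (gp_le.mpr fun _ _ => lprod_mem fun a _ => rψ a) d29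
theorem d11 : 11 * 1 ∣ Nat.card (gp MMA.e ([[16]] ++ [])) := TabAct.dvd_step (A := MMA) dvd_one_gp d11x
theorem d11G : 11 * 1 ∣ Nat.card G := dvd_of_le_range ψ (gp_le.mpr fun _ _ => lprod_mem fun a _ => rψ a) d11
theorem d121 : 121 * 11 ∣ Nat.card (gp MMA.e ([[29]] ++ [[16]])) := TabAct.dvd_step (A := MMA) d11 d121x
theorem d121G : 121 * 11 ∣ Nat.card G := dvd_of_le_range ψ (gp_le.mpr fun _ _ => lprod_mem fun a _ => rψ a) d121
theorem dv11 : 173067389 * 11 ∣ Nat.card G :=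
  Dvd.dvd.trans (by decide +kernel) (Nat.lcm_dvd (Nat.lcm_dvd (Nat.lcm_dvd d43G d37G) (Nat.lcm_dvd d31G d29G)) d121G)
theorem sumb : ((ds.map fun d => (dh.p d.i, d.b)).map (·.2)).sum = 173067389 := by
  rw [List.map_map]; exact (by decide +kernel : (ds.map (·.b)).sum = 173067389)
theorem fx1 : ∀ γ ∈ MulAction.stabilizer Γ (A.c 0), φ γ • dh.p d1.i = dh.p d1.i := st1 ▸ cov.2 d1 (by simp [ds])
theorem dvd : 173067389 * 501397585920 ∣ Nat.card G :=
  dce_dvd (c' := 45581598720) (m := 33030144) base trans0 cov.1 sumb cardΓ dv11 (by norm_num) (by norm_num) (by norm_num)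
    (List.mem_map_of_mem (a := d1) (by simp [ds])) fx1 (st1 ▸ lo1_1.le_card) (by decide +kernel)
theorem fin : Finite G ∧ Nat.card G = 173067389 * 501397585920 ∧ φ.range.index = 173067389 ∧ Nat.card φ.range = 501397585920 ∧
    Function.Injective φ ∧ IsCoatom φ.range ∧ (∀ N : Subgroup G, N.Normal → N ≤ φ.range → N = ⊥) :=
  let ⟨a, b, c, d, e, f, g, _⟩ :=
    dce_fin base trans0 pok.full cov.1 sumb cardΓ.le dvd (by norm_num) (by
        rw [List.map_map]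
        exact (by decide +kernel : ∀ s ∈ subs (ds.map (·.b)), s ∣ 173067389 → s = 1 ∨ s = 173067389))
      (List.mem_map_of_mem (a := d1) (by simp [ds])) fx1
  ⟨a, b, c, d, e, f, g⟩
theorem ψ_inj : Function.Injective ψ := inj_of_coatom fin.2.2.2.2.2.1 fin.2.2.2.2.2.2 ψ
  (d37.trans (Subgroup.card_dvd_of_le (gp_le.mpr fun _ _ => lprod_mem fun a _ => rψ a))) (by rw [fin.2.2.2.1]; norm_num)
theorem ψx : ψ (φ (lprod A.e [0])) = lprod MMA.e [0] := by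
  rw [lprod_single, lprod_single]; exact (congrArg ψ e2.1).trans (hψ 0)
theorem simple : IsSimpleGroup G :=
  simple_dce2 (q := 37) (m := 15) (k := 2) fin.2.2.2.2.2.1 fin.2.2.2.2.2.2 ψ_inj (rψ 13)
    (by rw [← lprod_single (E := MMA.e)]; exact MMt.base.pow g37a) fin.2.2.2.1
    (by norm_num) (by norm_num) (lprod A.e [0]) (by rw [ψx, ← lprod_cons]; exact MMt.base.pow g37b)
    (base.pow (by decide +kernel)) (by norm_num) fun N hN h => eq_top_iff.mpr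
      (topΓ.ge.trans ((le4 sΓ).trans
        (base.kill sΓ.hi hN [([4, 0], [1], 0, 4, 3), ([], [2], 1, 1, 3), ([6, 2, 5], [3], 1, 3, 2)] [[0]] (gp_le.mpr fun w hw => List.mem_singleton.mp hw ▸ h) (by decide +kernel))))
theorem isJ4 : IsJ4 G := ⟨simple, fin.2.1⟩
theorem real_range {S T : Type*} [Group S] [Group T] {f : S →* T} (h : Function.Injective f) (hS : IsJ4 S) :
    ∃ H : Subgroup T, IsJ4 H :=
  have := hS.1
  have e := MonoidHom.ofInjective h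
  ⟨f.range, e.symm.isSimpleGroup, (Nat.card_congr e.symm.toEquiv).trans hS.2⟩
theorem mat : ∃ H : Subgroup (GL (Fin MM.m) (ZMod MM.p)), IsJ4 H := real_range ψ_inj isJ4
theorem mat' : ∃ H : Subgroup (GL (Fin 112) (ZMod 2)), IsJ4 H := mat
theorem hH : (Subgroup.closure ({Spor.J4.x, Spor.J4.y, (Spor.J4.y * ((Spor.J4.y * Spor.J4.x) ^ 4 * Spor.J4.y⁻¹ * Spor.J4.x)⁻¹ * Spor.J4.t * ((Spor.J4.y * Spor.J4.x) ^ 4 * Spor.J4.y⁻¹ * Spor.J4.x)) ^ 3} : Set (FreeGroup Spor.J4.Gen))).map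
    (PresentedGroup.mk (Spor.coxRelators Spor.J4.edges ∪ {r | r ∈ Spor.J4.extra})) = φ.range := by
  have e : PresentedGroup.mk (Spor.coxRelators Spor.J4.edges ∪ {r | r ∈ Spor.J4.extra}) ((Spor.J4.y * ((Spor.J4.y * Spor.J4.x) ^ 4 * Spor.J4.y⁻¹ * Spor.J4.x)⁻¹ * Spor.J4.t * ((Spor.J4.y * Spor.J4.x) ^ 4 * Spor.J4.y⁻¹ * Spor.J4.x)) ^ 3) = E2 3 :=
    (mkw _).trans ((congrArg (lprod E) (by decide +kernel)).trans e2.2.2.2.2.symm)
  have m : ∀ {K : Subgroup G} {a b : G}, a = b → a ∈ K → b ∈ K := fun h h' => h ▸ h'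
  rw [rφ, MonoidHom.map_closure]
  refine le_antisymm ((Subgroup.closure_le _).mpr ?_) ((le4 sH).trans (gp_le.mpr ?_))
  · rintro _ ⟨_, rfl | rfl | rfl, rfl⟩
    exacts [m e2.1 (mem_cl (e := cut 10 E2) (l := 0) (by omega)), m e2.2.1 (mem_cl (e := cut 10 E2) (l := 1) (by omega)),
      m e.symm (mem_cl (e := cut 10 E2) (l := 3) (by omega))]
  · have h := fun x (h : x ∈ ({Spor.J4.x, Spor.J4.y, (Spor.J4.y * ((Spor.J4.y * Spor.J4.x) ^ 4 * Spor.J4.y⁻¹ * Spor.J4.x)⁻¹ * Spor.J4.t * ((Spor.J4.y * Spor.J4.x) ^ 4 * Spor.J4.y⁻¹ * Spor.J4.x)) ^ 3} : Set (FreeGroup Spor.J4.Gen))) =>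
      Subgroup.subset_closure (Set.mem_image_of_mem (PresentedGroup.mk (Spor.coxRelators Spor.J4.edges ∪ {r | r ∈ Spor.J4.extra})) h)
    simp only [List.forall_mem_cons, lprod_single]
    exact ⟨m e2.1.symm (h Spor.J4.x (by simp)), m e2.2.1.symm (h Spor.J4.y (by simp)),
      m e2.2.2.1.symm (inv_mem (h Spor.J4.y (by simp))), m e (h _ (by simp)), List.forall_mem_nil _⟩

end Cfsg.Agent.H15.J4
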