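import Cfsg.Agent.H15.J4.D0
set_option autoImplicit false
set_option maxRecDepth 100000

namespace Cfsg.Agent.H15.J4
open Cfsg.Agent.H15 Cfsg.Agent.H14

set_option Elab.async false
def kcS5 : List (List ℕ) := [[5, 1, 5, 4, 5, 0, 1, 5, 4, 0]]
def kcT5 : List (List ℕ) := kcS5 ++ []
theorem kck5 : stepOk (fun x l => tr ap (nthW ks l) x) 7 15180 id kcS5 [] 15 2 = true := by decide +kernel
def kcS4 : List (List ℕ) := [[3, 0, 2, 5, 1, 0, 4]]
def kcT4 : List (List ℕ) := kcS4 ++ kcT5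
theorem kck4 : stepOk (fun x l => tr ap (nthW ks l) x) 7 15180 id kcS4 kcT5 10 2 = true := by decide +kernel
def kcS3 : List (List ℕ) := [[0, 5, 2, 5, 1, 0]]
def kcT3 : List (List ℕ) := kcS3 ++ kcT4
theorem kck3 : stepOk (fun x l => tr ap (nthW ks l) x) 7 15180 id kcS3 kcT4 5 2 = true := by decide +kernel
def kcS2 : List (List ℕ) := [[5, 2, 5, 1, 0, 5, 0], [0, 4, 4, 1, 0, 3, 0, 4, 2, 0]]
def kcT2 : List (List ℕ) := kcS2 ++ kcT3
theorem kck2 : stepOk (fun x l => tr ap (nthW ks l) x) 7 15180 id kcS2 kcT3 4 8 = true := by decide +kernel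
def kcS1 : List (List ℕ) := [[0, 3, 0, 4, 0], [6, 1, 0, 2, 6], [0, 4, 4, 0, 3, 3, 0]]
def kcT1 : List (List ℕ) := kcS1 ++ kcT2
theorem kck1 : stepOk (fun x l => tr ap (nthW ks l) x) 7 15180 id kcS1 kcT2 2 128 = true := by decide +kernel
def kcS0 : List (List ℕ) := [[2], [4], [6]]
def kcT0 : List (List ℕ) := kcS0 ++ kcT1
theorem kck0 : stepOk (fun x l => tr ap (nthW ks l) x) 7 15180 id kcS0 kcT1 1 4032 = true := by decide +kernel
theorem tr0 : stepOk ap 10 15180 id [[0], [1], [3]] [] 0 15180 = true := by decide +kernel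
theorem hperm_0 : RAll (permAt ap (invT hT 10) 15180 10) 0 4000 := RAll.of (by decide +kernel)
theorem hperm_4000 : RAll (permAt ap (invT hT 10) 15180 10) 4000 8000 := RAll.of (by decide +kernel)
theorem hperm_8000 : RAll (permAt ap (invT hT 10) 15180 10) 8000 12000 := RAll.of (by decide +kernel)
theorem hperm_12000 : RAll (permAt ap (invT hT 10) 15180 10) 12000 15180 := RAll.of (by decide +kernel)
theorem hperm : RAll (permAt ap (invT hT 10) 15180 10) 0 15180 :=
  (RAll.append (RAll.append hperm_0 hperm_4000) (RAll.append hperm_8000 hperm_12000))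

end Cfsg.Agent.H15.J4
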