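import Cfsg.Agent.H15.J4.D1
set_option autoImplicit false
set_option maxRecDepth 100000

namespace Cfsg.Agent.H15.J4
open Cfsg.Agent.H15 Cfsg.Agent.H14

theorem lv2a : (okS dP.L d2.S && dP.gains 149 d2.i d2.S d2.sws && dP.cov 149 15180 d2.i [0, 1, 2, 3, 4, 5, 6] d2.S d2.es 0) = true := by decide +kernel
theorem lv2b : (dP.gains 149 d2.i d2.T d2.tws && Nat.ble 501397585920 (d2.b * d2.m) && Nat.blt 0 d2.m) = true := by decide +kernel
theorem lv5a : (okS dP.L d5.S && dP.gains 149 d5.i d5.S d5.sws && dP.cov 149 15180 d5.i [0, 1, 2, 3, 4, 5, 6] d5.S d5.es 0) = true := by decide +kernel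
theorem lv5b : (dP.gains 149 d5.i d5.T d5.tws && Nat.ble 501397585920 (d5.b * d5.m) && Nat.blt 0 d5.m) = true := by decide +kernel

end Cfsg.Agent.H15.J4
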