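import Cfsg.Agent.H15.J4.T
set_option autoImplicit false
set_option maxRecDepth 100000

namespace Cfsg.Agent.H15.J4
open Cfsg.Agent.H15 Cfsg.Agent.H14

theorem hrel_f0_0 : RAll (relsAt ap BH) 0 400 := RAll.of (by decide +kernel)
theorem hrel_f0_400 : RAll (relsAt ap BH) 400 800 := RAll.of (by decide +kernel)
theorem hrel_f0_800 : RAll (relsAt ap BH) 800 1200 := RAll.of (by decide +kernel)
theorem hrel_f0_1200 : RAll (relsAt ap BH) 1200 1600 := RAll.of (by decide +kernel)
theorem hrel_f0_1600 : RAll (relsAt ap BH) 1600 2000 := RAll.of (by decide +kernel)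
theorem hrel_f0_2000 : RAll (relsAt ap BH) 2000 2400 := RAll.of (by decide +kernel)
theorem hrel_f0_2400 : RAll (relsAt ap BH) 2400 2800 := RAll.of (by decide +kernel)
theorem hrel_f0_2800 : RAll (relsAt ap BH) 2800 3200 := RAll.of (by decide +kernel)
theorem hrel_f0_3200 : RAll (relsAt ap BH) 3200 3600 := RAll.of (by decide +kernel)
theorem hrel_f0_3600 : RAll (relsAt ap BH) 3600 3800 := RAll.of (by decide +kernel)
theorem hrel_f0 : RAll (relsAt ap BH) 0 3800 :=
  (RAll.append (RAll.append (RAll.append hrel_f0_0 hrel_f0_400) (RAll.append hrel_f0_800 (RAll.append hrel_f0_1200 hrel_f0_1600))) (RAll.append (RAll.append hrel_f0_2000 hrel_f0_2400) (RAll.append hrel_f0_2800 (RAll.append hrel_f0_3200 hrel_f0_3600))))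

end Cfsg.Agent.H15.J4
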