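import Cfsg.Agent.H15.J4.T
set_option autoImplicit false
set_option maxRecDepth 100000

namespace Cfsg.Agent.H15.J4
open Cfsg.Agent.H15 Cfsg.Agent.H14

theorem hrel_f1_3800 : RAll (relsAt ap BH) 3800 4200 := RAll.of (by decide +kernel)
theorem hrel_f1_4200 : RAll (relsAt ap BH) 4200 4600 := RAll.of (by decide +kernel)
theorem hrel_f1_4600 : RAll (relsAt ap BH) 4600 5000 := RAll.of (by decide +kernel)
theorem hrel_f1_5000 : RAll (relsAt ap BH) 5000 5400 := RAll.of (by decide +kernel)
theorem hrel_f1_5400 : RAll (relsAt ap BH) 5400 5800 := RAll.of (by decide +kernel)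
theorem hrel_f1_5800 : RAll (relsAt ap BH) 5800 6200 := RAll.of (by decide +kernel)
theorem hrel_f1_6200 : RAll (relsAt ap BH) 6200 6600 := RAll.of (by decide +kernel)
theorem hrel_f1_6600 : RAll (relsAt ap BH) 6600 7000 := RAll.of (by decide +kernel)
theorem hrel_f1_7000 : RAll (relsAt ap BH) 7000 7400 := RAll.of (by decide +kernel)
theorem hrel_f1_7400 : RAll (relsAt ap BH) 7400 7600 := RAll.of (by decide +kernel)
theorem hrel_f1 : RAll (relsAt ap BH) 3800 7600 :=
  (RAll.append (RAll.append (RAll.append hrel_f1_3800 hrel_f1_4200) (RAll.append hrel_f1_4600 (RAll.append hrel_f1_5000 hrel_f1_5400))) (RAll.append (RAll.append hrel_f1_5800 hrel_f1_6200) (RAll.append hrel_f1_6600 (RAll.append hrel_f1_7000 hrel_f1_7400))))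

end Cfsg.Agent.H15.J4
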