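import Cfsg.Agent.H15.J4.T
set_option autoImplicit false
set_option maxRecDepth 100000

namespace Cfsg.Agent.H15.J4
open Cfsg.Agent.H15 Cfsg.Agent.H14

theorem hrel_f2_7600 : RAll (relsAt ap BH) 7600 8000 := RAll.of (by decide +kernel)
theorem hrel_f2_8000 : RAll (relsAt ap BH) 8000 8400 := RAll.of (by decide +kernel)
theorem hrel_f2_8400 : RAll (relsAt ap BH) 8400 8800 := RAll.of (by decide +kernel)
theorem hrel_f2_8800 : RAll (relsAt ap BH) 8800 9200 := RAll.of (by decide +kernel)
theorem hrel_f2_9200 : RAll (relsAt ap BH) 9200 9600 := RAll.of (by decide +kernel)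
theorem hrel_f2_9600 : RAll (relsAt ap BH) 9600 10000 := RAll.of (by decide +kernel)
theorem hrel_f2_10000 : RAll (relsAt ap BH) 10000 10400 := RAll.of (by decide +kernel)
theorem hrel_f2_10400 : RAll (relsAt ap BH) 10400 10800 := RAll.of (by decide +kernel)
theorem hrel_f2_10800 : RAll (relsAt ap BH) 10800 11200 := RAll.of (by decide +kernel)
theorem hrel_f2_11200 : RAll (relsAt ap BH) 11200 11400 := RAll.of (by decide +kernel)
theorem hrel_f2 : RAll (relsAt ap BH) 7600 11400 :=
  (RAll.append (RAll.append (RAll.append hrel_f2_7600 hrel_f2_8000) (RAll.append hrel_f2_8400 (RAll.append hrel_f2_8800 hrel_f2_9200))) (RAll.append (RAll.append hrel_f2_9600 hrel_f2_10000) (RAll.append hrel_f2_10400 (RAll.append hrel_f2_10800 hrel_f2_11200))))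

end Cfsg.Agent.H15.J4
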