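import Cfsg.Agent.H15.J4.T
set_option autoImplicit false
set_option maxRecDepth 100000

namespace Cfsg.Agent.H15.J4
open Cfsg.Agent.H15 Cfsg.Agent.H14

theorem hrel_f3_11400 : RAll (relsAt ap BH) 11400 11800 := RAll.of (by decide +kernel)
theorem hrel_f3_11800 : RAll (relsAt ap BH) 11800 12200 := RAll.of (by decide +kernel)
theorem hrel_f3_12200 : RAll (relsAt ap BH) 12200 12600 := RAll.of (by decide +kernel)
theorem hrel_f3_12600 : RAll (relsAt ap BH) 12600 13000 := RAll.of (by decide +kernel)
theorem hrel_f3_13000 : RAll (relsAt ap BH) 13000 13400 := RAll.of (by decide +kernel)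
theorem hrel_f3_13400 : RAll (relsAt ap BH) 13400 13800 := RAll.of (by decide +kernel)
theorem hrel_f3_13800 : RAll (relsAt ap BH) 13800 14200 := RAll.of (by decide +kernel)
theorem hrel_f3_14200 : RAll (relsAt ap BH) 14200 14600 := RAll.of (by decide +kernel)
theorem hrel_f3_14600 : RAll (relsAt ap BH) 14600 15000 := RAll.of (by decide +kernel)
theorem hrel_f3_15000 : RAll (relsAt ap BH) 15000 15180 := RAll.of (by decide +kernel)
theorem hrel_f3 : RAll (relsAt ap BH) 11400 15180 :=
  (RAll.append (RAll.append (RAll.append hrel_f3_11400 hrel_f3_11800) (RAll.append hrel_f3_12200 (RAll.append hrel_f3_12600 hrel_f3_13000))) (RAll.append (RAll.append hrel_f3_13400 hrel_f3_13800) (RAll.append hrel_f3_14200 (RAll.append hrel_f3_14600 hrel_f3_15000))))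

end Cfsg.Agent.H15.J4
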