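import Cfsg.Agent.H15.J4.Q
import Cfsg.Agent.H15.J4.K
import Cfsg.Agent.H15.J4.D1
import Cfsg.Agent.H15.J4.D2
import Cfsg.Agent.H15.J4.L0
import Cfsg.Agent.H15.J4.L1
import Cfsg.Agent.H15.J4.L2
import Cfsg.Agent.H15.J4.R0
import Cfsg.Agent.H15.J4.R1
import Cfsg.Agent.H15.J4.R2
import Cfsg.Agent.H15.J4.R3
set_option autoImplicit false
set_option maxRecDepth 100000

namespace Cfsg.Agent.H15.J4
open Cfsg.Agent.H15 Cfsg.Agent.H14

theorem hrel : RAll (relsAt ap BH) 0 15180 :=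
  (RAll.append (RAll.append hrel_f0 hrel_f1) (RAll.append hrel_f2 hrel_f3))
theorem pok : PermOk ap (invT hT 10) 15180 10 := PermOk.of hperm (by decide +kernel)
theorem sπ : Sat pok.perm (invT hT 10) BH := pok.sat (by decide +kernel) hrel
abbrev Γ : Type := grG (cut 10 E2) pok.perm
noncomputable def φ : Γ →* G := gr1 _ _
noncomputable def ρ : Γ →* Equiv.Perm (Fin 15180) := gr2 _ _
noncomputable def A : TabAct Γ (Via ρ) := pok.tab.via ρ (grE _ _) fun _ _ => rfl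
theorem sΓ : Sat A.e (invT hT 10) BH := sH.gr sπ
theorem topΓ : cl A.e 10 = ⊤ := gr_top (fun _ => cut_ge) pok.perm_ge
theorem cΓ : CardLe (⊤ : Subgroup Γ) (2048 * 244823040) := topΓ ▸ boundH sΓ
instance finΓ : Finite Γ := cΓ.finite_top
theorem trans0 : A.seg 0 A.n ⊆ MulAction.orbit (⊤ : Subgroup Γ) (A.c 0) := A.trans_orb pok.full _ tr0
theorem lo1_6 : A.Lower (gp A.e lo1_T6) [15] 2 := TabAct.Lower.step (k := 2) (A.lower_nil _) lo1_k6
theorem lo1_5 : A.Lower (gp A.e lo1_T5) [10, 15] 4 := TabAct.Lower.step (k := 2) lo1_6 lo1_k5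
theorem lo1_4 : A.Lower (gp A.e lo1_T4) [5, 10, 15] 8 := TabAct.Lower.step (k := 2) lo1_5 lo1_k4
theorem lo1_3 : A.Lower (gp A.e lo1_T3) [4, 5, 10, 15] 64 := TabAct.Lower.step (k := 8) lo1_4 lo1_k3
theorem lo1_2 : A.Lower (gp A.e lo1_T2) [2, 4, 5, 10, 15] 8192 := TabAct.Lower.step (k := 128) lo1_3 lo1_k2
theorem lo1_1 : A.Lower (gp A.e lo1_T1) [1, 2, 4, 5, 10, 15] 33030144 := TabAct.Lower.step (k := 4032) lo1_2 lo1_k1
theorem lo2_5 : A.Lower (gp A.e lo2_T5) [10] 2 := TabAct.Lower.step (k := 2) (A.lower_nil _) lo2_k5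
theorem lo2_3 : A.Lower (gp A.e lo2_T3) [4, 10] 8 := TabAct.Lower.step (k := 4) lo2_5 lo2_k3
theorem lo2_2 : A.Lower (gp A.e lo2_T2) [2, 4, 10] 256 := TabAct.Lower.step (k := 32) lo2_3 lo2_k2
theorem lo2_1 : A.Lower (gp A.e lo2_T1) [1, 2, 4, 10] 393216 := TabAct.Lower.step (k := 1536) lo2_2 lo2_k1
theorem lo2_0 : A.Lower (gp A.e lo2_T0) [0, 1, 2, 4, 10] 17694720 := TabAct.Lower.step (k := 45) lo2_1 lo2_k0
theorem lo3_5 : A.Lower (gp A.e lo3_T5) [10] 2 := TabAct.Lower.step (k := 2) (A.lower_nil _) lo3_k5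
theorem lo3_2 : A.Lower (gp A.e lo3_T2) [2, 10] 128 := TabAct.Lower.step (k := 64) lo3_5 lo3_k2
theorem lo3_1 : A.Lower (gp A.e lo3_T1) [1, 2, 10] 49152 := TabAct.Lower.step (k := 384) lo3_2 lo3_k1
theorem lo3_0 : A.Lower (gp A.e lo3_T0) [0, 1, 2, 10] 147456 := TabAct.Lower.step (k := 3) lo3_1 lo3_k0
theorem lo4_2 : A.Lower (gp A.e lo4_T2) [2] 8 := TabAct.Lower.step (k := 8) (A.lower_nil _) lo4_k2
theorem lo4_1 : A.Lower (gp A.e lo4_T1) [1, 2] 3072 := TabAct.Lower.step (k := 384) lo4_2 lo4_k1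
theorem lo4_0 : A.Lower (gp A.e lo4_T0) [0, 1, 2] 15360 := TabAct.Lower.step (k := 5) lo4_1 lo4_k0
theorem lo5_2 : A.Lower (gp A.e lo5_T2) [2] 4 := TabAct.Lower.step (k := 4) (A.lower_nil _) lo5_k2
theorem lo5_1 : A.Lower (gp A.e lo5_T1) [1, 2] 3072 := TabAct.Lower.step (k := 768) lo5_2 lo5_k1
theorem lo5_0 : A.Lower (gp A.e lo5_T0) [0, 1, 2] 9216 := TabAct.Lower.step (k := 3) lo5_1 lo5_k0
theorem lo6_1 : A.Lower (gp A.e lo6_T1) [1] 24 := TabAct.Lower.step (k := 24) (A.lower_nil _) lo6_k1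
theorem lo6_0 : A.Lower (gp A.e lo6_T0) [0, 1] 6072 := TabAct.Lower.step (k := 253) lo6_1 lo6_k0
theorem lowT : A.Lower ⊤ [0, 1, 2, 4, 5, 10, 15] ((15180 - 0) * 33030144) :=
  lo1_1.seg (a := 0) (by norm_num) le_rfl trans0 le_top (A.gp_le_stabilizer (by decide +kernel) (by decide +kernel) (by decide +kernel))
theorem cardΓ : Nat.card Γ = 501397585920 := le_antisymm (card_top_eq.ge.trans cΓ.2) (lowT.le_card.trans card_top_eq.le)
theorem base : A.Base ⊤ bs := lowT.base cΓ.2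
theorem low0 : 501397585920 ≤ Nat.card (gp A.e (idW 10)) := by rw [gp_idW, topΓ]; exact lowT.le_card
def ds : List DL := [d0, d1, d2, d3, d4, d5, d6]
theorem live : ∀ d ∈ ds, DHyp.Live (P := dP) (A := A) 149 501397585920 (ds.map (·.i)) d := by
  simp only [ds, List.forall_mem_cons]
  exact ⟨⟨lv0a, lv0b, low0⟩, ⟨lv1a, lv1b, lo1_1.le_card⟩, ⟨lv2a, lv2b, lo2_0.le_card⟩, ⟨lv3a, lv3b, lo3_0.le_card⟩, ⟨lv4a, lv4b, lo4_0.le_card⟩, ⟨lv5a, lv5b, lo5_0.le_card⟩, ⟨lv6a, lv6b, lo6_0.le_card⟩, List.forall_mem_nil _⟩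
theorem ksok : okS A.L ks = true := by decide +kernel
theorem kc5 : (A.comp ks ksok).Lower (gp (A.comp ks ksok).e kcT5) [15] 2 := TabAct.Lower.step (k := 2) ((A.comp ks ksok).lower_nil _) kck5
theorem kc4 : (A.comp ks ksok).Lower (gp (A.comp ks ksok).e kcT4) [10, 15] 4 := TabAct.Lower.step (k := 2) kc5 kck4
theorem kc3 : (A.comp ks ksok).Lower (gp (A.comp ks ksok).e kcT3) [5, 10, 15] 8 := TabAct.Lower.step (k := 2) kc4 kck3
theorem kc2 : (A.comp ks ksok).Lower (gp (A.comp ks ksok).e kcT2) [4, 5, 10, 15] 64 := TabAct.Lower.step (k := 8) kc3 kck2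
theorem kc1 : (A.comp ks ksok).Lower (gp (A.comp ks ksok).e kcT1) [2, 4, 5, 10, 15] 8192 := TabAct.Lower.step (k := 128) kc2 kck1
theorem kc0 : (A.comp ks ksok).Lower (gp (A.comp ks ksok).e kcT0) [1, 2, 4, 5, 10, 15] 33030144 := TabAct.Lower.step (k := 4032) kc1 kck0
theorem hK : MulAction.stabilizer Γ (A.c 0) ≤ gp A.e dP.ks :=
  (A.stab_of_card (hs := ks) (m := 33030144) cardΓ.le (cl_nth A.e ks ▸ kc0.le_gp (by decide +kernel)) (by norm_num) trans0 (by decide +kernel)).1.ge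
theorem st1 : gp A.e lo1_T1 = MulAction.stabilizer Γ (A.c 0) :=
  (A.stab_of_card (m := 33030144) cardΓ.le lo1_1.le_card (by norm_num) trans0 (by decide +kernel)).1
theorem hφ (l : ℕ) : φ (A.e l) = cut 10 E2 l := rfl
theorem rφ : φ.range = cl (cut 10 E2) 10 := gr1_range topΓ
theorem dh : DHyp dP A φ (E2 10) ((1 : G) : G ⧸ φ.range) :=
  s3.dhyp (rs := rs) rfl rfl base sΓ.hi hφ 10 rfl [[([0], 16, false)], [([4, 10, 5], 17, false)], [([5], 17, false)], [([6, 10, 7], 18, false)], [([7], 18, false)], [([8], 19, false)], [([9, 10, 8], 19, false)]]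
    [[], [], [([10, 1, 0, 2, 0, 1, 0, 2, 0], 20, true)], [([10, 2, 2, 0, 2, 0, 2, 0, 2, 0, 2, 0, 2, 0, 2, 2, 0, 2, 0, 2, 0, 10, 0, 1, 0, 1, 0, 1, 1, 0, 1, 0, 1, 0, 1, 0, 1, 0, 1, 0, 1, 1], 21, true)], [([10, 0, 1, 0, 1, 0, 1, 1, 0, 1, 0, 1, 0, 1, 0, 1, 0, 1, 0, 1, 1], 21, true)]] (by decide +kernel)
theorem cov : DCov φ.range (ds.map fun d => (dh.p d.i, d.b)) ∧ ∀ d ∈ ds, ∀ γ ∈ gp A.e d.T, φ γ • dh.p d.i = dh.p d.i :=
  dh.main (dh.ok_of (a := 0) (fun _ h => absurd h (Nat.not_lt_zero _)) dgood) pok.full (by decide) hK cardΓ.le ds (by decide) live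
    (fun x => MulAction.exists_smul_eq G _ x) (rφ ▸ topG)
instance finG : Finite G :=
  have := cov.1.finite
  have : Finite φ.range := Finite.of_surjective _ φ.rangeRestrict_surjective
  Finite.of_equiv _ (Subgroup.groupEquivQuotientProdSubgroup (s := φ.range)).symm

end Cfsg.Agent.H15.J4
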