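import Cfsg.Agent.H15.Big10
import Cfsg.Agent.H15.J4.N
import Cfsg.Prelude.Def_Spor_J4
set_option autoImplicit false
set_option maxRecDepth 100000

namespace Cfsg.Agent.H15.J4
open Cfsg.Agent.H15 Cfsg.Agent.H14

open Cfsg.Spor

abbrev G := Spor.J4
def E : ℕ → G
  | 0 => PresentedGroup.of .x
  | 1 => PresentedGroup.of .y
  | 2 => (PresentedGroup.of .y)⁻¹
  | 3 => PresentedGroup.of .t
  | _ => 1
def fT : ℕ := 790656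
theorem sq (g : Spor.J4.Gen) (h : FreeGroup.of g ^ 2 ∈ Spor.J4.extra) : (PresentedGroup.of g : G) = (PresentedGroup.of g)⁻¹ :=
  eq_inv_of_mul_eq_one_left ((pow_two _).symm.trans ((map_pow _ _ _).symm.trans (PresentedGroup.one_of_mem (Or.inr h))))
theorem hi : ∀ l, E (invT fT 4 l) = (E l)⁻¹
  | 0 => (congrArg E (by decide +kernel : invT fT 4 0 = 0)).trans (sq .x List.mem_cons_self)
  | 1 => congrArg E (by decide +kernel : invT fT 4 1 = 2)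
  | 2 => (congrArg E (by decide +kernel : invT fT 4 2 = 1)).trans (inv_inv _).symm
  | 3 => (congrArg E (by decide +kernel : invT fT 4 3 = 3)).trans (sq .t (by simp [Spor.J4.extra]))
  | n + 4 => (congrArg E (invT_of_le (by omega))).trans inv_one.symm
def W : Spor.J4.Gen → List ℕ
  | .x => [0]
  | .y => [1]
  | .t => [3]
theorem hW (x : Spor.J4.Gen) : PresentedGroup.of x = lprod E (W x) := by cases x <;> exact (mul_one _).symm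
def BF : List (List ℕ × ℕ) := [([], 1), ([1, 1, 1], 1), ([0, 1, 0, 1, 0, 1, 0, 1, 0, 1, 0, 1, 0, 1, 0, 1, 0, 1, 0, 1, 0, 1, 0, 1, 0, 1, 0, 1, 0, 1, 0, 1, 0, 1, 0, 1, 0, 1, 0, 1, 0, 1, 0, 1, 0, 1], 1), ([0, 2, 0, 1, 0, 2, 0, 1, 0, 2, 0, 1, 0, 2, 0, 1, 0, 2, 0, 1, 0, 2, 0, 1, 0, 2, 0, 1, 0, 2, 0, 1, 0, 2, 0, 1, 0, 2, 0, 1, 0, 2, 0, 1, 0, 2, 0, 1], 1), ([0, 2, 0, 2, 0, 1, 0, 1, 0, 2, 0, 2, 0, 1, 0, 1, 0, 2, 0, 2, 0, 1, 0, 1, 0, 2, 0, 2, 0, 1, 0, 1, 0, 2, 0, 2, 0, 1, 0, 1], 1), ([0, 1, 0, 1, 0, 2, 0, 1, 0, 2, 0, 1, 0, 2, 0, 1, 0, 1, 0, 2, 0, 1, 0, 2, 0, 1, 0, 2, 0, 1, 0, 1, 0, 2, 0, 1, 0, 2, 0, 1, 0, 2, 0, 1, 0, 1, 0, 2, 0, 1, 0, 2, 0, 1, 0, 2], 1), ([0, 1, 0, 1, 0, 2, 0, 1, 0, 1, 0, 2, 0, 1, 0, 1, 0, 2, 0, 1, 0, 2, 0, 2, 0, 1, 0, 2, 0, 2, 0, 1, 0, 2, 0, 2], 1), ([], 1), ([3, 2, 0, 2, 0, 2, 0, 1, 0, 1, 0, 2, 0, 2, 3, 1, 0,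 1, 0, 2, 0, 2, 0, 1, 0, 1, 0, 1], 1), ([3, 0, 3, 0], 1), ([1, 0, 1, 0, 2, 0, 1, 0, 2, 3, 1, 0, 2, 0, 1, 0, 2, 0, 1, 0, 1, 0, 2, 0, 1, 0, 2, 3, 1, 0, 2, 0, 1, 0, 2, 0, 1, 0, 1, 0, 2, 0, 1, 0, 2, 3, 1, 0, 2, 0, 1, 0, 2, 0], 1), ([1, 0, 1, 0, 1, 0, 1, 1, 0, 1, 0, 1, 0, 1, 1, 0, 1, 0, 1, 0, 1, 3, 2, 2, 0, 2, 0, 2, 0, 2, 0, 2, 0, 2, 0, 2, 2, 0, 2, 0, 2, 0, 3, 0, 1, 0, 1, 0, 1, 1, 0, 1, 0, 1, 0, 1, 0, 1, 0, 1, 0, 1, 1, 1, 0, 1, 0, 1, 0, 1, 1, 0, 1, 0, 1, 0, 1, 1, 0, 1, 0, 1, 0, 1, 3, 2, 2, 0, 2, 0, 2, 0, 2, 0, 2, 0, 2, 0, 2, 2, 0, 2, 0, 2, 0, 3, 0, 1, 0, 1, 0, 1, 1, 0, 1, 0, 1, 0, 1, 0, 1, 0, 1, 0, 1, 1], 1)]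
theorem BF_eq : auxB W (invT fT 4) Spor.J4.extra = BF := by decide +kernel
theorem sat : Sat E (invT fT 4) BF := BF_eq ▸ aux_rels hi hW
theorem top : cl E 4 = ⊤ := aux_top hW fun x => by cases x <;> rfl
theorem hom {H : Type*} [Group H] {e : ℕ → H} (h : Sat (cut 4 e) (invT fT 4) BF) :
    ∃ ψ : G →* H, ∀ l, ψ (E l) = cut 4 e l := by
  obtain ⟨ψ, hψ⟩ := aux_hom (BF_eq ▸ h)
  have h1 : ψ (E 1) = cut 4 e 1 := (hψ .y).trans (mul_one _)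
  refine ⟨ψ, fun l => ?_⟩
  match l with
  | 0 => exact (hψ .x).trans (mul_one _)
  | 1 => exact h1
  | 2 => exact (map_inv ψ (E 1)).trans ((congrArg _ h1).trans ((h.hi 1).symm.trans (congrArg _ (by decide +kernel))))
  | 3 => exact (hψ .t).trans (mul_one _)
  | n + 4 => exact (map_one ψ).trans (cut_ge (by omega)).symm
theorem mkw (r : FreeGroup Spor.J4.Gen) : PresentedGroup.mk (Spor.coxRelators Spor.J4.edges ∪ {r | r ∈ Spor.J4.extra}) r = lprod E (exL W (invT fT 4) r.toWord) := by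
  rw [← lprod_exL hi _ fun p _ => hW p.1, FreeGroup.mk_toWord, ← PD.mk_eq_lift]
theorem sat3 : Sat (cut 3 E) (invT pT 3) pB := sat.cut [[], [([], 1, true)], [([], 2, true)], [([0], 3, false)], [([0], 4, false)], [([], 5, true)], [([0], 6, false)]] (by decide +kernel)
theorem exN : ∃ φ : M24 →* G, ∀ l, φ (AM.e l) = cut 3 E l :=
  exists_hom_cut (m24tab_ge Ts Tok) (card_M24.symm ▸ bound (sM.prod sat3)) topM
noncomputable def φN : M24 →* G := exN.choose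
theorem hφN : ∀ l, φN (AM.e l) = cut 3 E l := exN.choose_spec
theorem b7 : AM.Base ⊤ [0, 1, 2, 3, 4, 5, 6] := (lm0.mono le_top).base (card_top_eq.trans card_M24).le
theorem hN : (Subgroup.closure ({Spor.J4.x, Spor.J4.y} : Set (FreeGroup Spor.J4.Gen))).map
    (PresentedGroup.mk (Spor.coxRelators Spor.J4.edges ∪ {r | r ∈ Spor.J4.extra})) = φN.range := by
  rw [range_of_cut hφN topM, cl_cut, MonoidHom.map_closure]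
  refine le_antisymm ((Subgroup.closure_le _).mpr ?_) (cl_le.mpr fun l hl => ?_)
  · rintro _ ⟨_, rfl | rfl, rfl⟩
    exacts [mem_cl (e := E) (l := 0) (by omega), mem_cl (e := E) (l := 1) (by omega)]
  · have h := fun x (h : x ∈ ({Spor.J4.x, Spor.J4.y} : Set (FreeGroup Spor.J4.Gen))) =>
      Subgroup.subset_closure (Set.mem_image_of_mem (PresentedGroup.mk (Spor.coxRelators Spor.J4.edges ∪ {r | r ∈ Spor.J4.extra})) h)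
    interval_cases l
    exacts [h Spor.J4.x (by simp), h Spor.J4.y (by simp), inv_mem (h Spor.J4.y (by simp))]

end Cfsg.Agent.H15.J4
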