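import Cfsg.Agent.H15.J4.T
import Cfsg.Agent.H15.J4T6
import Cfsg.Agent.H15.J4.CS0
import Cfsg.Agent.H15.J4.CS1
import Cfsg.Agent.H15.J4.CS2
import Cfsg.Agent.H15.J4.CS3
set_option autoImplicit false
set_option maxRecDepth 100000

namespace Cfsg.Agent.H15.J4
open Cfsg.Agent.H15 Cfsg.Agent.H14

theorem MMok : MM.Ok := ⟨MMkc, (RAll.append (RAll.append MMk0 MMk9) (RAll.append MMk15 (RAll.append MMk20 MMk28)))⟩
noncomputable def MMA := MMok.tab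
theorem MMt : MT MMA MM.bs MM.iw := MMok.mt
theorem sM0hi : ∀ l, cut 4 MMA.e (invT fT 4 l) = (cut 4 MMA.e l)⁻¹ := MMt.hi (by decide +kernel)
theorem sM0 : Sat (cut 4 MMA.e) (invT fT 4) BF :=
  (show (BF.drop 0).take 3 ++ ((BF.drop 3).take 1 ++ ((BF.drop 4).take 1 ++ ((BF.drop 5).take 1 ++ ((BF.drop 6).take 3 ++ ((BF.drop 9).take 2 ++ ((BF.drop 11).take 1)))))) = BF by decide +kernel) ▸ ((MMt.sat sM0hi sM00).app ((MMt.sat sM0hi sM01).app ((MMt.sat sM0hi sM02).app ((MMt.sat sM0hi sM03).app ((MMt.sat sM0hi sM04).app ((MMt.sat sM0hi sM05).app (MMt.sat sM0hi sM06)))))))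
theorem sM1hi : ∀ l, cut 5 MMA.e (invT T1 5 l) = (cut 5 MMA.e l)⁻¹ := MMt.hi (by decide +kernel)
theorem sM1 : Sat (cut 5 MMA.e) (invT T1 5) B1 :=
  (show (B1.drop 0).take 2 ++ ((B1.drop 2).take 1 ++ ((B1.drop 3).take 1 ++ ((B1.drop 4).take 1 ++ ((B1.drop 5).take 1 ++ ((B1.drop 6).take 1 ++ ((B1.drop 7).take 1)))))) = B1 by decide +kernel) ▸ ((MMt.sat sM1hi sM10).app ((MMt.sat sM1hi sM11).app ((MMt.sat sM1hi sM12).app ((MMt.sat sM1hi sM13).app ((MMt.sat sM1hi sM14).app ((MMt.sat sM1hi sM15).app (MMt.sat sM1hi sM16)))))))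
theorem sM2hi : ∀ l, cut 5 MMA.e (invT T1 5 l) = (cut 5 MMA.e l)⁻¹ := MMt.hi (by decide +kernel)
theorem sM2 : Sat (cut 5 MMA.e) (invT T1 5) B2 :=
  MMt.sat sM2hi sM20
instance nzM : NeZero MM.p := ⟨by decide⟩
noncomputable def ψ : G →* GL (Fin MM.m) (ZMod MM.p) := (hom sM0).choose
theorem hψ : ∀ l, ψ (E l) = cut 4 MMA.e l := (hom sM0).choose_spec
theorem kerN : Function.Injective φN ∧ ∀ g ∈ φN.range, ψ g = 1 → g = 1 :=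
  have := simple_M24
  ker_of_simple φN ψ (a := AM.e 0) (by
    rw [hφN]; exact (hψ 0).trans_ne ((lprod_single (E := MMA.e) 0).symm.trans_ne (MMA.ne_of_neAt xne)))
noncomputable def E1 (l : ℕ) : G := lprod E (nthW σ1 l)
theorem hψ1 (l : ℕ) : ψ (E1 l) = cut 5 MMA.e l := (map_sub MMt.base hψ (σ := σ1) s1k (by decide) l).trans (lprod_idW 5 l)
theorem rψ : ∀ l, MMA.e l ∈ ψ.range :=
  MMt.mem (a := 5) (fun l hl => ⟨E1 l, (hψ1 l).trans (cut_lt hl)⟩) (by decide +kernel)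
theorem dha : DHyp aP AM φN (E 3) ((1 : G) : G ⧸ φN.range) :=
  sat.dhyp (rs := ars) rfl rfl b7 sM.hi hφN 3 rfl [[([], 9, false)], [([1, 0, 1, 0, 2, 0, 2, 0, 1, 0, 1, 0, 1, 3], 8, false)], [([], 8, false)]]
    [[], [], [([3, 1, 0, 2, 0, 1, 0, 2, 0], 10, true)], [([3, 2, 2, 0, 2, 0, 2, 0, 2, 0, 2, 0, 2, 0, 2, 2, 0, 2, 0, 2, 0, 3, 0, 1, 0, 1, 0, 1, 1, 0, 1, 0, 1, 0, 1, 0, 1, 0, 1, 0, 1, 1], 11, true)], [([3, 0, 1, 0, 1, 0, 1, 1, 0, 1, 0, 1, 0, 1, 0, 1, 0, 1, 0, 1, 1], 11, true)]] (by decide +kernel)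
theorem s1 : Sat E1 (invT T1 5) B1 := dha.sat hφN (dha.ok_of (a := 0) (fun _ h => absurd h (Nat.not_lt_zero _)) agood) kerN.2 (σ := σ1) hψ1 sM1 ac1k ac2k
theorem s1F : Sat E1 (invT T1 5) BF := sat.sub' (σ := σ1) s1.hi [[], [([], 1, true)], [([], 2, true)], [([0], 3, false)], [([0], 4, false)], [([], 5, true)], [([0], 6, false)], [], [([3], 8, false)], [([3], 9, false)], [([], 10, true)], [([], 11, true)]] (by decide +kernel)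
theorem hφ1 (l : ℕ) : φN (AM.e l) = cut 3 E1 l := (hφN l).trans (by
  by_cases h : l < 3
  · rw [cut_lt h, cut_lt h]; interval_cases l <;> exact (mul_one _).symm
  · rw [cut_ge (not_lt.mp h), cut_ge (not_lt.mp h)])
theorem dhb : DHyp bP AM φN (E1 4) ((1 : G) : G ⧸ φN.range) :=
  s1.dhyp (rs := brs) rfl rfl b7 sM.hi hφ1 4 rfl [[([], 0, false)], [([2, 4], 0, false)], [([], 1, false)], [([], 2, false)], [([], 3, false)], [([], 1, false)], [([], 2, false)], [([0, 1, 0, 1, 0, 1, 0, 1, 0, 1, 0, 1, 0, 1, 0, 2, 0, 1, 0, 1, 0, 2, 0, 2, 0, 2, 0, 4], 3, false)]]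
    [[], [], [([], 4, true)], [([4, 0, 1, 0, 1, 0, 2, 0, 2, 0, 1, 0, 1, 0, 2, 0, 1, 0, 2, 0, 1, 0, 1, 0, 1, 0, 2, 0, 1, 0, 2, 0, 4, 0, 1, 0, 2, 0, 1, 0, 2, 0, 2, 0, 2, 0, 1, 0, 2, 0, 1, 0, 2, 0, 2], 4, true)], [([4, 0, 1, 0, 2, 0, 1, 0, 2, 0, 2, 0, 2, 0, 1, 0, 2, 0, 1, 0, 2, 0, 2], 4, true)]] (by decide +kernel)
theorem s2 : Sat E1 (invT T1 5) B2 := dhb.sat1 hφ1 (dhb.ok_of (a := 0) (fun _ h => absurd h (Nat.not_lt_zero _)) bgood) kerN.2 hψ1 s1.hi sM2 bc2k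
def σ2 : List (List ℕ) := [[0], [1], [2], [4], [1, 0, 1, 0, 2, 0, 2, 0, 1, 0, 1, 0, 1], [2, 0, 2, 0, 2, 0, 1, 0, 1, 0, 2, 0, 2], [2, 0, 2, 0, 2, 0, 1, 0, 1, 0, 1, 0, 1, 0, 1, 0, 2, 0, 2, 0, 1, 0, 2], [1, 0, 2, 0, 1, 0, 1, 0, 2, 0, 2, 0, 2, 0, 2, 0, 2, 0, 1, 0, 1, 0, 1], [2, 0, 1, 0, 1, 0, 1, 0, 2, 0, 1, 0, 4, 0, 2, 0, 1, 0, 2, 0, 2, 0, 2, 0, 1], [0, 1, 0, 2, 0, 1, 0, 1, 0, 1, 0, 1, 0, 2, 0, 1, 0, 2, 0, 2, 0, 1, 0, 1, 0, 2, 0, 1, 0, 2, 0, 1, 0, 2, 0, 1, 0, 2, 0, 2, 0, 1, 0, 1, 0, 1, 0, 2, 0, 1, 0, 4, 0, 2, 0, 1, 0, 2, 0, 2, 0, 2, 0, 1], [3]]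
def T2 : ℕ := 11693623306162540672
def BT : List (List ℕ × ℕ) := [([0, 10, 0, 10], 1), ([4, 10, 5, 10], 1), ([6, 10, 7, 10], 1), ([8, 10, 9, 10], 1), ([1, 0, 1, 0, 2, 0, 1, 0, 2, 10, 1, 0, 2, 0, 1, 0, 2, 0, 1, 0, 1, 0, 2, 0, 1, 0, 2, 10, 1, 0, 2, 0, 1, 0, 2, 0, 1, 0, 1, 0, 2, 0, 1, 0, 2, 10, 1, 0, 2, 0, 1, 0, 2, 0], 1), ([1, 0, 1, 0, 1, 0, 1, 1, 0, 1, 0, 1, 0, 1, 1, 0, 1, 0, 1, 0, 1, 10, 2, 2, 0, 2, 0, 2, 0, 2, 0, 2, 0, 2, 0, 2, 2, 0, 2, 0, 2, 0, 10, 0, 1, 0, 1, 0, 1, 1, 0, 1, 0, 1, 0, 1, 0, 1, 0, 1, 0, 1, 1, 1, 0, 1, 0, 1, 0, 1, 1, 0, 1, 0, 1, 0, 1, 1, 0, 1, 0, 1, 0, 1, 10, 2, 2, 0, 2, 0, 2, 0, 2, 0, 2, 0, 2, 0, 2, 2, 0, 2, 0, 2, 0, 10, 0, 1, 0, 1, 0, 1, 1, 0, 1, 0, 1, 0, 1, 0, 1, 0, 1, 0, 1, 1], 1)]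
noncomputable def E2 (l : ℕ) : G := lprod E1 (nthW σ2 l)
theorem s3 : Sat E2 (invT T2 11) (BH ++ BT) := ((s1F.app s1).app s2).sub (σ := σ2) [[], [], [], [], [], [], [], [], [], [([], 18, true)], []]
    [[], [([], 1, true)], [([], 2, true)], [([0], 3, false)], [([0], 4, false)], [([], 5, true)], [([0], 6, false)], [([4], 12, false)], [([4], 13, false)], [([4], 14, false)], [([4], 15, false)], [([], 20, true)], [], [], [], [], [([], 9, false)], [([1, 0, 1, 0, 2, 0, 2, 0, 1, 0, 1, 0, 1, 3], 8, false)], [([], 19, false)], [([2, 0, 1, 0, 1, 0, 1, 0, 2, 0, 1, 0, 4, 0, 2, 0, 1, 0, 2, 0, 2, 0, 2, 0, 1, 3], 17, false)], [([], 10, true)], [([], 11, true)]] (by decide +kernel)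
theorem sH : Sat (cut 10 E2) (invT hT 10) BH := s3.cut [[], [([], 1, true)], [([], 2, true)], [([0], 3, false)], [([0], 4, false)], [([], 5, true)], [([0], 6, false)], [([3], 7, false)], [([3], 8, false)], [([3], 9, false)], [([3], 10, false)], [([], 11, true)], [([], 12, true)], [([], 13, true)], [([8], 14, false)], [([], 15, true)]] (by decide +kernel)
theorem le4 {H : Type*} [Group H] {E : ℕ → H} (h : Sat E (invT hT 10) BH) : cl E 10 ≤ gp E [[0], [1], [2], [3]] :=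
  (h.cl_le (a := 4) [([0], []), ([1], []), ([2], []), ([3], []), ([1, 0, 1, 0, 2, 0, 2, 0, 1, 0, 1, 0, 1], [([], 12, true)]), ([2, 0, 2, 0, 2, 0, 1, 0, 1, 0, 2, 0, 2], [([5], 12, false)]), ([2, 0, 2, 0, 2, 0, 1, 0, 1, 0, 1, 0, 1, 0, 1, 0, 2, 0, 2, 0, 1, 0, 2], [([], 13, true)]), ([1, 0, 2, 0, 1, 0, 1, 0, 2, 0, 2, 0, 2, 0, 2, 0, 2, 0, 1, 0, 1, 0, 1], [([7], 13, false)]), ([2, 0, 1, 0, 1, 0, 1, 0, 2, 0, 1, 0, 3, 0, 2, 0, 1, 0, 2, 0, 2, 0, 2, 0, 1], [([8], 14, false)]), ([0, 1, 0, 2, 0, 1, 0, 1, 0, 1, 0, 1, 0, 2, 0, 1, 0, 2, 0, 2, 0, 1, 0, 1, 0, 2, 0, 1, 0, 2, 0, 1, 0, 2, 0, 1, 0, 2, 0, 2, 0, 1, 0, 1, 0, 1, 0, 2, 0, 1, 0, 3, 0, 2, 0, 1, 0, 2, 0, 2, 0, 2, 0, 1], [([], 15, true)])] (by decide +kernel)).trans (cl_eq_gp (by decide +kernel)).le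
theorem boundH {H : Type*} [Group H] {E : ℕ → H} (h : Sat E (invT hT 10) BH) : CardLe (cl E 10) (2048 * 244823040) := by
  have h1 := bound (h.cut (T := pT) (a := 3) (B' := pB) [[], [([], 1, true)], [([], 2, true)], [([0], 3, false)], [([0], 4, false)], [([], 5, true)], [([0], 6, false)]] (by decide +kernel))
  rw [cl_cut, cl_eq_gp (ws := [[0], [1], [2]]) (by decide +kernel)] at h1
  exact (h1.step (J4T6.idx h.hi h.hB [[0], [1], [2], [3]] (by decide +kernel)) (by decide +kernel)).of_le (le4 h)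
theorem e2 : E2 0 = E 0 ∧ E2 1 = E 1 ∧ E2 2 = E 2 ∧ E2 10 = E 3 ∧ E2 3 = E1 4 :=
  ⟨(mul_one _).trans (mul_one _), (mul_one _).trans (mul_one _), (mul_one _).trans (mul_one _),
    (mul_one _).trans (mul_one _), mul_one _⟩
theorem topG : ⊤ ≤ cl (cut 10 E2) 10 ⊔ Subgroup.zpowers (E2 10) := by
  rw [← top, cl_cut]
  refine cl_le.mpr fun l hl => ?_
  interval_cases l
  exacts [e2.1 ▸ Subgroup.mem_sup_left (mem_cl (by omega)), e2.2.1 ▸ Subgroup.mem_sup_left (mem_cl (by omega)),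
    e2.2.2.1 ▸ Subgroup.mem_sup_left (mem_cl (by omega)), e2.2.2.2.1 ▸ Subgroup.mem_sup_right (Subgroup.mem_zpowers _)]

end Cfsg.Agent.H15.J4
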