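import Cfsg.Agent.H15.J4.ZZ
import Cfsg.Agent.H15.Big12
set_option autoImplicit false
set_option maxRecDepth 100000

namespace Cfsg.Agent.H15.J4
open Cfsg.Agent.H15 Cfsg.Agent.H14

noncomputable def el (v : ℕ) : G := M.w (monoW ce 2 v)
noncomputable def aE : ℕ → ℕ → ℕ := apL 2 ce.length Css
noncomputable def EE : Subgroup G := gp M.e ce
theorem gx (l : ℕ) (h : l < 3) : φN (AM.e l) = M.w (nthW gE l) := by
  rw [hφN, cut_lt h]; interval_cases l
  exacts [e2.1.symm.trans (hτ 0), e2.2.1.symm.trans (hτ 1), e2.2.2.1.symm.trans (hτ 2)]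
theorem xm : XM φN AM.e EE el aE 2048 where
  mul a b := by
    simp only [el, WM.w_mono]
    rw [← monoL_add fun c hc d hd => (inv_mul_eq_one.mp (Subgroup.mem_bot.mp (gp_nil.le (ld.sec.cm c hc d hd)))).symm]
    exact monoL_congr (fun c hc => Subgroup.mem_bot.mp (gp_nil.le (ld.sec.pw c hc))) fun i _ => vec_xor a b i
  mem a := (ld.mem_iff a).mp
  all v := by
    rw [el, WM.w_mono]; exact monoL_mem (List.forall_mem_map.mpr fun _ => mem_gp) _
  inj a ha b hb e := ld.tab.inj a ha b hb e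
  lt v l := apL_lt (by decide) _ _ v l
  cj v l hl := gx l hl ▸ ld.conj (hl.trans (by decide)) v
  top := topM
  smp := simple_M24
  mv := ⟨1, by decide +kernel⟩
theorem leM : φN.range ≤ φ.range := by
  rw [range_of_cut hφN topM]
  refine cl_le.mpr fun l hl => ⟨A.e l, (mφ l (by omega)).trans (((hφN l).symm.trans (gx l hl)).trans ?_).symm⟩
  interval_cases l <;> rfl
theorem el1 : el 1 = M.w [4] := congrArg M.w (by decide +kernel)
theorem leH : φ.range ≤ EE ⊔ φN.range :=
  rφ.le.trans ((le4 sH).trans (gp_le.mpr (by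
    simp only [List.forall_mem_cons, lprod_single]
    exact ⟨Subgroup.mem_sup_right ⟨_, (gx 0 (by decide)).trans (mφ 0 (by decide)).symm⟩,
      Subgroup.mem_sup_right ⟨_, (gx 1 (by decide)).trans (mφ 1 (by decide)).symm⟩,
      Subgroup.mem_sup_right ⟨_, (gx 2 (by decide)).trans (mφ 2 (by decide)).symm⟩,
      Subgroup.mem_sup_left ((el1.trans hz.symm : _ = cut 10 E2 3) ▸ xm.all 1), List.forall_mem_nil _⟩)))
theorem hE (l : ℕ) (h : l < 4) : E l = M.e l := by
  refine Eq.trans ?_ (lprod_single l); interval_cases l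
  exacts [e2.1.symm.trans (hτ 0), e2.2.1.symm.trans (hτ 1), e2.2.2.1.symm.trans (hτ 2), e2.2.2.2.1.symm.trans (hτ 10)]
theorem hNw {u : List ℕ} (h : okW 3 u = true) : φN (lprod AM.e u) = M.w u := by
  rw [map_lprod, funext hφN, lprod_cut h, ← lprod_cut (a := 3) h, WM.w, ← lprod_cut (a := 3) (E := M.e) h]
  congr 1; funext l
  by_cases c : l < 3
  · rw [cut_lt c, cut_lt c, hE l (by omega)]
  · rw [cut_ge (not_lt.mp c), cut_ge (not_lt.mp c)]
theorem perf {S : Type*} [Group S] [IsSimpleGroup S] [Finite S] (h : ¬ (Nat.card S).Prime) : commutator S = ⊤ := by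
  refine (IsSimpleGroup.eq_bot_or_eq_top_of_normal _ inferInstance).resolve_left fun e => ?_
  have h1 := center_eq_bot_of_simple h
  rw [(commutator_eq_bot_iff_center_eq_top S).1 e] at h1
  exact top_ne_bot h1
theorem injN : Function.Injective φN := kerN.1

end Cfsg.Agent.H15.J4
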