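import Cfsg.Agent.H15.J4.XM
import Cfsg.Agent.H15.Big13
set_option autoImplicit false
set_option maxRecDepth 100000

namespace Cfsg.Agent.H15.J4
open Cfsg.Agent.H15 Cfsg.Agent.H14

noncomputable def DM : ℕ := nat_lit 0x500540000004181048002124028141200021a04000081000001426800200201c00a0120100040700000302320100085000001014001018020012002480810001484421008000000180020004040640000028400898114a00100820141000093011002001010008442001080c01000001001e0000100009040108810292008c084280022000440090050200a81004110000400000001408016001809085804090c0048200113001020040080004082640000440020000003500025002010b0002010002000000082000024002000000008006008000000012000800000028a200981100688200305000344d0300001010044808000c0004010a10100100c000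
def uX : List ℕ := [2, 0, 1, 0, 1, 0, 1, 0, 2, 0, 1, 0, 1, 0, 1, 0, 2, 0, 1, 0, 1, 0, 1, 0, 2, 0, 1, 0, 1, 0, 1, 0]
def csX0 : List (List ℕ) := [[1, 0, 1, 0, 2, 0, 1, 0, 1, 0, 2, 0, 1, 0, 1, 0, 2], [1, 0, 1, 0, 2, 0, 2, 0, 1, 0, 1, 0, 2, 0, 2, 0, 1, 0, 1], [1, 0, 2, 0, 1, 0, 2, 0, 1, 0, 2, 0, 1, 0, 2, 0, 1, 0, 2, 0, 1, 0, 2]]
def csX2 : List (List ℕ) := [[2, 0, 1, 0, 1, 0, 1, 0], [1, 0, 1, 0, 2, 0, 1, 0, 2, 0, 2, 0, 1, 0, 2, 0, 1, 0, 1, 0, 1], [1, 0, 1, 0, 1, 0, 2, 0, 1, 0, 2, 0, 2, 0, 1, 0, 1, 0, 2, 0, 2, 0, 1, 0], [1, 0, 2, 0, 1, 0, 2, 0, 1, 0, 2, 0, 2, 0, 1, 0, 2, 0, 1, 0, 2, 0, 1, 0, 2, 0, 1, 0]]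
def tsX : List (List ℕ) := [[0], [1, 0, 1, 0, 2, 0, 2, 0, 1, 0, 1, 0, 1]]
def wsX : List (List ℕ) := [[0, 1, 1, 0], [1, 0, 1, 0, 1], [1, 0, 1, 1, 0], [1, 1, 0, 1, 0], [0, 1, 0, 1, 0, 1], [1, 0, 1, 0, 1, 0], [0, 1, 0, 1, 0, 1, 1], [1, 0, 1, 1, 0, 1, 1, 1]]
def wX : List ℕ := [2, 0, 2, 0, 1, 0, 1, 0, 2, 0, 1, 0, 2, 0, 2, 0, 2, 0, 1, 0, 2, 0, 1, 0, 2, 0, 1, 0, 1, 0, 1, 0, 2, 0, 1, 0, 1, 0, 1, 0, 2, 0, 1, 0, 1, 0, 1, 0, 2, 0, 1, 0, 1, 1, 0, 2, 0, 1, 0, 1, 0, 1, 0, 2, 0, 1, 0, 2, 0, 2, 0, 1, 0, 1]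
def vsX : List (List ℕ) := [[0], [2, 0, 1, 0, 1, 0, 2, 0, 2, 0, 1], [1, 0, 1, 0, 1, 0, 2, 0, 1, 0, 2, 0, 2, 0, 2]]
def rrX : List (List ℕ) := [[0, 0], [1, 1, 1]]
/-- the check for one conjugacy -/
noncomputable def cjChk (u : List ℕ) (d r : ℕ) (g k : List ℕ) : Bool :=
  okW 3 u && okW 3 k && τ.eqW (appL u (appL (monoW ce 2 d) g)) (appL g (monoW ce 2 (tr aE k r)))
/-- the check for one double coset -/
noncomputable def nmChk (fs : List (List ℕ)) : Bool :=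
  allLt 2048 fun v => !tb DM v || anyL fs fun f => neAt τ.ap τ.L τ.n (2 ^ 0) (appL (monoW ce 2 v) f) (appL f (monoW ce 2 v))
theorem mskk : (Nat.blt 1728 2048 && tb DM 1728 && allLt 2048 fun v => !tb DM v || allLt 3 fun l => tb DM (aE v l)) = true := by decide +kernel
theorem covE : coverF (lets aE 3) [0, 1, 1728] 2048 = true := by decide +kernel
theorem cos0 : (okW 3 [0] && okS 3 csX0 && allL [1, 64] (fun r => frc (tr aE [0] r ^^^ r) fun y => Nat.blt 0 y && Nat.blt y 2048) &&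
    coverF (csX0.map (tr aE) ++ xors ([1, 4, 8, 64, 128].map fun b => tr aE [0] b ^^^ b)) ([0, 1728] ++ [1, 64]) 2048) = true := by decide +kernel
theorem com0 : allL ([0] :: csX0) (fun c => eqOn AM.ap AM.L [0, 1, 2, 3, 4, 5, 6] (appL c [0]) (appL [0] c)) = true := by decide +kernel
theorem cj0_0 : cjChk [0] 0 1728 [1, 0, 4, 2, 0, 1, 3, 0, 1, 0, 1, 0, 1, 0, 2, 0, 1, 0, 2, 0, 1, 0, 1, 13, 14, 3] [1, 0, 2, 0, 1, 0, 1, 0, 1, 0, 2, 0] = true := by decide +kernel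
theorem cj0_1728 : cjChk [0] 1728 1 [1, 0, 2, 0, 1, 4, 13, 14, 3] [0, 1, 0, 1, 0, 2, 0, 1, 0, 1, 0, 1, 0, 1] = true := by decide +kernel
theorem cos2 : (okW 3 uX && okS 3 csX2 && allL [1, 4, 8] (fun r => frc (tr aE uX r ^^^ r) fun y => Nat.blt 0 y && Nat.blt y 2048) &&
    coverF (csX2.map (tr aE) ++ xors ([1, 2, 4, 8].map fun b => tr aE uX b ^^^ b)) ([0, 43] ++ [1, 4, 8]) 2048) = true := by decide +kernel
theorem com2 : allL (uX :: csX2) (fun c => eqOn AM.ap AM.L [0, 1, 2, 3, 4, 5, 6] (appL c uX) (appL uX c)) = true := by decide +kernel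
theorem cj2_0 : cjChk uX 0 1 [1, 0, 2, 0, 2, 0, 1, 0, 2, 0, 1, 0, 1, 0, 2, 0, 1, 0, 1, 0, 1, 0, 1, 14, 3] [0, 2, 0, 1, 0, 2, 0, 2, 0, 1, 0, 2, 0, 2, 0, 2, 0, 2, 0, 2] = true := by decide +kernel
theorem cj2_43 : cjChk uX 43 1728 [0, 1, 0, 1, 0, 1, 0, 1, 0, 1, 0, 1, 0, 2, 0, 1, 0, 1, 0, 1, 0, 2, 0, 2, 0, 2, 0, 2, 4, 3] [1, 0, 1, 0, 2, 0, 1, 0, 2] = true := by decide +kernel
theorem ordM : (eqOn AM.ap AM.L [0, 1, 2, 3, 4, 5, 6] (appL [0] [0]) [] && eqOn AM.ap AM.L [0, 1, 2, 3, 4, 5, 6] (appL uX uX) [] &&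
    eqOn AM.ap AM.L [0, 1, 2, 3, 4, 5, 6] [1, 1] [2] && allL rrX fun r => okW 2 r && eqOn AM.ap AM.L [0, 1, 2, 3, 4, 5, 6] r []) = true := by decide +kernel
theorem centk : (okS 3 vsX && fixAt aE vsX 1728 && Nat.blt 0 1728 && Nat.blt 1728 2048 &&
    allLt 2048 (fun v => Nat.beq v 0 || Nat.beq v 1728 || !fixAt aE vsX v) && okS 3 usX &&
    coverF (xors (usX.map fun u => tr aE u 1728)) [0] 2048) = true := by decide +kernel
theorem cock : (allLt 2048 (fun v => Nat.beq v 0 || !Nat.beq (tr aE [0, 1] v) v) && allLt 2048 fun d => Nat.beq d 0 || Nat.beq d 1728 ||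
    anyL rrX fun r => frc (tr (afA aE d) r 0) fun y => Nat.blt 0 y && Nat.blt y 2048) = true := by decide +kernel
theorem cenk : (okS 3 tsX && allLt 2048 fun v => Nat.beq v 0 || !fixAt aE tsX v) = true := by decide +kernel
theorem cenM : (okS AM.L (wsX.map (xw tsX)) && allL [0, 1, 2, 3, 4, 5, 6] fun b => allLt AM.n fun x => Nat.beq x b ||
    anyL (wsX.map (xw tsX)) fun u => Nat.beq (tr AM.ap u b) b && !Nat.beq (tr AM.ap u x) x) = true := by decide +kernel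
theorem tcom : allL tsX (fun u => τ.eqW (appL u [3]) (appL [3] u)) = true := by decide +kernel
theorem tdk : (okW 3 wX && τ.eqW (appL [3] (monoW ce 2 (tr aE [1, 0, 2, 0, 2] 1728))) (appL wX (appL (monoW ce 2 110) [3]))) = true := by decide +kernel
theorem lowk : stepOk aE 3 2048 id [[0], [1]] [] 1728 276 = true := by decide +kernel

end Cfsg.Agent.H15.J4
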