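import Cfsg.Agent.H15.J4.X
import Cfsg.Agent.S2038
set_option autoImplicit false
set_option maxRecDepth 100000

namespace Cfsg.Agent.H15.J4
open Cfsg.Agent.H15 Cfsg.Agent.H14

open Subgroup
open scoped commutatorElement

section
variable {Γ T : Type*} [Group Γ] [Group T] {σ : Γ →* T} (hc : σ.ker ≤ center Γ) (ho : ∀ c, σ c = 1 → c ^ 2 = 1 → c = 1)
include hc ho

theorem tl1 {t w : Γ} (ht : t ^ 2 = 1) (h : σ (t⁻¹ * w⁻¹ * t * w) = 1) : t⁻¹ * w⁻¹ * t * w = 1 := by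
  refine ho _ h ?_
  have c : Commute t (t⁻¹ * w⁻¹ * t * w) := mem_center_iff.mp (hc h) t
  have := c.mul_pow 2
  rwa [ht, one_mul, show t * (t⁻¹ * w⁻¹ * t * w) = w⁻¹ * t * w⁻¹⁻¹ by group, conj_pow, ht, mul_one, mul_inv_cancel,
    eq_comm] at this

omit hc in
theorem tl0 {c : Γ} (h : σ c = 1) (h4 : (c ^ 2) ^ 2 = 1) : c = 1 := ho c h (ho _ (by rw [map_pow, h, one_pow]) h4)

theorem tl2 {y s : Γ} (hy : y ^ 3 = 1) (hs : s ^ 2 = 1) (h : σ ((y * s) ^ 3) = 1) : (y * s) ^ 3 = 1 := by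
  refine tl0 ho h ?_
  have c : ∀ a, Commute a ((y * s) ^ 3) := mem_center_iff.mp (hc h)
  have e0 : s⁻¹ = s := inv_eq_of_mul_eq_one_left ((pow_two s).symm.trans hs)
  have e1 : y * s * y⁻¹ * (y ^ 2 * s * (y ^ 2)⁻¹) = (y * s) ^ 3 * s :=
    calc _ = y * s * y * s * (y ^ 3)⁻¹ * y * s * s⁻¹ := by group
      _ = _ := by rw [hy, e0, pow_three']; group
  have e2 : (y * s * y⁻¹ * (y ^ 2 * s * (y ^ 2)⁻¹)) ^ 2 = ((y * s) ^ 3) ^ 2 := by
    rw [e1, (c s).symm.mul_pow, hs, mul_one]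
  have e3 : y * s * y⁻¹ * (y * s * y⁻¹ * (y ^ 2 * s * (y ^ 2)⁻¹)) * (y * s * y⁻¹)⁻¹ =
      (y * s * y⁻¹ * (y ^ 2 * s * (y ^ 2)⁻¹))⁻¹ :=
    calc _ = y * s ^ 2 * y * s * y⁻¹ * s⁻¹ * y⁻¹ := by rw [pow_two s]; group
      _ = y ^ 2 * s⁻¹ * y⁻¹ * s⁻¹ * y⁻¹ := by rw [hs, e0, mul_one, pow_two y]
      _ = _ := by group
  have e4 := congrArg (· ^ 2) e3
  simp only [conj_pow, inv_pow, e2] at e4
  rw [((c _).pow_right 2).eq, mul_inv_cancel_right, eq_inv_iff_mul_eq_one] at e4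
  exact (pow_two _).trans e4

theorem tl3 {a s : Γ} (ha : a ^ 4 = 1) (hs : s ^ 2 = 1) (h : σ ((a * s) ^ 2) = 1) : (a * s) ^ 2 = 1 := by
  refine tl0 ho h ?_
  have c : Commute a⁻¹ ((a * s) ^ 2) := mem_center_iff.mp (hc h) _
  have e0 : s⁻¹ = s := inv_eq_of_mul_eq_one_left ((pow_two s).symm.trans hs)
  have := c.mul_pow 4
  rwa [show a⁻¹ * (a * s) ^ 2 = s * a * s⁻¹ by rw [e0, pow_two]; group, conj_pow, inv_pow, ha, inv_one, one_mul, mul_one,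
    mul_inv_cancel, eq_comm, show 4 = 2 * 2 from rfl, pow_mul] at this

end

def ksX : List (List ℕ × ℕ) := [([0], 1), ([0], 4), ([0], 8), ([0], 64), ([0], 128), ([2, 0, 1, 0, 1, 0, 2, 0, 2, 0, 1], 1), ([2, 0, 1, 0, 1, 0, 2, 0, 2, 0, 1], 2), ([2, 0, 1, 0, 1, 0, 2, 0, 2, 0, 1], 16), ([2, 0, 1, 0, 1, 0, 2, 0, 2, 0, 1], 64), ([1, 0, 1, 0, 1, 0, 2, 0, 1, 0, 2, 0, 2, 0, 2], 8), ([1, 0, 1, 0, 1, 0, 2, 0, 1, 0, 2, 0, 2, 0, 2], 16)]
def usX : List (List ℕ) := [[], [1], [1, 0], [1, 0, 1], [1, 0, 2], [1, 0, 1, 0], [1, 0, 2, 0], [1, 0, 2, 0, 1], [1, 0, 2, 0, 2], [1, 0, 2, 0, 1, 0], [1, 0, 2, 0, 2, 0]]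
def rsX : List (List ℕ × ℕ) := [([0, 0], 1), ([0, 0], 4), ([0, 0], 8), ([0, 0], 64), ([0, 0], 128), ([1, 1, 1], 1), ([1, 1, 1], 2), ([1, 1, 1], 16), ([1, 1, 1], 32), ([1, 1, 1], 256), ([0, 1, 0, 1, 0, 1, 1, 0, 1, 0, 1, 0, 1, 1, 0, 1, 0, 1, 0, 1, 1, 0, 1, 0, 1, 1, 0, 1, 1, 0, 1, 0, 1, 1, 0, 1, 1, 0, 1, 0, 1, 1, 0, 1, 1], 4)]
theorem ut : (τ.eqW (appL (repL [1, 0, 1, 0, 1, 0, 1] 3) [3]) (appL [3] (repL [1, 0, 1, 0, 1, 0, 1] 3)) &&
    eqOn AM.ap AM.L [0, 1, 2, 3, 4, 5, 6] (repL (repL [1, 0, 1, 0, 1, 0, 1] 3) 4) []) = true := by decide +kernel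

theorem sec {Γ : Type*} [Group Γ] [Finite Γ] {σ : Γ →* G} (hσ : Function.Surjective σ) (hc : σ.ker ≤ center Γ)
    (ho : ∀ c, σ c = 1 → c ^ 2 = 1 → c = 1) {s : M24 →* Γ} (hs : ∀ m, σ (s m) = φN m) :
    ∃ ψ : G →* Γ, σ.comp ψ = MonoidHom.id G := by
  obtain ⟨t, ht, ht2⟩ : ∃ t, σ t = E 3 ∧ t ^ 2 = 1 := by
    obtain ⟨t, ht⟩ := hσ (E 3)
    have cm : ∀ a b : σ.ker, Commute (a : Γ) b := fun a b => mem_center_iff.mp (hc b.2) a
    obtain ⟨z, hz⟩ := Finite.surjective_of_injective (f := fun z : σ.ker => z ^ 2) (fun a b e => Subtype.ext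
      (mul_inv_eq_one.mp (ho _ (a * b⁻¹).2 (by
        rw [(cm a b).inv_right.mul_pow, inv_pow, mul_inv_eq_one]; exact congrArg Subtype.val e))))
      ⟨t ^ 2, by
        rw [MonoidHom.mem_ker, map_pow, ht, pow_two]
        exact mul_eq_one_iff_eq_inv.mpr ((congrArg E (by decide +kernel)).trans (hi 3))⟩
    refine ⟨t * (z : Γ)⁻¹, by rw [map_mul, map_inv, z.2, inv_one, mul_one, ht], ?_⟩
    rw [(show Commute t z from mem_center_iff.mp (hc z.2) t).inv_right.mul_pow, inv_pow, mul_inv_eq_one]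
    exact (congrArg Subtype.val hz).symm
  let f : Spor.J4.Gen → Γ := fun g => match g with
    | .x => s (AM.e 0)
    | .y => s (AM.e 1)
    | .t => t
  have hf : ∀ g, σ (f g) = PresentedGroup.of g := fun g => by
    cases g
    exacts [(hs _).trans (hφN 0), (hs _).trans (hφN 1), ht]
  have hr : ∀ r ∈ Spor.J4.extra, σ (FreeGroup.lift f r) = 1 := fun r h =>
    (DFunLike.congr_fun (show σ.comp (FreeGroup.lift f) = PresentedGroup.mk _ from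
      FreeGroup.ext_hom _ _ fun g => (congrArg σ FreeGroup.lift_apply_of).trans (hf g)) r).trans (PresentedGroup.one_of_mem (Or.inr h))
  have hK : ∀ a ∈ s.range, σ a = 1 → a = 1 := by
    rintro _ ⟨m, rfl⟩ e
    rw [injN ((hs m).symm.trans (e.trans (map_one φN).symm)), map_one]
  have hx : s (AM.e 0) ∈ s.range := ⟨_, rfl⟩
  have hy : s (AM.e 1) ∈ s.range := ⟨_, rfl⟩
  have cs : ∀ g : Γ, (g⁻¹ * t * g) ^ 2 = 1 := fun g => by
    rw [show g⁻¹ * t * g = g⁻¹ * t * g⁻¹⁻¹ by rw [inv_inv], conj_pow, ht2, mul_one, mul_inv_cancel]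
  have hu := Bool.and_eq_true_iff.mp ut
  refine ⟨PresentedGroup.toGroup (cox_lift (edges := []) (extra := Spor.J4.extra) f (by simp [Spor.coxNodes]) ?_),
    PresentedGroup.ext fun g => (congrArg σ (PresentedGroup.toGroup.of _)).trans (hf g)⟩
  simp only [Spor.J4.extra, List.forall_mem_cons, map_pow (FreeGroup.lift f), map_inv (FreeGroup.lift f),
    map_mul (FreeGroup.lift f), FreeGroup.lift_apply_of, f] at hr ⊢
  obtain ⟨r0, r1, r2, r3, r4, r5, r6, -, r8, r9, r10, r11, -⟩ := hr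
  have h1 := hK _ (pow_mem hy 3) r1
  refine ⟨hK _ ?_ r0, h1, hK _ ?_ r2, hK _ ?_ r3, hK _ ?_ r4, hK _ ?_ r5, hK _ ?_ r6, ht2, tl1 hc ho ht2 r8,
    tl1 hc ho ht2 r9, tl2 hc ho h1 (cs _) r10, tl3 hc ho ?_ (cs _) r11, List.forall_mem_nil _⟩
  rotate_right
  · have e : (s (AM.e 1) * s (AM.e 0) * s (AM.e 1) * s (AM.e 0) * s (AM.e 1) * s (AM.e 0) * s (AM.e 1)) ^ 3 =
        s (lprod AM.e (repL [1, 0, 1, 0, 1, 0, 1] 3)) := by
      simp only [lprod_repL, lprod_cons, lprod_nil, map_mul, map_pow, mul_one, mul_assoc]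
    have c := tl1 hc ho ht2 (w := s (lprod AM.e (repL [1, 0, 1, 0, 1, 0, 1] 3))) (by
      rw [map_mul, map_mul, map_mul, map_inv, map_inv, hs, ht, hNw (by decide +kernel), hE 3 (by decide),
        ← lprod_single (E := M.e), mul_assoc, mul_assoc, ← (M.commW hu.1).eq]; group)
    rw [mul_assoc, ← mul_inv_rev, inv_mul_eq_one] at c
    rw [e, (show Commute _ t from c).mul_pow, ← map_pow, b7.pow hu.2, map_one, one_mul, show 4 = 2 * 2 from rfl, pow_mul, ht2,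
      one_pow]
  all_goals repeat' first | exact hx | exact hy | apply mul_mem | apply pow_mem | apply inv_mem

theorem mult : HasCyclicSchurMultiplier G 1 := by
  rw [H27.trivial_mult_iff]
  intro Γ _ _ σ hσ
  have := simple_M24
  have e := MonoidHom.ofInjective injN
  have := e.symm.isSimpleGroup
  have h0 := σ.subgroupComap_surjective_of_surjective φN.range hσ.1
  obtain ⟨s0, hs0⟩ := exists_section h0 (H27.mult_eq_bot_of_trivial (H27.hasSchurMultiplier_of_mulEquiv S2038.result e)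
    ⟨h0, fun x hx => mem_center_iff.2 fun y => Subtype.ext (mem_center_iff.1 (hσ.2.1 (congrArg Subtype.val hx)) y)⟩)
    (perf (by rw [← Nat.card_congr e.toEquiv, card_M24]; norm_num))
  have hs : ∀ m, σ (((Subgroup.subtype _).comp (s0.comp φN.rangeRestrict)) m) = φN m := fun m =>
    congrArg Subtype.val (hs0 _)
  have hM := Bool.and_eq_true_iff.mp (show (eqOn AM.ap AM.L [0, 1, 2, 3, 4, 5, 6] [0, 0] [] &&
    eqOn AM.ap AM.L [0, 1, 2, 3, 4, 5, 6] [1, 1] [2] && eqOn AM.ap AM.L [0, 1, 2, 3, 4, 5, 6] (repL [0, 1] 23) [] &&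
    allL rsX fun r => okW 2 r.1 && eqOn AM.ap AM.L [0, 1, 2, 3, 4, 5, 6] r.1 []) = true by decide +kernel)
  simp only [Bool.and_eq_true, allL_iff] at hM
  obtain ⟨ψ, hψ⟩ := sec hσ.1 hσ.2.1 (fun c h1 h2 => by
    have a := H27.central_pow_index_mem_commutator (φ.range.comap σ) (hσ.2.1 h1) (hσ.2.2 h1)
    rw [index_comap_of_surjective _ hσ.1, fin.2.2.1, show 173067389 = 2 * 86533694 + 1 from rfl, pow_succ, pow_mul, h2,
      one_pow, one_mul] at a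
    have b := xm.no2 hσ.2.1 hs (xm.ab hσ.1 hσ.2.1 hs 1728 ksX usX (by decide +kernel)) (by simpa using b7.eq hM.1.1.1)
      (by simpa using b7.eq hM.1.1.2) (k := 23) (by simpa using b7.pow hM.1.2) rsX
      (fun r hr => ⟨(hM.2 r hr).1, b7.eq (hM.2 r hr).2⟩) (by decide +kernel) hσ.1 h1
      (commutator_mono (comap_mono leH) (comap_mono leH) a)
    rwa [show 23 = 2 * 11 + 1 from rfl, pow_succ, pow_mul, h2, one_pow, one_mul] at b) hs
  refine eq_bot_iff.mpr fun z hz => ?_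
  obtain ⟨g, rfl⟩ := H27.surjective_of_lift_stem Function.surjective_id hσ hψ z
  rw [show g = 1 from (DFunLike.congr_fun hψ g).symm.trans hz, map_one]; exact one_mem _

end Cfsg.Agent.H15.J4
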