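import Cfsg.Agent.H15.J4.XC
set_option autoImplicit false
set_option maxRecDepth 100000

namespace Cfsg.Agent.H15.J4
open Cfsg.Agent.H15 Cfsg.Agent.H14

theorem nm1 : nmChk [[38]] = true := by decide +kernel
theorem nm2 : nmChk [[39], [40]] = true := by decide +kernel
theorem nm3 : nmChk [[41]] = true := by decide +kernel
theorem nm4 : nmChk [[42]] = true := by decide +kernel
theorem nm5 : nmChk [[43]] = true := by decide +kernel
theorem nm6 : nmChk [[44]] = true := by decide +kernel

end Cfsg.Agent.H15.J4
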