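import Cfsg.Agent.H15.J4.XN
import Cfsg.Agent.S2064
import Cfsg.Agent.S5394
set_option autoImplicit false
set_option maxRecDepth 100000

namespace Cfsg.Agent.H15.J4
open Cfsg.Agent.H15 Cfsg.Agent.H14 Subgroup

theorem nmU {U : List ℕ} {fs ts : List (List ℕ)}
    (H1 : all2 fs (fun f t => τ.eqW (appL U f) (appL (xw ce t) U)) ts = true) (H2 : nmChk fs = true) {v : ℕ}
    (hv : v < 2048) (hd : tb DM v = true) : M.w U * el v * (M.w U)⁻¹ ∉ EE :=
  ld.nmem H1 ((Bool.or_eq_true_iff.mp (allLt_iff.mp H2 v hv)).resolve_left (by simp [hd]))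

theorem lemW {h g : G} (hh : h ∈ φ.range) (H : g * (h⁻¹ * el 1728 * h) * g⁻¹ ∈ EE) : g ∈ φ.range := by
  obtain ⟨q, hq, ⟨η, hη⟩, e⟩ := cov.1.2 (g⁻¹ • ((1 : G) : G ⧸ φ.range))
  obtain ⟨d, hd, rfl⟩ := List.mem_map.mp hq
  obtain ⟨v, hv, h1, h2⟩ := xm.msk mskk (leH (mul_mem hh hη))
  have key : ∀ i, okS 10 (nthR Ws i) = true → η • dh.p i = g⁻¹ • ((1 : G) : G ⧸ φ.range) →
      g * η * (M.w (xw τ2 (dW 10 (nthR Ws i))))⁻¹ ∈ φ.range ∧
      M.w (xw τ2 (dW 10 (nthR Ws i))) * el v * (M.w (xw τ2 (dW 10 (nthR Ws i))))⁻¹ ∈ EE := fun i hi e => by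
    rw [hp i hi] at e
    generalize M.w (xw τ2 (dW 10 (nthR Ws i))) = U at e ⊢
    have a : g * η * U⁻¹ ∈ φ.range := (MulAction.stabilizer_quotient φ.range).le (by
      rw [MulAction.mem_stabilizer_iff, mul_smul, mul_smul, e, smul_inv_smul])
    refine ⟨a, ?_⟩
    have b : _ ∈ EE := (mem_normalizer_iff''.mp (hF a) _).mp H
    rw [← h2]
    convert b using 1; group
  simp only [ds, List.mem_cons, List.not_mem_nil, or_false] at hd
  rcases hd with rfl | rfl | rfl | rfl | rfl | rfl | rfl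
  · have a := (key 0 (by decide +kernel) e).1
    rw [show xw τ2 (dW 10 (nthR Ws 0)) = [] by decide +kernel, WM.w, lprod_nil, inv_one, mul_one] at a
    exact (mul_mem_cancel_right hη).mp a
  · exact absurd (key 1 (by decide +kernel) e).2 (nmU cu1 nm1 hv h1)
  · exact absurd (key 2 (by decide +kernel) e).2 (nmU cu2 nm2 hv h1)
  · exact absurd (key 3 (by decide +kernel) e).2 (nmU cu3 nm3 hv h1)
  · exact absurd (key 4 (by decide +kernel) e).2 (nmU cu4 nm4 hv h1)
  · exact absurd (key 5 (by decide +kernel) e).2 (nmU cu5 nm5 hv h1)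
  · exact absurd (key 6 (by decide +kernel) e).2 (nmU cu6 nm6 hv h1)

theorem cenW : centralizer {el 1728} ≤ φ.range := fun c hc => lemW (one_mem _) (by
  rw [inv_one, one_mul, mul_one, mem_centralizer_singleton_iff.mp hc, mul_inv_cancel_right]; exact xm.all _)

theorem lowW : ld.tab.Lower (gp ld.tab.e ([[0], [1]] ++ [])) [1728] (276 * 1) :=
  TabAct.Lower.step (hs := id) (ld.tab.lower_nil _) (by decide +kernel)

theorem nzw (α : MulAut G) : α (el 1728) ≠ el 1 := fun e => by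
  have a := card_cen_aut α (el 1728)
  rw [e, el1, qr.2.1] at a
  have c : centralizer {el 1728} ≤ φ.range ⊓ ld.tab.fx [1728] := fun c hc => ⟨cenW hc, ld.tab.mem_fx.mpr fun x hx => by
    rw [List.mem_singleton.mp hx]
    exact congrArg Cj.mk (mul_inv_eq_iff_eq_mul.mpr (mem_centralizer_singleton_iff.mp hc))⟩
  have b : Nat.card (centralizer {el 1728}) ≤ 1816657920 := (card_le_of_le c).trans
    ((lowW.mono leE).card_inf_le (by norm_num) (fin.2.2.2.1.le.trans (by norm_num)))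
  omega

theorem cj_of {u g k : List ℕ} {d r : ℕ} (H : cjChk u d r g k = true) : IsConj (el r) (φN (lprod AM.e u) * el d) := by
  simp only [cjChk, Bool.and_eq_true] at H
  have e := M.eqW H.2
  rw [lprod_appL, lprod_appL, lprod_appL, ← mul_assoc, ← eq_mul_inv_iff_mul_eq] at e
  refine isConj_iff.mpr ⟨M.w g * (φN (lprod AM.e k))⁻¹, ?_⟩
  rw [hNw H.1.1]
  refine Eq.trans ?_ e.symm
  rw [show lprod M.e (monoW ce 2 (tr aE k r)) = _ from (xm.cjw H.1.2 r).symm, WM.w]; group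

/-- the classes of elements of order at most two -/
def QI (x : G) : Prop := IsConj (el 1728) x ∨ IsConj (el 1) x ∨ x = 1

theorem QI.cj (g x : G) (h : QI x) : QI (g⁻¹ * x * g) :=
  have a : IsConj x (g⁻¹ * x * g) := isConj_iff.mpr ⟨g⁻¹, by rw [inv_inv]⟩
  h.imp (·.trans a) (Or.imp (·.trans a) fun e => by rw [e, mul_one, inv_mul_cancel])

theorem hM : AM.e 0 * AM.e 0 = 1 ∧ lprod AM.e uX * lprod AM.e uX = 1 ∧ AM.e 1 * AM.e 1 = AM.e 2 ∧
    ∀ r ∈ rrX, okW 2 r = true ∧ lprod AM.e r = 1 := by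
  have h := ordM
  simp only [Bool.and_eq_true, allL_iff] at h
  exact ⟨by simpa [lprod_appL] using b7.eq h.1.1.1, by simpa [lprod_appL] using b7.eq h.1.1.2,
    by simpa using b7.eq h.1.2, fun r hr => ⟨(h.2 r hr).1, b7.eq (h.2 r hr).2⟩⟩

theorem clM {m : M24} (h : m * m = 1) (h1 : m ≠ 1) : IsConj (lprod AM.e [0]) m ∨ IsConj (lprod AM.e uX) m := by
  have o : ∀ a : M24, a * a = 1 → a ≠ 1 → orderOf (a : Equiv.Perm GolayPt) = 2 := fun a b c => by
    rw [orderOf_coe]; exact orderOf_eq_prime ((pow_two a).trans b) c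
  have c : ∀ a : M24, a * a = 1 → a ≠ 1 → ((∀ p, a.1 p ≠ p) ↔ ∀ p, m.1 p ≠ p) → IsConj a m := fun a b c d => by
    obtain ⟨k, hk, e⟩ := S5394.result.2.2.2 a a.2 m m.2 (o a b c) (o m h h1) d
    exact isConj_iff.mpr ⟨⟨k, hk⟩, Subtype.ext e⟩
  by_cases f : ∀ p, m.1 p ≠ p
  · have x : ∀ p, (lprod AM.e [0]).1 p ≠ p := fun p e => by
      obtain ⟨x, hx, rfl⟩ := (m24tab_full _ _ : AM.Full) p
      exact (by decide +kernel : ∀ x < AM.n, tr AM.ap [0] x ≠ x) x hx ((AM.fix_iff (by decide +kernel) hx).mp e)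
    exact Or.inl (c _ (by simpa using hM.1) (fun e => x default (by rw [e]; rfl)) (iff_of_true x f))
  · obtain ⟨x, hx, y, a, b⟩ : ∃ x < AM.n, ∃ y < AM.n, tr AM.ap uX x = x ∧ neAt AM.ap AM.L AM.n y uX [] = true := by
      decide +kernel
    exact Or.inr (c _ hM.2.1 (AM.ne_of_neAt b.2)
      (iff_of_false (fun e => e (AM.c x) ((AM.fix_iff (by decide +kernel) hx).mpr b.1)) f))

theorem invol {s : G} (hs : s * s = 1) : QI s := by
  obtain ⟨g, hg⟩ := conj_into (H := φ.range) (by rw [fin.2.2.1]; norm_num) hs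
  obtain ⟨m, v, hv, e⟩ := xm.dec (leH hg)
  have e2 : φN m * el v * (φN m * el v) = 1 := by
    rw [← e]; simpa [mul_assoc] using congrArg (fun y => g⁻¹ * y * g) hs
  suffices QI (φN m * el v) by simpa [← e, mul_assoc] using QI.cj g⁻¹ _ this
  have e3 : m * m = 1 := xm.one (by
    have := inv_mem (mul_mem (xm.nrm m (xm.all v)) (xm.all v))
    rw [map_mul]
    convert this using 1
    calc _ = φN m * el v * (φN m * el v) * ((φN m)⁻¹ * el v * φN m * el v)⁻¹ := by group
      _ = _ := by rw [e2, one_mul])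
  by_cases h1 : m = 1
  · rw [h1, map_one, one_mul]
    refine coverF_spec covE (fun v => QI (el v)) (fun c hc f hf => ?_) ?_ v hv
    · obtain ⟨l, hl, rfl⟩ := mem_lets.mp hf
      exact xm.cj c l hl ▸ QI.cj _ _ hc
    · simp only [List.forall_mem_cons]
      exact ⟨.inr (.inr xm.zero), .inr (.inl (IsConj.refl _)), .inl (IsConj.refl _), List.forall_mem_nil _⟩
  have k : ∀ u, (∀ a ∈ EE, φN u * a * (φN u * a) = 1 → QI (φN u * a)) → IsConj u m → QI (φN m * el v) := fun u h c => by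
    obtain ⟨k, rfl⟩ := isConj_iff.mp c
    have := QI.cj (φN k)⁻¹ _ (h _ (xm.nrm k (xm.all v)) (by
      simpa [mul_assoc] using congrArg (fun y => (φN k)⁻¹ * y * φN k) e2))
    simpa [mul_assoc] using this
  rcases clM e3 h1 with c | c
  · refine k _ (xm.coset QI.cj (fun c hc => b7.commAll com0 c (List.mem_cons_of_mem _ hc)) (by simpa using hM.1) _ _ cos0 ?_) c
    simp only [List.forall_mem_cons]
    exact ⟨.inl (cj_of cj0_0), .inr (.inl (cj_of cj0_1728)), List.forall_mem_nil _⟩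
  · refine k _ (xm.coset QI.cj (fun c hc => b7.commAll com2 c (List.mem_cons_of_mem _ hc)) hM.2.1 _ _ cos2 ?_) c
    simp only [List.forall_mem_cons]
    exact ⟨.inr (.inl (cj_of cj2_0)), .inl (cj_of cj2_43), List.forall_mem_nil _⟩

theorem stabX {S T : Type*} [Group S] [Group T] [Finite S] {f : S →* T} {e : ℕ → S} {F : Subgroup T} {c : ℕ → T}
    {ap : ℕ → ℕ → ℕ} {n w k r : ℕ} (h : XM f e F c ap n) {us vs : List (List ℕ)} (H : stepOk ap 3 n id us [] w k = true)
    (hk : 0 < k) (hc : Nat.card S ≤ k * r) (hv : okS 3 vs = true) (hf : fixAt ap vs w = true)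
    (hr : r ≤ Nat.card (gp e vs)) : h.tab.fx [w] = gp e vs := by
  have a := (TabAct.Lower.step (hs := id) (h.tab.lower_nil _) H).mono le_top
  have b := a.card_inf_le (r := r) (by omega) (by rw [card_top, mul_one]; exact hc)
  rw [top_inf_eq] at b
  exact (eq_of_le_of_card_ge (le_inf (h.tab.gp_le_stabilizer hv (a.1 w List.mem_cons_self) hf) le_top) (b.trans hr)).symm

theorem hK0 : xm.tab.fx [1728] = gp AM.e vD :=
  stabX xm lowk (r := 887040) (by norm_num) (card_M24.le.trans (by norm_num)) (by decide +kernel) (by decide +kernel)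
    ((lv0.le_gp (by decide +kernel)).trans (congrArg (fun K : Subgroup M24 => Nat.card K) (cl_nth AM.e vD)).le)

theorem inn0 {γ : MulAut G} (h : ∀ x ∈ EE ⊔ φN.range, γ x = x) : IsInn γ := by
  have hk := Bool.and_eq_true_iff.mp tdk
  have e := M.eqW hk.2
  rw [lprod_appL, lprod_appL, lprod_appL, lprod_single, ← hE 3 (by decide), ← WM.w, ← WM.w, ← WM.w, ← hNw hk.1, ← el, ← el,
    ← mul_assoc] at e
  have e1 := congrArg γ e
  rw [map_mul, map_mul γ _ (E 3), h _ (mem_sup_left (xm.all _)),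
    h _ (mul_mem (mem_sup_right ⟨_, rfl⟩) (mem_sup_left (xm.all _))), eq_mul_inv_of_mul_eq e.symm] at e1
  have c := lemW (g := (E 3)⁻¹ * γ (E 3)) (leM ⟨lprod AM.e [1, 0, 2, 0, 2], rfl⟩) (by
    rw [xm.cjw rfl, mul_assoc _ (γ _), e1]
    convert xm.all (tr aE [1, 0, 2, 0, 2] 1728) using 1; group)
  have c1 := xm.cen1 (fun m hm => b7.cen_one (m24tab_full _ _) cenM
    ((gp_le.mpr (List.forall_mem_map.mpr fun u _ => by
      rw [xw, lprod_subst]; exact lprod_mem fun a _ => nthW_mem tsX a)).trans hm)) cenk (leH c) (fun u hu => by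
    have a := (M.commW (allL_iff.mp tcom u hu)).eq
    rw [show M.w [3] = E 3 from (lprod_single 3).trans (hE 3 (by decide)).symm, ← hNw (okS_iff.mp (Bool.and_eq_true_iff.mp cenk).1 u hu)] at a
    have b := congrArg γ a
    rw [map_mul, map_mul, h _ (mem_sup_right ⟨_, rfl⟩)] at b
    rw [mul_assoc, ← b, ← mul_assoc, ← mul_assoc, (show Commute _ (E 3) from a).inv_right.eq])
  refine ⟨1, (map_one _).trans (MulEquiv.ext fun x => ?_).symm⟩
  refine top.ge.trans ((cl_le (K := γ.toMonoidHom.eqLocus (MonoidHom.id G))).mpr fun l hl => ?_) (mem_top x)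
  rcases Nat.lt_succ_iff_lt_or_eq.mp hl with a | rfl
  · exact h _ (mem_sup_right ⟨_, (hφN l).trans (cut_lt a)⟩)
  · exact (inv_mul_eq_one.mp c1).symm

theorem inn1 {α : MulAut G} (ha : α (el 1728) = el 1728) : IsInn α := by
  have h1 := xm.char (cenW.trans leH) vok hK0 (fuel := 300) (b := 14)
    (bs := [14, 247, 570, 1895, 505, 172, 1323, 614, 1463, 269, 1131]) (by decide +kernel) ha
  obtain ⟨k, hk⟩ := xm.red S2064.result h1 fun m => leH (lemW (one_mem _) (by
    rw [inv_one, one_mul, mul_one, ← ha, ← map_inv, ← map_mul, ← map_mul]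
    exact h1 ⟨_, xm.nrm' m (xm.all _), rfl⟩))
  refine IsInn.of (φN k) ?_
  have h2 : EE.map (MulAut.conj (φN k) * α).toMonoidHom ≤ EE := by
    rintro _ ⟨a, b, rfl⟩
    exact xm.nrm' k (h1 ⟨a, b, rfl⟩)
  generalize MulAut.conj (φN k) * α = β at hk h2
  obtain ⟨b, -, h3 | h3⟩ := xm.coc hM.2.2.1 hM.2.2.2 cock (xm.cent centk h2 hk) hk
  · obtain ⟨c1, e1⟩ := isConj_iff.mp (cj_of cj0_0)
    obtain ⟨c2, e2⟩ := isConj_iff.mp (cj_of cj0_1728)
    rw [lprod_single] at e1 e2
    rw [xm.zero, mul_one] at e1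
    refine absurd ?_ (nzw (MulAut.conj c2⁻¹ * (MulAut.conj b * β) * MulAut.conj c1))
    rw [MulAut.mul_apply, MulAut.mul_apply, MulAut.conj_apply c1, e1, h3, ← e2, MulAut.conj_apply]; group
  · exact IsInn.of b (inn0 h3)

theorem inn (α : MulAut G) : IsInn α := by
  rcases invol (s := α (el 1728)) (by rw [← map_mul, ← xm.mul, Nat.xor_self, xm.zero, map_one]) with h | h | h
  · obtain ⟨c, e⟩ := isConj_iff.mp h
    exact IsInn.of c⁻¹ (inn1 (by rw [MulAut.mul_apply, ← e, MulAut.conj_apply]; group))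
  · obtain ⟨c, e⟩ := isConj_iff.mp h
    exact absurd (by rw [MulAut.mul_apply, ← e, MulAut.conj_apply]; group) (nzw (MulAut.conj c⁻¹ * α))
  · rw [map_eq_one_iff α α.injective, ← xm.zero] at h
    exact absurd (xm.inj _ (by decide) _ (by decide) h) (by decide)

end Cfsg.Agent.H15.J4
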