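import Cfsg.Agent.H15.J4.ZD
set_option autoImplicit false
set_option maxRecDepth 100000

namespace Cfsg.Agent.H15.J4
open Cfsg.Agent.H15 Cfsg.Agent.H14

def lnS6 : List (List ℕ) := [[0, 1, 0, 1, 0, 1, 0, 2, 0, 1, 0, 1, 0, 1, 0, 1, 0, 1, 0, 1, 0, 1, 0, 2, 0, 1, 0, 1, 0, 1, 0, 1, 0, 1, 0, 1, 0, 1, 0, 1, 0, 1]]
def lnT6 : List (List ℕ) := lnS6 ++ []
theorem lnk6 : stepOk AM.ap AM.L AM.n id lnS6 [] 7 3 = true := by decide +kernel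
def lnS5 : List (List ℕ) := [[0, 2, 0, 1, 0, 1, 0, 1, 0, 1, 0, 1, 0, 2, 0, 2, 0, 2, 0, 2, 0, 1, 0, 1, 0, 1, 0, 1, 0, 1, 0, 2, 0, 2, 0, 1, 0, 1, 0, 2], [0, 1, 0, 1, 0, 1, 0, 1, 0, 2, 0, 1, 0, 1, 0, 1, 0, 1, 0, 1, 0, 1, 0, 1, 0, 2, 0, 1, 0, 1, 0, 1, 0, 1, 0, 1, 0, 1, 0, 1, 0, 1], [0, 2, 0, 2, 0, 2, 0, 2, 0, 2, 0, 1, 0, 1, 0, 2, 0, 2, 0, 2, 0, 1, 0, 1, 0, 2, 0, 1, 0, 1, 0, 2, 0, 2, 0, 2, 0, 2, 0, 1, 0, 1, 0]]
def lnT5 : List (List ℕ) := lnS5 ++ lnT6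
theorem lnk5 : stepOk AM.ap AM.L AM.n id lnS5 lnT6 6 16 = true := by decide +kernel
def lnS4 : List (List ℕ) := [[0, 2, 0, 1, 0, 1, 0, 1, 0, 1, 0, 2, 0, 1, 0, 2, 0, 2, 0, 1, 0, 2, 0, 1, 0, 2, 0, 1, 0, 1, 0, 2, 0, 2, 0], [0, 1, 0, 2, 0, 2, 0, 1, 0, 1, 0, 2, 0, 2, 0, 2, 0, 2, 0, 2, 0, 1, 0, 1, 0, 1, 0, 1, 0, 1, 0, 2, 0, 2, 0, 1], [1, 0, 1, 0, 1, 0, 2, 0, 1, 0, 1, 0, 1, 0, 1, 0, 1, 0, 2, 0, 2, 0, 2, 0, 2, 0, 2, 0, 2, 0, 2, 0, 2, 0, 2, 0, 2]]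
def lnT4 : List (List ℕ) := lnS4 ++ lnT5
theorem lnk4 : stepOk AM.ap AM.L AM.n id lnS4 lnT5 5 20 = true := by decide +kernel
def lnS3 : List (List ℕ) := [[1, 0, 2, 0, 1, 0, 1, 0, 1, 0, 2, 0, 2, 0, 1, 0, 1, 0, 1, 0, 2], [2, 0, 1, 0, 1, 0, 1, 0, 2, 0, 2, 0, 2, 0, 1, 0, 1, 0, 2, 0, 1, 0, 1, 0]]
def lnT3 : List (List ℕ) := lnS3 ++ lnT4
theorem lnk3 : stepOk AM.ap AM.L AM.n id lnS3 lnT4 4 21 = true := by decide +kernel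
def lnS2 : List (List ℕ) := [[2, 0, 1, 0, 2, 0, 1, 0, 1, 0, 2, 0], [0, 1, 0, 1, 0, 1, 0, 1, 0, 1, 0, 2, 0, 2, 0, 2, 0, 1, 0]]
def lnT2 : List (List ℕ) := lnS2 ++ lnT3
theorem lnk2 : stepOk AM.ap AM.L AM.n id lnS2 lnT3 3 22 = true := by decide +kernel
def lnS1 : List (List ℕ) := [[1, 0, 1]]
def lnT1 : List (List ℕ) := lnS1 ++ lnT2
theorem lnk1 : stepOk AM.ap AM.L AM.n id lnS1 lnT2 2 23 = true := by decide +kernel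
def lnS0 : List (List ℕ) := [[0], [2]]
def lnT0 : List (List ℕ) := lnS0 ++ lnT1
theorem lnk0 : stepOk AM.ap AM.L AM.n id lnS0 lnT1 1 24 = true := by decide +kernel
theorem ln6 : AM.Lower (gp AM.e lnT6) [7] 3 := TabAct.Lower.step (k := 3) (AM.lower_nil _) lnk6
theorem ln5 : AM.Lower (gp AM.e lnT5) [6, 7] 48 := TabAct.Lower.step (k := 16) ln6 lnk5
theorem ln4 : AM.Lower (gp AM.e lnT4) [5, 6, 7] 960 := TabAct.Lower.step (k := 20) ln5 lnk4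
theorem ln3 : AM.Lower (gp AM.e lnT3) [4, 5, 6, 7] 20160 := TabAct.Lower.step (k := 21) ln4 lnk3
theorem ln2 : AM.Lower (gp AM.e lnT2) [3, 4, 5, 6, 7] 443520 := TabAct.Lower.step (k := 22) ln3 lnk2
theorem ln1 : AM.Lower (gp AM.e lnT1) [2, 3, 4, 5, 6, 7] 10200960 := TabAct.Lower.step (k := 23) ln2 lnk1
theorem ln0 : AM.Lower (gp AM.e lnT0) [1, 2, 3, 4, 5, 6, 7] 244823040 := TabAct.Lower.step (k := 24) ln1 lnk0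
theorem b17 : AM.Base ⊤ [1, 2, 3, 4, 5, 6, 7] := (ln0.mono le_top).base (card_top_eq.trans card_M24).le
theorem vok : okS AM.L vD = true := by decide +kernel
noncomputable def BD : TabAct M24 GolayPt := AM.comp vD vok
def lvS5 : List (List ℕ) := [[2, 0, 1, 1, 1, 0, 1, 1, 0, 2, 0, 2, 2, 0, 1, 1, 1, 0, 1, 1]]
def lvT5 : List (List ℕ) := lvS5 ++ []
theorem lvk5 : stepOk BD.ap BD.L BD.n id lvS5 [] 5 3 = true := by decide +kernel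
def lvS4 : List (List ℕ) := [[1, 1, 1, 1, 1, 1], [2, 0, 2, 2, 0, 1, 1, 1, 1, 0, 1, 1, 0, 1], [0, 1, 0, 2, 2, 0, 2, 0, 1, 0, 1, 1, 0, 2, 0]]
def lvT4 : List (List ℕ) := lvS4 ++ lvT5
theorem lvk4 : stepOk BD.ap BD.L BD.n id lvS4 lvT5 4 16 = true := by decide +kernel
def lvS3 : List (List ℕ) := [[0, 2, 0, 2, 2, 0, 1, 1, 0, 1, 0], [1, 1, 0, 2, 0, 1, 0, 1, 1, 1, 1]]
def lvT3 : List (List ℕ) := lvS3 ++ lvT4
theorem lvk3 : stepOk BD.ap BD.L BD.n id lvS3 lvT4 2 20 = true := by decide +kernel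
def lvS2 : List (List ℕ) := [[2, 0, 2, 0], [0, 2, 2, 0, 1, 0, 1, 0]]
def lvT2 : List (List ℕ) := lvS2 ++ lvT3
theorem lvk2 : stepOk BD.ap BD.L BD.n id lvS2 lvT3 3 21 = true := by decide +kernel
def lvS1 : List (List ℕ) := [[0], [1, 1]]
def lvT1 : List (List ℕ) := lvS1 ++ lvT2
theorem lvk1 : stepOk BD.ap BD.L BD.n id lvS1 lvT2 1 22 = true := by decide +kernel
def lvS0 : List (List ℕ) := [[2]]
def lvT0 : List (List ℕ) := lvS0 ++ lvT1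
theorem lvk0 : stepOk BD.ap BD.L BD.n id lvS0 lvT1 23 2 = true := by decide +kernel
theorem lv5 : BD.Lower (gp BD.e lvT5) [5] 3 := TabAct.Lower.step (k := 3) (BD.lower_nil _) lvk5
theorem lv4 : BD.Lower (gp BD.e lvT4) [4, 5] 48 := TabAct.Lower.step (k := 16) lv5 lvk4
theorem lv3 : BD.Lower (gp BD.e lvT3) [2, 4, 5] 960 := TabAct.Lower.step (k := 20) lv4 lvk3
theorem lv2 : BD.Lower (gp BD.e lvT2) [3, 2, 4, 5] 20160 := TabAct.Lower.step (k := 21) lv3 lvk2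
theorem lv1 : BD.Lower (gp BD.e lvT1) [1, 3, 2, 4, 5] 443520 := TabAct.Lower.step (k := 22) lv2 lvk1
theorem lv0 : BD.Lower (gp BD.e lvT0) [23, 1, 3, 2, 4, 5] 887040 := TabAct.Lower.step (k := 2) lv1 lvk0
theorem le22 : gp BD.e lvT1 ≤ Spor.M22.subgroupOf M24 := fun g hg =>
  ⟨⟨g.2, BD.gp_le_stabilizer (x := 23) (by decide +kernel) (by decide +kernel) (by decide +kernel) hg⟩,
    BD.gp_le_stabilizer (x := 0) (by decide +kernel) (by decide +kernel) (by decide +kernel) hg⟩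
theorem h22 : Spor.M22.subgroupOf M24 ≤ cl BD.e 3 :=
  (Subgroup.eq_of_le_of_card_ge le22 (((Nat.card_congr (Subgroup.subgroupOfEquivOfLe (inf_le_left.trans inf_le_left)).toEquiv).trans
    card_M22).le.trans lv1.le_card)).ge.trans (gp_le_cl (by decide +kernel))

end Cfsg.Agent.H15.J4
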