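import Cfsg.Agent.H15.J4.ZD
set_option autoImplicit false
set_option maxRecDepth 100000

namespace Cfsg.Agent.H15.J4
open Cfsg.Agent.H15 Cfsg.Agent.H14

set_option Elab.async false

theorem qsec : τ.secChk [[4]] qs 2 [[], [], [], [], [], [], [], [], [], [], [], []] [[[0], [], [], [], [], [], [], [], [], [], []], [[], [], [], [], [], [], [], [], [], []], [[0], [], [], [], [], [], [], [], []], [[], [], [], [], [], [], [], []], [[0], [], [], [], [], [], []], [[], [], [], [], [], []], [[0], [], [], [], []], [[], [], [], []], [[0], [], []], [[], []], [[0]], []] = true := by decide +kernel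
theorem n2k8 : RAll (fun l => okW 5 (nthW σ2 l) && eqOn NM.ap NM.L NM.bs (nthW σ2 l) (nthW τ2 l)) 8 11 := RAll.of (by decide +kernel)
theorem sN04 : allL ((BF.drop 6).take 3) (fun p => okW 4 p.1 && eqOn NM.ap NM.L NM.bs (repL p.1 p.2) []) = true := by decide +kernel
theorem NMk36 : RAll NM.okL 36 41 := RAll.of (by decide +kernel)
theorem qcx3 : exOk NM.ap NM.L (Nat.shiftLeft 1 (Nat.mul NM.w NM.m)) qcS3 qcT2 qcb3 256 qco3 = true := by decide +kernel
theorem labN : allL ([34] :: (qs ++ [[4]])) (fun w => setChk NM.ap AM.ap NM.L 3 (Nat.shiftLeft 1 (Nat.mul NM.w NM.m)) 24 o77 β77 w [] (List.range 77)) = true := by decide +kernel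
theorem lab1 : setChk NM.ap AM.ap NM.L 3 (Nat.shiftLeft 1 (Nat.mul NM.w NM.m)) 24 o77 β77 (nthW gD 1) (nthW vD 1) [0, 12, 61, 28, 40, 13, 11, 2, 55, 37, 49, 62, 60, 35, 9, 29, 27, 15, 59, 21, 43, 33, 20, 44, 68, 56, 46, 17, 36, 38, 51, 23, 50, 8, 5, 10, 14, 3, 16, 19, 54, 4, 18, 53, 6, 1, 41, 74, 69, 45, 34, 52, 7, 26, 25, 42, 22, 48, 75, 64, 32, 31, 30, 71, 24, 47, 73, 76, 39, 58, 63, 66, 65, 67, 72, 70, 57] = true := by decide +kernel
theorem zord : (τ.eqW (repL [4] 2) [] && neAt τ.ap τ.L τ.n (2 ^ 0) [4] []) = true := by decide +kernel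
theorem xne2 : neAt NM.ap NM.L (Nat.shiftLeft 1 (Nat.mul NM.w NM.m)) (2 ^ 0) [0] [] = true := by decide +kernel
theorem ecx3 : exOk NM.ap NM.L (Nat.shiftLeft 1 (Nat.mul NM.w NM.m)) ecS3 ecT2 ecb3 4 eco3 = true := by decide +kernel
theorem qcx0 : exOk NM.ap NM.L (Nat.shiftLeft 1 (Nat.mul NM.w NM.m)) qcS0 [] qcb0 2 qco0 = true := by decide +kernel

end Cfsg.Agent.H15.J4
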