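import Cfsg.Agent.H15.J4.ZD
set_option autoImplicit false
set_option maxRecDepth 100000

namespace Cfsg.Agent.H15.J4
open Cfsg.Agent.H15 Cfsg.Agent.H14

set_option Elab.async false

theorem qdual : τ.dualChk (qs ++ [[4]]) qs qdu = true := by decide +kernel
theorem n2k0 : RAll (fun l => okW 5 (nthW σ2 l) && eqOn NM.ap NM.L NM.bs (nthW σ2 l) (nthW τ2 l)) 0 8 := RAll.of (by decide +kernel)
theorem n1k : RAll (fun l => okW 4 (nthW σ1 l) && eqOn NM.ap NM.L NM.bs (nthW σ1 l) (nthW (idW 5) l)) 0 5 := RAll.of (by decide +kernel)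
theorem NMk20 : RAll NM.okL 20 26 := RAll.of (by decide +kernel)
theorem sN03 : allL ((BF.drop 5).take 1) (fun p => okW 4 p.1 && eqOn NM.ap NM.L NM.bs (repL p.1 p.2) []) = true := by decide +kernel
theorem cu4 : all2 [[42]] (fun f t => τ.eqW (appL (xw τ2 (dW 10 (nthR Ws 4))) f) (appL (xw ce t) (xw τ2 (dW 10 (nthR Ws 4))))) [[0]] = true := by decide +kernel
theorem lab0 : setChk NM.ap AM.ap NM.L 3 (Nat.shiftLeft 1 (Nat.mul NM.w NM.m)) 24 o77 β77 (nthW gD 0) (nthW vD 0) [1, 0, 8, 21, 22, 5, 6, 7, 2, 10, 9, 38, 44, 43, 45, 24, 36, 46, 18, 47, 48, 3, 4, 35, 15, 55, 54, 73, 28, 70, 66, 57, 32, 34, 33, 23, 16, 64, 11, 75, 53, 74, 42, 13, 12, 14, 17, 19, 20, 72, 50, 65, 68, 40, 26, 25, 59, 31, 58, 56, 71, 67, 62, 63, 37, 51, 30, 61, 52, 69, 29, 60, 49, 27, 41, 39, 76] = true := by decide +kernel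
theorem nord : (τ.eqW (repL [34] 3) [] && neAt τ.ap τ.L τ.n (2 ^ 0) [34] []) = true := by decide +kernel
theorem ecx0 : exOk NM.ap NM.L (Nat.shiftLeft 1 (Nat.mul NM.w NM.m)) ecS0 [] ecb0 2 eco0 = true := by decide +kernel
theorem ecx4 : exOk NM.ap NM.L (Nat.shiftLeft 1 (Nat.mul NM.w NM.m)) ecS4 ecT3 ecb4 4 eco4 = true := by decide +kernel
theorem qcx1 : exOk NM.ap NM.L (Nat.shiftLeft 1 (Nat.mul NM.w NM.m)) qcS1 qcT0 qcb1 4 qco1 = true := by decide +kernel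

end Cfsg.Agent.H15.J4
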