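import Cfsg.Agent.H15.J4.ZD
set_option autoImplicit false
set_option maxRecDepth 100000

namespace Cfsg.Agent.H15.J4
open Cfsg.Agent.H15 Cfsg.Agent.H14

set_option Elab.async false

theorem cv1 : Nat.ble (cntLt (2 ^ ce.length) fun v => Nat.blt 0 v && allL [[38]] fun f =>
      !neAt τ.ap τ.L τ.n (2 ^ 0) (appL (monoW ce 2 v) f) (appL f (monoW ce 2 v))) 7 = true := by decide +kernel
theorem esec : τ.secChk [] ce 2 [[], [], [], [], [], [], [], [], [], [], []] [[[], [], [], [], [], [], [], [], [], []], [[], [], [], [], [], [], [], [], []], [[], [], [], [], [], [], [], []], [[], [], [], [], [], [], []], [[], [], [], [], [], []], [[], [], [], [], []], [[], [], [], []], [[], [], []], [[], []], [[]], []] = true := by decide +kernel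
theorem NMk26 : RAll NM.okL 26 31 := RAll.of (by decide +kernel)
theorem sN02 : allL ((BF.drop 4).take 1) (fun p => okW 4 p.1 && eqOn NM.ap NM.L NM.bs (repL p.1 p.2) []) = true := by decide +kernel
theorem ecx1 : exOk NM.ap NM.L (Nat.shiftLeft 1 (Nat.mul NM.w NM.m)) ecS1 ecT0 ecb1 2 eco1 = true := by decide +kernel
theorem ecx5 : exOk NM.ap NM.L (Nat.shiftLeft 1 (Nat.mul NM.w NM.m)) ecS5 ecT4 ecb5 4 eco5 = true := by decide +kernel
theorem qcx2 : exOk NM.ap NM.L (Nat.shiftLeft 1 (Nat.mul NM.w NM.m)) qcS2 qcT1 qcb2 4 qco2 = true := by decide +kernel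

end Cfsg.Agent.H15.J4
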