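import Cfsg.Agent.H15.J4.ZD
set_option autoImplicit false
set_option maxRecDepth 100000

namespace Cfsg.Agent.H15.J4
open Cfsg.Agent.H15 Cfsg.Agent.H14

set_option Elab.async false

theorem cv2 : Nat.ble (cntLt (2 ^ ce.length) fun v => Nat.blt 0 v && allL [[39], [40]] fun f =>
      !neAt τ.ap τ.L τ.n (2 ^ 0) (appL (monoW ce 2 v) f) (appL f (monoW ce 2 v))) 1 = true := by decide +kernel
theorem sN06 : allL ((BF.drop 11).take 1) (fun p => okW 4 p.1 && eqOn NM.ap NM.L NM.bs (repL p.1 p.2) []) = true := by decide +kernel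
theorem zcen : allL (gD ++ ([34] :: (qs ++ [[4]]))) (fun w => eqOn NM.ap NM.L NM.bs (appL w [4]) (appL [4] w)) = true := by decide +kernel
theorem NMk31 : RAll NM.okL 31 36 := RAll.of (by decide +kernel)
theorem sN00 : allL ((BF.drop 0).take 3) (fun p => okW 4 p.1 && eqOn NM.ap NM.L NM.bs (repL p.1 p.2) []) = true := by decide +kernel
theorem cu6 : all2 [[44]] (fun f t => τ.eqW (appL (xw τ2 (dW 10 (nthR Ws 6))) f) (appL (xw ce t) (xw τ2 (dW 10 (nthR Ws 6))))) [[0]] = true := by decide +kernel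

end Cfsg.Agent.H15.J4
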