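import Cfsg.Agent.H15.J4.ZD
set_option autoImplicit false
set_option maxRecDepth 100000

namespace Cfsg.Agent.H15.J4
open Cfsg.Agent.H15 Cfsg.Agent.H14

set_option Elab.async false

theorem cv3 : Nat.ble (cntLt (2 ^ ce.length) fun v => Nat.blt 0 v && allL [[41]] fun f =>
      !neAt τ.ap τ.L τ.n (2 ^ 0) (appL (monoW ce 2 v) f) (appL f (monoW ce 2 v))) 0 = true := by decide +kernel
theorem qn0 : τ.normChk [[35]] (qs ++ [[4]]) [[[3, 4, 6, 7, 9, 10, 11, 12], [4, 5, 8, 9, 10, 12], [1, 5, 6, 8, 10, 12], [4, 8, 10], [0, 3, 6, 7, 9, 10, 11, 12], [0, 1, 2, 7, 9, 10, 11, 12], [1, 4, 5, 6, 8, 9, 10, 12], [1, 3, 5, 7, 9, 12], [0, 1, 4, 5, 6, 7, 8, 10, 11, 12], [0, 2, 3, 7, 9, 10, 11], [1, 4, 5, 8, 9, 12], [0, 1, 2, 3, 4, 5, 7, 8, 9, 12], [12]]] = true := by decide +kernel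
theorem elin0 : τ.linChk [] ce 128 2 11 [0] [128, 1, 268435456, 34359738368, 16384, 2097152, 72057594037927936, 9223372036854775808, 4398046511104, 562949953421312, 1180663682709495742464] [[], [], [], [], [], [], [], [], [], [], []] = true := by decide +kernel
theorem NMk0 : RAll NM.okL 0 9 := RAll.of (by decide +kernel)
theorem NMk43 : RAll NM.okL 43 44 := RAll.of (by decide +kernel)
theorem cu2 : all2 [[39], [40]] (fun f t => τ.eqW (appL (xw τ2 (dW 10 (nthR Ws 2))) f) (appL (xw ce t) (xw τ2 (dW 10 (nthR Ws 2))))) [[0], [2]] = true := by decide +kernel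

end Cfsg.Agent.H15.J4
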