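import Cfsg.Agent.H15.J4.ZD
set_option autoImplicit false
set_option maxRecDepth 100000

namespace Cfsg.Agent.H15.J4
open Cfsg.Agent.H15 Cfsg.Agent.H14

set_option Elab.async false

theorem cv4 : Nat.ble (cntLt (2 ^ ce.length) fun v => Nat.blt 0 v && allL [[42]] fun f =>
      !neAt τ.ap τ.L τ.n (2 ^ 0) (appL (monoW ce 2 v) f) (appL f (monoW ce 2 v))) 0 = true := by decide +kernel
theorem qn1 : τ.normChk [[37]] (qs ++ [[4]]) [[[6, 10, 12], [1, 3, 5, 7], [4, 6, 10, 12], [0, 1, 5, 6, 8, 9, 10], [4, 6, 8], [0, 4, 7, 11, 12], [0, 4], [1, 8, 10, 12], [4, 6, 8, 10], [2, 3, 6, 7, 8, 9, 10, 11, 12], [2, 4, 8, 12], [3, 4, 6, 8, 10], [12]]] = true := by decide +kernel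
theorem elin1 : τ.linChk [] ce 128 2 11 [1] [1, 16384, 2097152, 128, 4398046511104, 562984581611648, 562949953421312, 268435456, 72057594040041472, 1180591620717411303424, 1189815555738581352448] [[], [], [], [], [], [], [], [], [], [], []] = true := by decide +kernel
theorem NMk9 : RAll NM.okL 9 15 := RAll.of (by decide +kernel)
theorem cu5 : all2 [[43]] (fun f t => τ.eqW (appL (xw τ2 (dW 10 (nthR Ws 5))) f) (appL (xw ce t) (xw τ2 (dW 10 (nthR Ws 5))))) [[0]] = true := by decide +kernel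
theorem cu3 : all2 [[41]] (fun f t => τ.eqW (appL (xw τ2 (dW 10 (nthR Ws 3))) f) (appL (xw ce t) (xw τ2 (dW 10 (nthR Ws 3))))) [[0]] = true := by decide +kernel

end Cfsg.Agent.H15.J4
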