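import Cfsg.Agent.H15.J4.ZD
set_option autoImplicit false
set_option maxRecDepth 100000

namespace Cfsg.Agent.H15.J4
open Cfsg.Agent.H15 Cfsg.Agent.H14

set_option Elab.async false

theorem cv5 : Nat.ble (cntLt (2 ^ ce.length) fun v => Nat.blt 0 v && allL [[43]] fun f =>
      !neAt τ.ap τ.L τ.n (2 ^ 0) (appL (monoW ce 2 v) f) (appL f (monoW ce 2 v))) 0 = true := by decide +kernel
theorem qn2 : τ.normChk [[36]] (qs ++ [[4]]) [[[0, 2, 6], [2, 4, 7], [0, 8, 10], [8, 11], [0, 2], [3, 4, 5, 7, 9, 10, 11], [0, 4, 8, 12], [1, 2, 3, 5, 8, 9, 10, 12], [2, 8, 12], [2, 5, 6, 8, 9, 10, 11, 12], [4, 8], [1, 2, 3, 6, 8, 9, 10], [12]]] = true := by decide +kernel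
theorem elin2 : τ.linChk [] ce 128 2 11 [2] [1, 2097152, 128, 16384, 562949953421312, 567382361768064, 268435456, 4398046511104, 72057594037944448, 1189815555738581352448, 9223372036854775808] [[], [], [], [], [], [], [], [], [], [], []] = true := by decide +kernel
theorem sN05 : allL ((BF.drop 9).take 2) (fun p => okW 4 p.1 && eqOn NM.ap NM.L NM.bs (repL p.1 p.2) []) = true := by decide +kernel
theorem NMk41 : RAll NM.okL 41 43 := RAll.of (by decide +kernel)
theorem NMk44 : RAll NM.okL 44 45 := RAll.of (by decide +kernel)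

end Cfsg.Agent.H15.J4
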