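import Cfsg.Agent.H15.J4.ZD
set_option autoImplicit false
set_option maxRecDepth 100000

namespace Cfsg.Agent.H15.J4
open Cfsg.Agent.H15 Cfsg.Agent.H14

set_option Elab.async false

theorem cv6 : Nat.ble (cntLt (2 ^ ce.length) fun v => Nat.blt 0 v && allL [[44]] fun f =>
      !neAt τ.ap τ.L τ.n (2 ^ 0) (appL (monoW ce 2 v) f) (appL f (monoW ce 2 v))) 0 = true := by decide +kernel
theorem qn3 : τ.normChk [[34]] (qs ++ [[4]]) [[[0, 6, 12], [2, 3, 6, 7, 9, 10], [0, 4, 6, 8], [0, 3, 6, 9, 10], [4, 10], [3, 6, 8, 11, 12], [0, 12], [0, 1, 2, 3, 4, 7, 8, 12], [0, 2, 8, 10, 12], [3, 4, 6, 12], [4, 12], [0, 2, 5, 9, 11], [12]]] = true := by decide +kernel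
theorem elin3 : τ.linChk [] ce 128 2 11 [4] [1, 128, 16384, 2097152, 268435456, 34359738368, 4398046511104, 562949953421312, 72057594037927936, 9223372036854775808, 1180591620717411303424] [[], [], [], [], [], [], [], [], [], [], []] = true := by decide +kernel
theorem NMk15 : RAll NM.okL 15 20 := RAll.of (by decide +kernel)
theorem sN01 : allL ((BF.drop 3).take 1) (fun p => okW 4 p.1 && eqOn NM.ap NM.L NM.bs (repL p.1 p.2) []) = true := by decide +kernel
theorem cu1 : all2 [[38]] (fun f t => τ.eqW (appL (xw τ2 (dW 10 (nthR Ws 1))) f) (appL (xw ce t) (xw τ2 (dW 10 (nthR Ws 1))))) [[0]] = true := by decide +kernel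
theorem NMkc : NM.okC = true := by decide +kernel
theorem lab2 : setChk NM.ap AM.ap NM.L 3 (Nat.shiftLeft 1 (Nat.mul NM.w NM.m)) 24 o77 β77 (nthW gD 2) (nthW vD 2) [0, 45, 7, 37, 41, 34, 44, 52, 33, 14, 35, 6, 1, 5, 36, 17, 38, 27, 42, 39, 22, 19, 56, 31, 64, 54, 53, 16, 3, 15, 62, 61, 60, 21, 50, 13, 28, 9, 29, 68, 4, 46, 55, 20, 23, 49, 26, 65, 57, 10, 32, 30, 51, 43, 40, 8, 25, 76, 69, 18, 12, 2, 11, 70, 59, 72, 71, 73, 24, 48, 75, 63, 74, 66, 47, 58, 67] = true := by decide +kernel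
theorem lab1k : (allLt (lenL o77) (fun j => Nat.blt (nth o77 j) (Nat.shiftLeft 1 (Nat.mul NM.w NM.m)) && Nat.beq (idxL o77 (nth o77 j)) j) &&
    all2 [1, 2, 3, 4, 5, 6, 7] (fun b s => allL s (fun j => Nat.blt j (lenL o77) && tb (nth β77 j) b) &&
      allLt 24 fun x => Nat.beq x b || !allL s fun j => tb (nth β77 j) x) js77) = true := by decide +kernel
theorem ecx2 : exOk NM.ap NM.L (Nat.shiftLeft 1 (Nat.mul NM.w NM.m)) ecS2 ecT1 ecb2 2 eco2 = true := by decide +kernel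
theorem ecx6 : exOk NM.ap NM.L (Nat.shiftLeft 1 (Nat.mul NM.w NM.m)) ecS6 ecT5 ecb6 4 eco6 = true := by decide +kernel

end Cfsg.Agent.H15.J4
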