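import Cfsg.Agent.H15.J4.G
import Cfsg.Agent.H15.J4.ZB
import Cfsg.Agent.H15.J4.ZS0
import Cfsg.Agent.H15.J4.ZS1
import Cfsg.Agent.H15.J4.ZS2
import Cfsg.Agent.H15.J4.ZS3
import Cfsg.Agent.H15.J4.ZS4
import Cfsg.Agent.H15.J4.ZS5
import Cfsg.Agent.H15.J4.ZS6
import Cfsg.Agent.H15.J4.ZS7
set_option autoImplicit false
set_option maxRecDepth 100000

namespace Cfsg.Agent.H15.J4
open Cfsg.Agent.H15 Cfsg.Agent.H14

theorem NMok : NM.Ok := ⟨NMkc, (RAll.append (RAll.append (RAll.append NMk0 NMk9) (RAll.append NMk15 (RAll.append NMk20 NMk26))) (RAll.append (RAll.append NMk31 NMk36) (RAll.append NMk41 (RAll.append NMk43 NMk44))))⟩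
noncomputable def NMA := NMok.tab
theorem NMt : MT NMA NM.bs NM.iw := NMok.mt
theorem sN0hi : ∀ l, cut 4 NMA.e (invT fT 4 l) = (cut 4 NMA.e l)⁻¹ := NMt.hi (by decide +kernel)
theorem sN0 : Sat (cut 4 NMA.e) (invT fT 4) BF :=
  (show (BF.drop 0).take 3 ++ ((BF.drop 3).take 1 ++ ((BF.drop 4).take 1 ++ ((BF.drop 5).take 1 ++ ((BF.drop 6).take 3 ++ ((BF.drop 9).take 2 ++ ((BF.drop 11).take 1)))))) = BF by decide +kernel) ▸ ((NMt.sat sN0hi sN00).app ((NMt.sat sN0hi sN01).app ((NMt.sat sN0hi sN02).app ((NMt.sat sN0hi sN03).app ((NMt.sat sN0hi sN04).app ((NMt.sat sN0hi sN05).app (NMt.sat sN0hi sN06)))))))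
instance nzN : NeZero NM.p := ⟨by decide⟩
noncomputable def ψ2 : G →* GL (Fin NM.m) (ZMod NM.p) := (hom sN0).choose
theorem hψ2 : ∀ l, ψ2 (E l) = cut 4 NMA.e l := (hom sN0).choose_spec
theorem ψ2_inj : Function.Injective ψ2 :=
  have := simple
  inj_simple ψ2 (a := E 0) ((hψ2 0).trans_ne ((lprod_single (E := NMA.e) 0).symm.trans_ne (NMA.ne_of_neAt xne2)))
theorem hψ3 (l : ℕ) : ψ2 (E1 l) = cut 5 NMA.e l := (map_sub NMt.base hψ2 (σ := σ1) n1k (by decide) l).trans (lprod_idW 5 l)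
theorem rψ2 : ∀ l, NMA.e l ∈ ψ2.range :=
  NMt.mem (a := 5) (fun l hl => ⟨E1 l, (hψ3 l).trans (cut_lt hl)⟩) (by decide +kernel)
noncomputable def AG := NMA.back ψ2 rψ2
theorem bG : AG.Base ⊤ NM.bs := NMt.base.back ψ2_inj rψ2
noncomputable def M : WM τ G := bG.wm
theorem hτ (l : ℕ) : E2 l = M.w (nthW τ2 l) :=
  ψ2_inj ((map_sub NMt.base hψ3 (σ := σ2) (RAll.append n2k0 n2k8) (by decide) l).trans (NMA.back_w ψ2 rψ2 _).symm)
theorem hw (u : List ℕ) : lprod E2 u = M.w (xw τ2 u) := by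
  rw [xw, WM.w, lprod_subst]; exact congrArg (lprod · u) (funext hτ)
theorem hp (i : ℕ) (h : okS 10 (nthR Ws i) = true) :
    dh.p i = (M.w (xw τ2 (dW 10 (nthR Ws i))))⁻¹ • ((1 : G) : G ⧸ φ.range) := hw _ ▸ dpt_eq (E := E2) h
theorem ecd0 : 2 * 1 ∣ Nat.card (gp AG.e ecT0) := TabAct.dvd_step (A := AG) (k := 2) (m := 1) dvd_one_gp ecx0
theorem ecd1 : 2 * 2 ∣ Nat.card (gp AG.e ecT1) := TabAct.dvd_step (A := AG) (k := 2) (m := 2) ecd0 ecx1
theorem ecd2 : 2 * 4 ∣ Nat.card (gp AG.e ecT2) := TabAct.dvd_step (A := AG) (k := 2) (m := 4) ecd1 ecx2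
theorem ecd3 : 4 * 8 ∣ Nat.card (gp AG.e ecT3) := TabAct.dvd_step (A := AG) (k := 4) (m := 8) ecd2 ecx3
theorem ecd4 : 4 * 32 ∣ Nat.card (gp AG.e ecT4) := TabAct.dvd_step (A := AG) (k := 4) (m := 32) ecd3 ecx4
theorem ecd5 : 4 * 128 ∣ Nat.card (gp AG.e ecT5) := TabAct.dvd_step (A := AG) (k := 4) (m := 128) ecd4 ecx5
theorem ecd6 : 4 * 512 ∣ Nat.card (gp AG.e ecT6) := TabAct.dvd_step (A := AG) (k := 4) (m := 512) ecd5 ecx6
theorem qcd0 : 2 * 1 ∣ Nat.card (gp AG.e qcT0) := TabAct.dvd_step (A := AG) (k := 2) (m := 1) dvd_one_gp qcx0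
theorem qcd1 : 4 * 2 ∣ Nat.card (gp AG.e qcT1) := TabAct.dvd_step (A := AG) (k := 4) (m := 2) qcd0 qcx1
theorem qcd2 : 4 * 8 ∣ Nat.card (gp AG.e qcT2) := TabAct.dvd_step (A := AG) (k := 4) (m := 8) qcd1 qcx2
theorem qcd3 : 256 * 32 ∣ Nat.card (gp AG.e qcT3) := TabAct.dvd_step (A := AG) (k := 256) (m := 32) qcd2 qcx3
theorem sub {us ws : List (List ℕ)} (h : allL us (fun w => allL w fun a => memW ws [a]) = true) :
    Nat.card (gp AG.e us) ∣ Nat.card (gp M.e ws) :=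
  Subgroup.card_dvd_of_le (gp_le.mpr fun w hw => lprod_mem (letters_mem_gp h w hw))
theorem ld : M.LD ce gE Css 2 :=
  ⟨M.sec (M.le_N_nil _) _ _ esec, by decide, by decide, Nat.le_of_dvd Nat.card_pos (ecd6.trans (sub (by decide +kernel))),
    .cons (M.lin (M.le_N_nil ⊤ trivial) _ elin0) (.cons (M.lin (M.le_N_nil ⊤ trivial) _ elin1)
      (.cons (M.lin (M.le_N_nil ⊤ trivial) _ elin2) (.cons (M.lin (M.le_N_nil ⊤ trivial) _ elin3) .nil)))⟩
theorem hF : φ.range ≤ Subgroup.normalizer (gp M.e ce : Set G) :=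
  rφ.le.trans ((le4 sH).trans (le_trans (gp_le.mpr fun w h => by
    have := (by decide +kernel : ∀ w ∈ [[0], [1], [2], [3]], okW 10 w = true ∧ xw τ2 w ∈ gE) w h
    rw [lprod_cut this.1, hw]; exact mem_gp this.2) ld.le_N))
theorem mφ (l : ℕ) (h : l < 10) : φ (A.e l) = M.w (nthW τ2 l) := (hφ l).trans ((cut_lt h).trans (hτ l))
theorem hz : φ (A.e 3) = M.w [4] := mφ 3 (by decide)
theorem zo : orderOf (M.w [4]) = 2 := M.orderW Nat.prime_two zord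
theorem lowE : ld.tab.Lower (gp ld.tab.e ([[0], [1]] ++ [])) [1] (1771 * 1) :=
  TabAct.Lower.step (hs := id) (ld.tab.lower_nil _) (by decide +kernel)
theorem leE : gp ld.tab.e ([[0], [1]] ++ []) ≤ φ.range :=
  gp_le.mpr (List.forall_mem_cons.mpr ⟨mul_mem ⟨_, mφ 0 (by decide)⟩ (one_mem _),
    List.forall_mem_cons.mpr ⟨mul_mem ⟨_, mφ 1 (by decide)⟩ (one_mem _), List.forall_mem_nil _⟩⟩)
theorem ptE : ld.tab.c 1 = Cj.mk (φ (A.e 3)) :=
  congrArg Cj.mk ((congrArg M.w (by decide +kernel : monoW ce 2 1 = [4])).trans hz.symm)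
theorem cc : Nat.card (Subgroup.centralizer {A.e 3}) ≤ 283115520 :=
  cen_le_of_low fin.2.2.2.2.1 (lowE.mono leE) ptE (by norm_num) (fin.2.2.2.1.le.trans (by norm_num))
theorem orb {d : DL} (hd : d ∈ ds) (h : okS 10 (nthR Ws d.i) = true) {k m f : ℕ}
    (hk : {s | s ∈ gp M.e ce ∧ M.w (xw τ2 (dW 10 (nthR Ws d.i))) * s * (M.w (xw τ2 (dW 10 (nthR Ws d.i))))⁻¹ ∈ gp M.e ce ∧
      s ≠ 1}.ncard ≤ k) (hm : m ≤ Nat.card (gp A.e d.T)) (H : k * 283115520 < m * (f + 1)) :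
    OrbLe φ (A.e 3) ((1 : G) : G ⧸ φ.range) (dh.p d.i) f :=
  OrbLe.cnt fin.2.2.2.2.1 (MulAction.stabilizer_quotient _) hF (hz ▸ mem_gp (by decide))
    (fun e => by have := zo; rw [← hz, e, map_one, orderOf_one] at this; omega) (hp _ h) (cov.2 d hd) hk cc hm H
theorem orb1 : OrbLe φ (A.e 3) ((1 : G) : G ⧸ φ.range) (dh.p d1.i) 60 :=
  orb (by simp [ds]) (by decide +kernel) (ld.cnt _ _ _ cu1 cv1) lo1_1.le_card (by norm_num)
theorem orb2 : OrbLe φ (A.e 3) ((1 : G) : G ⧸ φ.range) (dh.p d2.i) 16 :=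
  orb (by simp [ds]) (by decide +kernel) (ld.cnt _ _ _ cu2 cv2) lo2_0.le_card (by norm_num)
theorem orb3 : OrbLe φ (A.e 3) ((1 : G) : G ⧸ φ.range) (dh.p d3.i) 0 :=
  orb (by simp [ds]) (by decide +kernel) (ld.cnt _ _ _ cu3 cv3) lo3_0.le_card (by norm_num)
theorem orb4 : OrbLe φ (A.e 3) ((1 : G) : G ⧸ φ.range) (dh.p d4.i) 0 :=
  orb (by simp [ds]) (by decide +kernel) (ld.cnt _ _ _ cu4 cv4) lo4_0.le_card (by norm_num)
theorem orb5 : OrbLe φ (A.e 3) ((1 : G) : G ⧸ φ.range) (dh.p d5.i) 0 :=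
  orb (by simp [ds]) (by decide +kernel) (ld.cnt _ _ _ cu5 cv5) lo5_0.le_card (by norm_num)
theorem orb6 : OrbLe φ (A.e 3) ((1 : G) : G ⧸ φ.range) (dh.p d6.i) 0 :=
  orb (by simp [ds]) (by decide +kernel) (ld.cnt _ _ _ cu6 cv6) lo6_0.le_card (by norm_num)
theorem cen : Nat.card (Subgroup.centralizer {M.w [4]}) ≤ 24576 * 887040 :=
  hz ▸ (cov.1.cen_le2 fin.2.2.2.2.1 (MulAction.stabilizer_quotient _) [1, 60, 16, 0, 0, 0, 0]
    (.cons (OrbLe.triv cov.1 List.mem_cons_self) (.cons orb1 (.cons orb2 (.cons orb3 (.cons orb4 (.cons orb5 (.cons orb6 .nil)))))))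
    cc).trans (by decide)
theorem hC {us : List (List ℕ)} (h : ∀ u ∈ us, u ∈ gD ++ ([34] :: (qs ++ [[4]]))) : gp M.e us ≤ Subgroup.centralizer {M.w [4]} :=
  (gp_le.mpr fun _ a => mem_gp (h _ a)).trans (bG.le_cen zcen)
theorem hQN : gp M.e (qs ++ [[4]]) ≤ gp M.e ([34] :: (qs ++ [[4]])) := gp_le.mpr fun _ h => mem_gp (List.mem_cons_of_mem _ h)
theorem dQ : 256 * 32 ∣ Nat.card (gp M.e (qs ++ [[4]])) := qcd3.trans (sub (by decide +kernel))
theorem qr : cl (fun l => M.w (nthW gD l)) 3 ⊔ gp M.e ([34] :: (qs ++ [[4]])) = Subgroup.centralizer {M.w [4]} ∧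
    Nat.card (Subgroup.centralizer {M.w [4]}) = 24576 * 887040 ∧ Nat.card ((cl BD.e 3).map (MonoidHom.id _)) = 887040 ∧
    QR (MonoidHom.id _) (setRel AG AM o77 β77) (Subgroup.centralizer {M.w [4]}) (gp M.e ([34] :: (qs ++ [[4]])))
      ((cl BD.e 3).map (MonoidHom.id _)) :=
  have hf : AM.Full := m24tab_full _ _
  qr_of_rel _ (setRel_one hf b17 js77 lab1k) (L := 3)
    (fun l hl => by interval_cases l; exacts [setRel_of hf lab0, setRel_of hf lab1, setRel_of hf lab2])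
    ((cl_nth M.e gD).le.trans (hC (by decide))) (hC (by decide))
    (gp_le.mpr fun w hw => mem_preR_bot.mpr (setRel_of (A := AG) (v := []) hf (allL_iff.mp labN w hw))) cen
    (Nat.le_of_dvd Nat.card_pos (Nat.Coprime.mul_dvd_of_dvd_of_dvd (m := 3) (by norm_num)
      (M.orderW Nat.prime_three nord ▸ Subgroup.orderOf_dvd_natCard _ (mem_gp List.mem_cons_self))
      (dQ.trans (Subgroup.card_dvd_of_le hQN)))) (by rw [Subgroup.map_id]; exact lv0.le_gp (by decide +kernel))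
theorem xsp : IsExtraspecial 2 (gp M.e (qs ++ [[4]])) ∧ Nat.card (gp M.e (qs ++ [[4]])) ≤ 2 ^ qs.length * 2 :=
  M.xs Nat.prime_two (M.sec (le_N_of_comm fun x hx y hy => by
    obtain ⟨k, rfl⟩ := (M.gp_one _).le hy
    exact (show Commute x _ from Subgroup.mem_centralizer_singleton_iff.mp (hC (by decide) hx)).zpow_right k) _ _ qsec)
    zo (hC (by decide)) qdu qdual (lt_of_lt_of_le (by norm_num) (Nat.le_of_dvd Nat.card_pos dQ))
theorem nQ : Subgroup.centralizer {M.w [4]} ≤ Subgroup.normalizer (gp M.e (qs ++ [[4]]) : Set G) :=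
  qr.1.ge.trans (sup_le (cl_le.mpr fun l hl => by
    interval_cases l
    exacts [M.gp_le_N _ qn0 (mem_gp List.mem_cons_self), M.gp_le_N _ qn1 (mem_gp List.mem_cons_self),
      M.gp_le_N _ qn2 (mem_gp List.mem_cons_self)])
    (gp_le.mpr (List.forall_mem_cons.mpr ⟨M.gp_le_N _ qn3 (mem_gp List.mem_cons_self),
      fun _ hw => Subgroup.le_normalizer (mem_gp hw)⟩)))
theorem shape : ∃ z : G, orderOf z = 2 ∧ ∃ Q N M : Subgroup (Subgroup.centralizer ({z} : Set G)), Q.Normal ∧ N.Normal ∧ Q ≤ N ∧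
    N ≤ M ∧ Nat.card Q = 2 ^ 13 ∧ IsExtraspecial 2 Q ∧ Nat.card N = 3 * 2 ^ 13 ∧ M.index = 2 ∧
    ∃ _ : (N.subgroupOf M).Normal, IsM22 (M ⧸ N.subgroupOf M) :=
  ⟨_, zo, j4_shape qr.2.2.2.qh qr.2.2.1 (h22.trans (Subgroup.map_id _).ge) qr.2.1 hQN nQ
    (le_antisymm xsp.2 (Nat.le_of_dvd Nat.card_pos dQ)) xsp.1⟩

end Cfsg.Agent.H15.J4
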